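import Cfsg.Agent.Mrg.Omega.NO1.Comp.Glue
import Cfsg.Agent.Mrg.Omega.NO1.Cfg
import Cfsg.Agent.Mrg.Omega.NO1.Types


/-!
# `PlusQ` from the tensor decomposition (project OMEGA, N1, THEOREM COMP #17539, (7); helper168)

* `toM b b'` : `W ⊗ W' ≃ M₂(K)`;
* `plusQ_of` : `V = W ⊗ W'`, `dim W = dim W' = 2`, all maps of determinant 1 of `W` and `W'` are induced, every
  element of `P` is pure or interchanges the factors, one interchanges : `PlusQ K P V`.
-/

set_option autoImplicit false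
set_option linter.unusedSectionVars false

namespace Cfsg.Agent.Omega.NO1.Comp

open Module TensorProduct Matrix

universe u

section coord

variable {K : Type*} [Field K] {W W' : Type*} [AddCommGroup W] [Module K W] [AddCommGroup W'] [Module K W']

/-- coordinates of `W ⊗ W'` -/
noncomputable def toM (b : Basis (Fin 2) K W) (b' : Basis (Fin 2) K W') (x : W ⊗[K] W') : Matrix (Fin 2) (Fin 2) K :=
  Matrix.of fun i j => (b.tensorProduct b').repr x (i, j)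

variable (b : Basis (Fin 2) K W) (b' : Basis (Fin 2) K W')

theorem toM_tmul (w : W) (w' : W') : toM b b' (w ⊗ₜ w') = vecMulVec (b.repr w) (b'.repr w') := by
  ext i j
  simp [toM, vecMulVec_apply, Basis.tensorProduct_repr_tmul_apply, mul_comm]

theorem toM_add (x y : W ⊗[K] W') : toM b b' (x + y) = toM b b' x + toM b b' y := by
  ext i j
  simp [toM]

theorem toM_zero : toM b b' (0 : W ⊗[K] W') = 0 := by
  ext i j
  simp [toM]

theorem toM_surj (X : Matrix (Fin 2) (Fin 2) K) : ∃ x, toM b b' x = X := by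
  refine ⟨(b.tensorProduct b').repr.symm (Finsupp.equivFunOnFinite.symm fun p => X p.1 p.2), ?_⟩
  ext i j
  simp [toM]

theorem toM_inj {x y : W ⊗[K] W'} (h : toM b b' x = toM b b' y) : x = y := by
  apply (b.tensorProduct b').repr.injective
  ext ⟨i, j⟩
  exact congrFun (congrFun h i) j

/-- the matrix of a semilinear map -/
theorem exists_mat {σ : K ≃+* K} {V₁ V₂ : Type*} [AddCommGroup V₁] [Module K V₁] [AddCommGroup V₂] [Module K V₂]
    (c : Basis (Fin 2) K V₁) (d : Basis (Fin 2) K V₂) (α : V₁ ≃+ V₂) (h : ∀ (k : K) v, α (k • v) = σ k • α v) :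
    ∃ P : Matrix (Fin 2) (Fin 2) K, P.det ≠ 0 ∧ ∀ w, (d.repr (α w) : Fin 2 → K) = P *ᵥ (fun i => σ (c.repr w i)) := by
  have h2 : ∀ w, (d.repr (α w) : Fin 2 → K) =
      (Matrix.of fun i j => d.repr (α (c j)) i) *ᵥ (fun i => σ (c.repr w i)) := by
    intro w
    have h1 : w = ∑ j, c.repr w j • c j := (c.sum_repr w).symm
    ext i
    conv_lhs => rw [h1]
    simp only [map_sum, h, map_smul, Finsupp.coe_finsetSum, Finset.sum_apply, Finsupp.smul_apply, smul_eq_mul,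
      mulVec, dotProduct, Matrix.of_apply]
    exact Finset.sum_congr rfl fun j _ => mul_comm _ _
  refine ⟨Matrix.of fun i j => d.repr (α (c j)) i, fun h3 => ?_, h2⟩
  obtain ⟨x, hx, hx0⟩ := Matrix.exists_mulVec_eq_zero_iff.2 h3
  apply hx
  have h4 : ∀ i, σ (c.repr (∑ j, σ.symm (x j) • c j) i) = x i := by
    intro i
    fin_cases i <;> simp
  have h5 := h2 (∑ j, σ.symm (x j) • c j)
  rw [show (fun i => σ (c.repr (∑ j, σ.symm (x j) • c j) i)) = x from funext h4, hx0] at h5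
  have h6 : α (∑ j, σ.symm (x j) • c j) = 0 := by
    apply d.repr.injective
    ext i
    simpa using congrFun h5 i
  have h7 : ∑ j, σ.symm (x j) • c j = 0 := by
    apply α.injective
    rw [h6, map_zero]
  ext i
  rw [← h4 i, h7]
  simp

theorem vmv (P Q : Matrix (Fin 2) (Fin 2) K) (x y : Fin 2 → K) :
    vecMulVec (P *ᵥ x) (Q *ᵥ y) = P * vecMulVec x y * Qᵀ := by
  ext i j
  simp only [vecMulVec_apply, mulVec, dotProduct, Matrix.mul_apply, Fin.sum_univ_two, transpose_apply]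
  ring

theorem vmv_map (σ : K ≃+* K) (x y : Fin 2 → K) :
    vecMulVec (fun i => σ (x i)) (fun i => σ (y i)) = (vecMulVec x y).map σ := by
  ext i j
  simp [vecMulVec_apply]

theorem vmv_tr (x y : Fin 2 → K) : (vecMulVec x y)ᵀ = vecMulVec y x := by
  ext i j
  simp [vecMulVec_apply, mul_comm]

end coord

section coord2

variable {K : Type*} [Field K] {W W' M : Type*} [AddCommGroup W] [Module K W] [AddCommGroup W'] [Module K W']
  [AddCommGroup M] [Module K M] (φ : W ⊗[K] W' ≃ₗ[K] M) (b : Basis (Fin 2) K W) (b' : Basis (Fin 2) K W')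

/-- coordinates of `M` -/
noncomputable def cM (m : M) : Matrix (Fin 2) (Fin 2) K := toM b b' (φ.symm m)

theorem cM_add (m n : M) : cM φ b b' (m + n) = cM φ b b' m + cM φ b b' n := by
  rw [cM, map_add, toM_add]; rfl

theorem cM_zero : cM φ b b' 0 = 0 := by
  rw [cM, map_zero, toM_zero]

theorem cM_tmul (w : W) (w' : W') : cM φ b b' (φ (w ⊗ₜ w')) = vecMulVec (b.repr w) (b'.repr w') := by
  rw [cM, φ.symm_apply_apply, toM_tmul]

theorem cM_surj (X : Matrix (Fin 2) (Fin 2) K) : ∃ m, cM φ b b' m = X := by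
  obtain ⟨x, hx⟩ := toM_surj b b' X
  exact ⟨φ x, by rw [cM, φ.symm_apply_apply, hx]⟩

theorem cM_inj {m n : M} (h : cM φ b b' m = cM φ b b' n) : m = n :=
  φ.symm.injective (toM_inj b b' h)

/-- a semilinear pure tensor in coordinates -/
theorem exists_pureM (σ : K ≃+* K) (g : M →+ M) (α : W ≃+ W) (β : W' ≃+ W')
    (hα : ∀ (k : K) v, α (k • v) = σ k • α v) (hβ : ∀ (k : K) v, β (k • v) = σ k • β v)
    (hg : ∀ w w', g (φ (w ⊗ₜ w')) = φ (α w ⊗ₜ β w')) :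
    ∃ P Q : Matrix (Fin 2) (Fin 2) K, P.det ≠ 0 ∧ Q.det ≠ 0 ∧ ∀ m, cM φ b b' (g m) = P * (cM φ b b' m).map σ * Qᵀ := by
  obtain ⟨P, hP, hP'⟩ := exists_mat b b α hα
  obtain ⟨Q, hQ, hQ'⟩ := exists_mat b' b' β hβ
  refine ⟨P, Q, hP, hQ, fun m => ?_⟩
  obtain ⟨x, rfl⟩ := φ.surjective m
  induction x with
  | zero => simp [cM_zero]
  | tmul w w' => rw [hg, cM_tmul, cM_tmul, hP', hQ', vmv, vmv_map]
  | add x y hx hy => rw [map_add, map_add, cM_add, hx, hy, cM_add, Matrix.map_add _ (fun a b => map_add σ a b), Matrix.mul_add, Matrix.add_mul]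

/-- a semilinear swap in coordinates -/
theorem exists_swapM (σ : K ≃+* K) (g : M →+ M) (α : W ≃+ W') (β : W' ≃+ W)
    (hα : ∀ (k : K) v, α (k • v) = σ k • α v) (hβ : ∀ (k : K) v, β (k • v) = σ k • β v)
    (hg : ∀ w w', g (φ (w ⊗ₜ w')) = φ (β w' ⊗ₜ α w)) :
    ∃ P Q : Matrix (Fin 2) (Fin 2) K, P.det ≠ 0 ∧ Q.det ≠ 0 ∧
      ∀ m, cM φ b b' (g m) = P * ((cM φ b b' m).map σ)ᵀ * Qᵀ := by
  obtain ⟨P, hP, hP'⟩ := exists_mat b' b β hβ
  obtain ⟨Q, hQ, hQ'⟩ := exists_mat b b' α hα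
  refine ⟨P, Q, hP, hQ, fun m => ?_⟩
  obtain ⟨x, rfl⟩ := φ.surjective m
  induction x with
  | zero => simp [cM_zero]
  | tmul w w' => rw [hg, cM_tmul, cM_tmul, hP', hQ', vmv, ← vmv_map, vmv_tr]
  | add x y hx hy =>
    rw [map_add, map_add, cM_add, hx, hy, cM_add, Matrix.map_add _ (fun a b => map_add σ a b), transpose_add,
      Matrix.mul_add, Matrix.add_mul]

/-- a linear pure tensor in coordinates -/
theorem cM_map (A : W →ₗ[K] W) (B : W' →ₗ[K] W') (x : W ⊗[K] W') :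
    cM φ b b' (φ (TensorProduct.map A B x)) =
      LinearMap.toMatrix b b A * cM φ b b' (φ x) * (LinearMap.toMatrix b' b' B)ᵀ := by
  induction x with
  | zero => simp [cM_zero]
  | tmul w w' =>
    rw [TensorProduct.map_tmul, cM_tmul, cM_tmul, ← vmv, LinearMap.toMatrix_mulVec_repr, LinearMap.toMatrix_mulVec_repr]
  | add x y hx hy => rw [map_add, map_add, cM_add, hx, hy, map_add, cM_add, Matrix.mul_add, Matrix.add_mul]

end coord2

section mat

variable {K : Type*} [Field K]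

theorem det_map_ringEquiv (σ : K ≃+* K) (A : Matrix (Fin 2) (Fin 2) K) : (A.map σ).det = σ A.det := by
  rw [det_fin_two, det_fin_two]
  simp

theorem map_mul_eq (σ : K ≃+* K) (A B : Matrix (Fin 2) (Fin 2) K) : (A * B).map σ = A.map σ * B.map σ := by
  rw [Matrix.map_mul]

/-- conjugate of a matrix of determinant 1 -/
theorem exists_conjM (σ : K ≃+* K) (P : Matrix (Fin 2) (Fin 2) K) (hP : P.det ≠ 0)
    (A : Matrix.SpecialLinearGroup (Fin 2) K) :
    ∃ A' : Matrix.SpecialLinearGroup (Fin 2) K, A'.1 * P = P * A.1.map σ := by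
  refine ⟨⟨P * A.1.map σ * P⁻¹, ?_⟩, ?_⟩
  · rw [det_mul, det_mul, det_map_ringEquiv, A.2, map_one, mul_one, ← det_mul,
      Matrix.mul_nonsing_inv _ (isUnit_iff_ne_zero.2 hP), det_one]
  · change P * A.1.map σ * P⁻¹ * P = _
    rw [Matrix.mul_assoc, Matrix.nonsing_inv_mul _ (isUnit_iff_ne_zero.2 hP), Matrix.mul_one]

end mat

section plus

variable {Y M : Type*} [Group Y] [AddCommGroup M] [DistribMulAction Y M]

/-- the action of `y` as an additive map -/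
def actM (y : Y) : M →+ M := DistribSMul.toAddMonoidHom M y

/-- `M = M₂(K)`, `SL₂(K) × SL₂(K)` acts by `X ↦ A X Bᵀ`, every `y` is `X ↦ P σ(X) Qᵀ` or `X ↦ P σ(X)ᵀ Qᵀ`, and the
second case occurs. -/
structure MC (Y : Type*) {M : Type*} [Group Y] [AddCommGroup M] [DistribMulAction Y M] {K : Type*} [Field K]
    (c : M → Matrix (Fin 2) (Fin 2) K) : Prop where
  add : ∀ m n, c (m + n) = c m + c n
  surj : ∀ X, ∃ m, c m = X
  ker : ∀ m, c m = 0 → m = 0
  lift : ∀ A B : Matrix.SpecialLinearGroup (Fin 2) K, ∃ y : Y, ∀ m, c (y • m) = A.1 * c m * B.1ᵀ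
  ps : ∀ y : Y, (∃ (σ : K ≃+* K) (P Q : Matrix (Fin 2) (Fin 2) K), P.det ≠ 0 ∧ Q.det ≠ 0 ∧
      ∀ m, c (y • m) = P * (c m).map σ * Qᵀ) ∨ (∃ (σ : K ≃+* K) (P Q : Matrix (Fin 2) (Fin 2) K), P.det ≠ 0 ∧
      Q.det ≠ 0 ∧ ∀ m, c (y • m) = P * ((c m).map σ)ᵀ * Qᵀ)
  sw : ∃ y : Y, ∃ (σ : K ≃+* K) (P Q : Matrix (Fin 2) (Fin 2) K), P.det ≠ 0 ∧
      Q.det ≠ 0 ∧ ∀ m, c (y • m) = P * ((c m).map σ)ᵀ * Qᵀ

/-- the input in terms of `V = W ⊗ W'` -/
structure PIn (Y : Type*) {M : Type*} [Group Y] [AddCommGroup M] [DistribMulAction Y M] {K : Type*} [Field K]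
    [Module K M] {W W' : Type*} [AddCommGroup W] [Module K W] [AddCommGroup W'] [Module K W']
    (φ : W ⊗[K] W' ≃ₗ[K] M) : Prop where
  hW : finrank K W = 2
  hW' : finrank K W' = 2
  r₁ : ∀ A : W →ₗ[K] W, LinearMap.det A = 1 → ∃ y : Y, ∀ x, y • φ x = φ (TensorProduct.map A LinearMap.id x)
  r₂ : ∀ B : W' →ₗ[K] W', LinearMap.det B = 1 → ∃ y : Y, ∀ x, y • φ x = φ (TensorProduct.map LinearMap.id B x)
  ps : ∀ y : Y,
      (∃ (σ : K ≃+* K) (α : W ≃+ W) (β : W' ≃+ W'), (∀ (k : K) v, α (k • v) = σ k • α v) ∧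
        (∀ (k : K) v, β (k • v) = σ k • β v) ∧ ∀ w w', y • φ (w ⊗ₜ w') = φ (α w ⊗ₜ β w')) ∨
      (∃ (σ : K ≃+* K) (α : W ≃+ W') (β : W' ≃+ W), (∀ (k : K) v, α (k • v) = σ k • α v) ∧
        (∀ (k : K) v, β (k • v) = σ k • β v) ∧ ∀ w w', y • φ (w ⊗ₜ w') = φ (β w' ⊗ₜ α w))
  sw : ∃ y : Y, ∃ (σ : K ≃+* K) (α : W ≃+ W') (β : W' ≃+ W), (∀ (k : K) v, α (k • v) = σ k • α v) ∧
        (∀ (k : K) v, β (k • v) = σ k • β v) ∧ ∀ w w', y • φ (w ⊗ₜ w') = φ (β w' ⊗ₜ α w)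

theorem PIn.mc {K : Type*} [Field K] [Module K M] {W W' : Type*} [AddCommGroup W]
    [Module K W] [AddCommGroup W'] [Module K W'] {φ : W ⊗[K] W' ≃ₗ[K] M} (h : PIn Y φ) :
    ∃ (b : Basis (Fin 2) K W) (b' : Basis (Fin 2) K W'), MC Y (cM φ b b') := by
  have : Module.Finite K W := Module.finite_of_finrank_pos (by rw [h.hW]; norm_num)
  have : Module.Finite K W' := Module.finite_of_finrank_pos (by rw [h.hW']; norm_num)
  let b : Basis (Fin 2) K W := Module.finBasisOfFinrankEq K W h.hW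
  let b' : Basis (Fin 2) K W' := Module.finBasisOfFinrankEq K W' h.hW'
  refine ⟨b, b', cM_add φ b b', cM_surj φ b b', fun m hm => cM_inj φ b b' (by rw [cM_zero]; exact hm), ?_, ?_, ?_⟩
  · intro A B
    obtain ⟨y, hy⟩ := h.r₁ (Matrix.toLin b b A.1) (by
      rw [← LinearMap.det_toMatrix b, LinearMap.toMatrix_toLin]; exact A.2)
    obtain ⟨z, hz⟩ := h.r₂ (Matrix.toLin b' b' B.1) (by
      rw [← LinearMap.det_toMatrix b', LinearMap.toMatrix_toLin]; exact B.2)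
    refine ⟨y * z, fun m => ?_⟩
    obtain ⟨x, rfl⟩ := φ.surjective m
    rw [mul_smul, hz, hy, cM_map, cM_map, LinearMap.toMatrix_toLin, LinearMap.toMatrix_toLin, LinearMap.toMatrix_id,
      LinearMap.toMatrix_id, transpose_one, Matrix.one_mul, Matrix.mul_one, Matrix.mul_assoc]
  · intro y
    rcases h.ps y with ⟨σ, α, β, h1, h2, h3⟩ | ⟨σ, α, β, h1, h2, h3⟩
    · left
      obtain ⟨P, Q, h4, h5, h6⟩ := exists_pureM φ b b' σ (actM y) α β h1 h2 h3
      exact ⟨σ, P, Q, h4, h5, h6⟩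
    · right
      obtain ⟨P, Q, h4, h5, h6⟩ := exists_swapM φ b b' σ (actM y) α β h1 h2 h3
      exact ⟨σ, P, Q, h4, h5, h6⟩
  · obtain ⟨y, σ, α, β, h1, h2, h3⟩ := h.sw
    obtain ⟨P, Q, h4, h5, h6⟩ := exists_swapM φ b b' σ (actM y) α β h1 h2 h3
    exact ⟨y, σ, P, Q, h4, h5, h6⟩

theorem map_conj {K K₀ : Type*} [Field K] [Field K₀] (τ : K ≃+* K₀) (σ : K ≃+* K) (X : Matrix (Fin 2) (Fin 2) K) :
    (X.map σ).map τ = (X.map τ).map ((τ.symm.trans σ).trans τ) := by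
  ext i j
  simp

/-- change of the field -/
theorem MC.congr {K K₀ : Type*} [Field K] [Field K₀] {c : M → Matrix (Fin 2) (Fin 2) K} (h : MC Y c)
    (τ : K ≃+* K₀) : MC Y (fun m => (c m).map τ) := by
  have hd : ∀ X : Matrix (Fin 2) (Fin 2) K, X.det ≠ 0 → (X.map τ).det ≠ 0 := fun X hX => by
    rw [det_fin_two] at hX ⊢
    simp only [Matrix.map_apply, ← map_mul, ← map_sub]
    exact (map_ne_zero_iff _ τ.injective).2 hX
  have hm : ∀ X Z : Matrix (Fin 2) (Fin 2) K, (X * Z).map τ = X.map τ * Z.map τ := fun X Z => by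
    rw [Matrix.map_mul]
  refine ⟨fun m n => ?_, fun X => ?_, fun m hm0 => ?_, fun A B => ?_, fun y => ?_, ?_⟩
  · rw [h.add, Matrix.map_add _ (fun a b => map_add τ a b)]
  · obtain ⟨m, hm1⟩ := h.surj (X.map τ.symm)
    refine ⟨m, ?_⟩
    ext i j
    simp [hm1]
  · apply h.ker
    ext i j
    apply τ.injective
    have h1 := congrFun (congrFun hm0 i) j
    simpa using h1
  · have hdet : ∀ A : Matrix.SpecialLinearGroup (Fin 2) K₀, (A.1.map τ.symm).det = 1 := fun A => by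
      have h2 := A.2
      rw [det_fin_two] at h2 ⊢
      simp only [Matrix.map_apply, ← map_mul, ← map_sub, h2, map_one]
    obtain ⟨y, hy⟩ := h.lift ⟨A.1.map τ.symm, hdet A⟩ ⟨B.1.map τ.symm, hdet B⟩
    refine ⟨y, fun m => ?_⟩
    rw [hy, hm, hm, show ((B.1.map τ.symm)ᵀ).map τ = B.1ᵀ by ext i j; simp,
      show (A.1.map τ.symm).map τ = A.1 by ext i j; simp]
  · rcases h.ps y with ⟨σ, P, Q, h1, h2, h3⟩ | ⟨σ, P, Q, h1, h2, h3⟩
    · left
      refine ⟨(τ.symm.trans σ).trans τ, P.map τ, Q.map τ, hd P h1, hd Q h2, fun m => ?_⟩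
      rw [h3, hm, hm, map_conj]; rfl
    · right
      refine ⟨(τ.symm.trans σ).trans τ, P.map τ, Q.map τ, hd P h1, hd Q h2, fun m => ?_⟩
      rw [h3, hm, hm, ← map_conj]; rfl
  · obtain ⟨y, σ, P, Q, h1, h2, h3⟩ := h.sw
    refine ⟨y, (τ.symm.trans σ).trans τ, P.map τ, Q.map τ, hd P h1, hd Q h2, fun m => ?_⟩
    rw [h3, hm, hm, ← map_conj]; rfl

end plus

section grp

variable {G : Type u} [Group G] {S P V : Subgroup G} {Y M : Type u} [Group Y] [AddCommGroup M]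
    [DistribMulAction Y M] {T : Sylow 2 Y} {Mx : Subgroup Y}

/-- **`PlusQ`** -/
theorem MC.plusQ {K : Type} [Field K] {c : M → Matrix (Fin 2) (Fin 2) K} (C : MC Y c)
    (R : Rep S P V Y M T Mx) : Nonempty (PlusQ K P V) := by
  classical
  -- the coordinate on `G`
  let e : G → Matrix (Fin 2) (Fin 2) K := fun g => if h : ∃ m, R.el m = g then c h.choose else 0
  have he : ∀ m, e (R.el m) = c m := by
    intro m
    have h : ∃ m', R.el m' = R.el m := ⟨m, rfl⟩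
    have h1 : h.choose = m := R.inj h.choose_spec
    change (if h : ∃ m', R.el m' = R.el m then c h.choose else 0) = _
    rw [dif_pos h, h1]
  have hac : ∀ g (hg : g ∈ P) m, R.el (R.ac ⟨g, hg⟩ • m) = g * R.el m * g⁻¹ := fun g hg m => R.smul ⟨g, hg⟩ m
  -- conjugation in coordinates
  have hconj : ∀ g (hg : g ∈ P) m, e (g * R.el m * g⁻¹) = c (R.ac ⟨g, hg⟩ • m) := fun g hg m => by
    rw [← hac, he]
  refine ⟨⟨e, ?_, ?_, ?_, ?_, ?_, ?_⟩⟩
  · intro v hv w hw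
    obtain ⟨m, rfl⟩ := R.surj v hv
    obtain ⟨n, rfl⟩ := R.surj w hw
    rw [← R.add, he, he, he, C.add]
  · intro X
    obtain ⟨m, hm⟩ := C.surj X
    exact ⟨R.el m, R.mem m, by rw [he, hm]⟩
  · intro v hv h
    obtain ⟨m, rfl⟩ := R.surj v hv
    rw [he] at h
    have h1 : m = 0 := C.ker m h
    have h2 := R.add 0 0
    rw [add_zero] at h2
    rw [h1]
    exact (mul_eq_left (a := R.el 0)).1 h2.symm
  · intro A B
    obtain ⟨y, hy⟩ := C.lift A B
    obtain ⟨g, hg⟩ := R.acs y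
    refine ⟨g, g.2, fun v hv => ?_⟩
    obtain ⟨m, rfl⟩ := R.surj v hv
    rw [hconj _ g.2, he]
    change c (R.ac g • m) = _
    rw [hg, hy]
  · intro g hg h hh A B hAB
    have hAB' : ∀ m, c (R.ac ⟨h, hh⟩ • m) = A.1 * c m * B.1.transpose := fun m => by
      rw [← hconj h hh, hAB _ (R.mem m), he]
    have hgi : g⁻¹ ∈ P := P.inv_mem hg
    have key : ∀ v ∈ V, ∃ m, v = g * R.el m * g⁻¹ ∧
        g * h * g⁻¹ * v * (g * h * g⁻¹)⁻¹ = R.el (R.ac ⟨g, hg⟩ • R.ac ⟨h, hh⟩ • m) := by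
      intro v hv
      obtain ⟨m, rfl⟩ := R.surj v hv
      refine ⟨R.ac ⟨g⁻¹, hgi⟩ • m, ?_, ?_⟩
      · rw [hac]; group
      · rw [hac, hac, hac]; group
    rcases C.ps (R.ac ⟨g, hg⟩) with ⟨σ, X, Q, h1, h2, h3⟩ | ⟨σ, X, Q, h1, h2, h3⟩
    · obtain ⟨A', hA'⟩ := exists_conjM σ X h1 A
      obtain ⟨B', hB'⟩ := exists_conjM σ Q h2 B
      refine ⟨A', B', fun v hv => ?_⟩
      obtain ⟨m, h4, h5⟩ := key v hv
      rw [h5, he, h3, hAB', h4, hconj g hg, h3, map_mul_eq, map_mul_eq]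
      have h6 : (Q * B.1.map σ)ᵀ = (B'.1 * Q)ᵀ := by rw [hB']
      rw [transpose_mul, transpose_mul] at h6
      rw [show (B.1.transpose).map σ = (B.1.map σ)ᵀ from rfl]
      calc X * (A.1.map σ * (c m).map σ * (B.1.map σ)ᵀ) * Qᵀ
          = (X * A.1.map σ) * (c m).map σ * ((B.1.map σ)ᵀ * Qᵀ) := by simp only [Matrix.mul_assoc]
        _ = (A'.1 * X) * (c m).map σ * (Qᵀ * B'.1ᵀ) := by rw [hA', h6]
        _ = _ := by simp only [Matrix.mul_assoc]
    · obtain ⟨A', hA'⟩ := exists_conjM σ Q h2 A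
      obtain ⟨B', hB'⟩ := exists_conjM σ X h1 B
      refine ⟨B', A', fun v hv => ?_⟩
      obtain ⟨m, h4, h5⟩ := key v hv
      rw [h5, he, h3, hAB', h4, hconj g hg, h3, map_mul_eq, map_mul_eq, transpose_mul, transpose_mul]
      have h6 : (Q * A.1.map σ)ᵀ = (A'.1 * Q)ᵀ := by rw [hA']
      rw [transpose_mul, transpose_mul] at h6
      rw [show (B.1.transpose).map σ = (B.1.map σ)ᵀ from rfl, transpose_transpose]
      calc X * (B.1.map σ * (((c m).map σ)ᵀ * (A.1.map σ)ᵀ)) * Qᵀ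
          = (X * B.1.map σ) * ((c m).map σ)ᵀ * ((A.1.map σ)ᵀ * Qᵀ) := by simp only [Matrix.mul_assoc]
        _ = (B'.1 * X) * ((c m).map σ)ᵀ * (Qᵀ * A'.1ᵀ) := by rw [hB', h6]
        _ = _ := by simp only [Matrix.mul_assoc]
  · obtain ⟨y, σ, X, Q, h4, h5, h6'⟩ := C.sw
    obtain ⟨⟨s, hs⟩, rfl⟩ := R.acs y
    refine ⟨s, hs, fun h hh A hA => ?_⟩
    obtain ⟨A', hA'⟩ := exists_conjM σ Q h5 A
    refine ⟨A', fun v hv => ?_⟩
    obtain ⟨m, rfl⟩ := R.surj v hv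
    have hsi : s⁻¹ ∈ P := P.inv_mem hs
    have h7 : s * h * s⁻¹ * R.el m * (s * h * s⁻¹)⁻¹ =
        R.el (R.ac ⟨s, hs⟩ • R.ac ⟨h, hh⟩ • R.ac ⟨s⁻¹, hsi⟩ • m) := by
      rw [hac, hac, hac]; group
    have h8 : R.el m = R.el (R.ac ⟨s, hs⟩ • R.ac ⟨s⁻¹, hsi⟩ • m) := by
      rw [hac, hac]; group
    rw [h7, he, h6', ← hconj h hh, hA _ (R.mem _), he]
    rw [h8, he, h6', map_mul_eq, transpose_mul]
    have h9 : (Q * A.1.map σ)ᵀ = (A'.1 * Q)ᵀ := by rw [hA']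
    rw [transpose_mul, transpose_mul] at h9
    simp only [Matrix.mul_assoc]
    rw [h9]

end grp

end Cfsg.Agent.Omega.NO1.Comp
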