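import Cfsg.Agent.Mrg.Omega.NO1.Comp.Dim
import Cfsg.Agent.Mrg.Omega.NO1.WRF.Irr
import Cfsg.Agent.Mrg.Omega.NO1.JOff
import Cfsg.Agent.Mrg.Omega.NO1.Comp.PlusQ
import Cfsg.Agent.MinSimple.EmptyE.Lift
import Cfsg.Agent.Mrg.Omega.NO1.Fr

section


/-!
# N1, THEOREM COMP: the group `Y` induced by `P` on `V₁ = [V_P, O²(P)]` (project OMEGA)

Text: helper390 (bb OMEGA #17539), part (III) of the split #18039. Typed by helper570.

* `exists_rep1` : `FDat S P E F W` ⟹ `Rep S P (V1 S P) Y M T Mx`.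
* `minP` : every `Rep` is a `Grp.MinP`.
* `irred`, `prim` : `M` is irreducible for `Y`, and `Y` permutes transitively no decomposition of `M`.
* `exists_sit` : if the image of `W` centralises `O(Y)` there is a component `K` of even order (`Grp.Sit T Mx K`), and
  `M` is irreducible for `E(Y)`.
-/

set_option autoImplicit false
set_option linter.unusedSectionVars false

namespace Cfsg.Agent.Omega.NO1.Comp.RepOne

open Subgroup Cfsg Cfsg.Agent.ZN Cfsg.Agent.ZN.ChoiceBase Cfsg.Agent.Omega.MinPar Cfsg.Agent.Omega.Frame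
open Cfsg.Agent.Omega.NO1 Cfsg.Agent.Omega.NO1.WRF Cfsg.Agent.Omega.NO1.WRF.Irr Cfsg.Agent.Omega.NO1.WRF.Single
open Cfsg.Agent.Omega.FFThm (OffM)
open Cfsg.Agent.Omega.NO1.Comp.Irr

universe u

section sub

variable {Y M : Type*} [Group Y] [AddCommGroup M] [DistribMulAction Y M]

/-- the action on an invariant subgroup -/
@[reducible] def subAct (A : AddSubgroup M) (hA : ∀ y : Y, ∀ m ∈ A, y • m ∈ A) : DistribMulAction Y A where
  smul y m := ⟨y • (m : M), hA y m m.2⟩
  one_smul m := Subtype.ext (one_smul Y (m : M))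
  mul_smul x y m := Subtype.ext (mul_smul x y (m : M))
  smul_zero y := Subtype.ext (smul_zero y)
  smul_add y a b := Subtype.ext (smul_add y (a : M) (b : M))

end sub

section minp

variable {G : Type u} [Group G] {S P V : Subgroup G} {Y M : Type u} [Group Y] [AddCommGroup M]
  [DistribMulAction Y M] {T : Sylow 2 Y} {Mx : Subgroup Y}

theorem minP (R : Rep S P V Y M T Mx) : Grp.MinP T Mx := ⟨R.core, R.TM, R.Mne, R.max⟩

/-- a `Y`-invariant subgroup of `M` as a `P`-invariant subgroup of `V` -/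
def toG (R : Rep S P V Y M T Mx) (A : AddSubgroup M) : Subgroup G where
  carrier := {g | ∃ m ∈ A, R.el m = g}
  one_mem' := ⟨0, A.zero_mem, R.el_zero⟩
  mul_mem' := by
    rintro _ _ ⟨a, ha, rfl⟩ ⟨b, hb, rfl⟩
    exact ⟨a + b, A.add_mem ha hb, R.add a b⟩
  inv_mem' := by
    rintro _ ⟨a, ha, rfl⟩
    exact ⟨a, ha, (R.el_inv a).symm⟩

theorem mem_toG (R : Rep S P V Y M T Mx) {A : AddSubgroup M} {g : G} : g ∈ toG R A ↔ ∃ m ∈ A, R.el m = g := Iff.rfl

theorem el_mem_toG (R : Rep S P V Y M T Mx) {A : AddSubgroup M} {m : M} : R.el m ∈ toG R A ↔ m ∈ A := by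
  constructor
  · rintro ⟨n, hn, e⟩
    rwa [R.inj e] at hn
  · intro h
    exact ⟨m, h, rfl⟩

theorem toG_le (R : Rep S P V Y M T Mx) (A : AddSubgroup M) : toG R A ≤ V := by
  rintro _ ⟨m, -, rfl⟩
  exact R.mem m

theorem toG_mono (R : Rep S P V Y M T Mx) {A B : AddSubgroup M} (h : A ≤ B) : toG R A ≤ toG R B := by
  rintro _ ⟨m, hm, rfl⟩
  exact ⟨m, h hm, rfl⟩

theorem toG_inj (R : Rep S P V Y M T Mx) {A B : AddSubgroup M} (h : toG R A = toG R B) : A = B := by
  ext m
  rw [← el_mem_toG R, h, el_mem_toG]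

theorem toG_top (R : Rep S P V Y M T Mx) : toG R ⊤ = V := by
  apply le_antisymm (toG_le R _)
  intro v hv
  obtain ⟨m, rfl⟩ := R.surj v hv
  exact ⟨m, AddSubgroup.mem_top m, rfl⟩

theorem toG_bot (R : Rep S P V Y M T Mx) : toG R ⊥ = ⊥ := by
  rw [eq_bot_iff]
  rintro _ ⟨m, hm, rfl⟩
  rw [AddSubgroup.mem_bot.mp hm, R.el_zero]
  exact one_mem _

/-- the preimage of a subgroup of `V` -/
def ofG (R : Rep S P V Y M T Mx) (X : Subgroup G) : AddSubgroup M where
  carrier := {m | R.el m ∈ X}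
  zero_mem' := by
    show R.el 0 ∈ X
    rw [R.el_zero]
    exact one_mem X
  add_mem' := by
    intro a b ha hb
    show R.el (a + b) ∈ X
    rw [R.add]
    exact mul_mem ha hb
  neg_mem' := by
    intro a ha
    show R.el (-a) ∈ X
    rw [neg_eq_of_add_eq_zero_left (R.two a)]
    exact ha

theorem mem_ofG (R : Rep S P V Y M T Mx) {X : Subgroup G} {m : M} : m ∈ ofG R X ↔ R.el m ∈ X := Iff.rfl

theorem toG_le_iff (R : Rep S P V Y M T Mx) {A : AddSubgroup M} {X : Subgroup G} : toG R A ≤ X ↔ A ≤ ofG R X := by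
  constructor
  · intro h m hm
    exact h ⟨m, hm, rfl⟩
  · rintro h _ ⟨m, hm, rfl⟩
    exact h hm

theorem gc (R : Rep S P V Y M T Mx) : GaloisConnection (toG R) (ofG R) := fun _ _ => toG_le_iff R

theorem toG_inf (R : Rep S P V Y M T Mx) {A B : AddSubgroup M} : toG R (A ⊓ B) = toG R A ⊓ toG R B := by
  apply le_antisymm (le_inf (toG_mono R inf_le_left) (toG_mono R inf_le_right))
  rintro _ ⟨⟨a, ha, rfl⟩, hb⟩
  exact ⟨a, ⟨ha, (el_mem_toG R).mp hb⟩, rfl⟩

theorem toG_norm [Finite G] (R : Rep S P V Y M T Mx) {A : AddSubgroup M} (hA : ∀ y : Y, ∀ m ∈ A, y • m ∈ A) :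
    P ≤ normalizer (toG R A : Set G) := by
  intro p hp
  refine mem_normalizer_of_cj_le ?_
  rintro _ ⟨_, ⟨m, hm, rfl⟩, rfl⟩
  refine ⟨R.ac ⟨p, hp⟩ • m, hA _ m hm, ?_⟩
  rw [R.smul]
  rfl

theorem cj_toG (R : Rep S P V Y M T Mx) {A : AddSubgroup M} {p : G} (hp : p ∈ P) :
    cj p (toG R A) = toG R (ya (R.ac ⟨p, hp⟩) A) := by
  ext g
  constructor
  · rintro ⟨_, ⟨m, hm, rfl⟩, rfl⟩
    refine ⟨R.ac ⟨p, hp⟩ • m, ⟨m, hm, rfl⟩, ?_⟩
    rw [R.smul]
    rfl
  · rintro ⟨_, ⟨m, hm, rfl⟩, rfl⟩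
    refine ⟨R.el m, ⟨m, hm, rfl⟩, ?_⟩
    exact (R.smul ⟨p, hp⟩ m).symm

end minp

section fdat

variable {G : Type u} [Group G] [Finite G] {S : Sylow 2 G} {P E F W : Subgroup G}

/-- the `Rep` of `V₁` -/
theorem exists_rep1 (h : FDat S P E F W) :
    ∃ (Y M : Type u) (_ : Group Y) (_ : Finite Y) (_ : AddCommGroup M) (_ : Finite M)
      (_ : DistribMulAction Y M) (T : Sylow 2 Y) (Mx : Subgroup Y),
      Nonempty (Rep (S : Subgroup G) P (V1 S P) Y M T Mx) := by
  classical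
  obtain ⟨Y, M, _, _, _, _, _, T, Mx, ⟨R⟩⟩ := h.cfg.exists_rep
  let A : AddSubgroup M := ofG R (V1 S P)
  have hA : ∀ y : Y, ∀ m ∈ A, y • m ∈ A := by
    intro y m hm
    obtain ⟨p, rfl⟩ := R.acs y
    show R.el (R.ac p • m) ∈ V1 S P
    rw [R.smul]
    exact (mem_normalizer_iff.mp (h.P_norm_V1 p.2) _).mp hm
  let _ : DistribMulAction Y A := subAct A hA
  have hsm : ∀ (y : Y) (m : A), ((y • m : A) : M) = y • (m : M) := fun _ _ => rfl
  refine ⟨Y, A, inferInstance, inferInstance, inferInstance, inferInstance, inferInstance, T, Mx, ⟨?_⟩⟩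
  have hfaith : ∀ y : Y, (∀ m : A, y • m = m) → y = 1 := by
    -- the kernel
    let X : Subgroup Y :=
      { carrier := {y | ∀ m : A, y • m = m}
        one_mem' := fun m => one_smul Y m
        mul_mem' := by
          intro x y hx hy m
          rw [mul_smul, hy, hx]
        inv_mem' := by
          intro x hx m
          rw [inv_smul_eq_iff, hx] }
    have hX : X.Normal := by
      constructor
      intro x hx y m
      rw [mul_smul, mul_smul, hx, smul_inv_smul]
    have hX2 : ¬ 2 ∣ Nat.card X := by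
      intro h2
      have h3 := (minP R).fr hX h2
      have h4 := h.V1_inf_zc
      rw [Ne, Subgroup.eq_bot_iff_forall] at h4
      push Not at h4
      obtain ⟨z, ⟨hz1, hz2⟩, hz0⟩ := h4
      obtain ⟨m, rfl⟩ := R.surj z (h.V1_le hz1)
      have h5 : ∀ y : Y, y • m = m := by
        have h6 : ∀ y ∈ X ⊔ (T : Subgroup Y), y • m = m := by
          intro y hy
          have h7 : X ⊔ (T : Subgroup Y) ≤ MulAction.stabilizer Y m := by
            apply sup_le
            · intro x hx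
              have := hx ⟨m, hz1⟩
              exact congrArg Subtype.val this
            · intro t ht
              obtain ⟨s, hs, rfl⟩ := (R.mem_T t).mp ht
              apply R.inj
              change R.el (R.ac s • m) = R.el m
              rw [R.smul, (ChoiceBase.mem_zc.1 hz2).2.2 s hs, mul_inv_cancel_right]
          exact h7 hy
        intro y
        exact h6 y (by rw [h3]; exact mem_top y)
      apply hz0
      apply h.cv (h.V1_le hz1)
      intro g hg
      have h6 := R.smul ⟨g, hg⟩ m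
      rw [h5] at h6
      exact h6.symm
    -- the norm map
    have _ : Fintype X := Fintype.ofFinite X
    let Nm : M →+ M :=
      { toFun := fun m => ∑ x : X, (x : Y) • m
        map_zero' := by simp
        map_add' := by
          intro a b
          simp only [smul_add]
          exact Finset.sum_add_distrib }
    have hN1 : ∀ x : X, ∀ m : M, Nm ((x : Y) • m) = Nm m := by
      intro x m
      show ∑ y : X, (y : Y) • ((x : Y) • m) = ∑ y : X, (y : Y) • m
      rw [← Equiv.sum_comp (Equiv.mulRight x) (fun y : X => (y : Y) • m)]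
      apply Finset.sum_congr rfl
      intro y _
      rw [smul_smul]
      rfl
    have hN2 : ∀ m : M, (∀ x : X, (x : Y) • m = m) → Nm m = m := by
      intro m hm
      show ∑ x : X, (x : Y) • m = m
      rw [Finset.sum_congr rfl (fun x _ => hm x), Finset.sum_const, Finset.card_univ, ← Nat.card_eq_fintype_card]
      obtain ⟨k, hk⟩ : Odd (Nat.card X) := by
        rw [← Nat.not_even_iff_odd, even_iff_two_dvd]
        exact hX2
      rw [hk, add_nsmul, one_nsmul, mul_nsmul', two_nsmul, R.two, zero_add]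
    -- `[V, X]`
    let B : AddSubgroup M := AddSubgroup.closure {m | ∃ (x : X) (v : M), (x : Y) • v - v = m}
    have hBN : ∀ m ∈ B, Nm m = 0 := by
      intro m hm
      have h3 : B ≤ Nm.ker := by
        rw [AddSubgroup.closure_le]
        rintro _ ⟨x, v, rfl⟩
        show Nm ((x : Y) • v - v) = 0
        rw [map_sub, hN1, sub_self]
      exact h3 hm
    have hBY : ∀ y : Y, ∀ m ∈ B, y • m ∈ B := by
      intro y m hm
      have h3 : B ≤ B.comap (DistribSMul.toAddMonoidHom M y) := by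
        rw [AddSubgroup.closure_le]
        rintro _ ⟨x, v, rfl⟩
        show y • ((x : Y) • v - v) ∈ B
        apply AddSubgroup.subset_closure
        refine ⟨⟨y * x * y⁻¹, hX.conj_mem _ x.2 y⟩, y • v, ?_⟩
        show (y * x * y⁻¹) • (y • v) - y • v = y • ((x : Y) • v - v)
        rw [smul_sub, mul_smul, mul_smul, inv_smul_smul]
      exact h3 hm
    have hB : B = ⊥ := by
      by_contra hne
      have h3 := h.le_of (toG_le R B) (toG_norm R hBY) (by
        intro h4
        apply hne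
        apply toG_inj R
        rw [h4, toG_bot])
      obtain ⟨z, hz⟩ := (Subgroup.ne_bot_iff_exists_ne_one).mp h.V1_ne
      obtain ⟨m, hm, e⟩ := h3 z.2
      have h4 : m ∈ A := by
        show R.el m ∈ V1 S P
        rw [e]
        exact z.2
      have h5 : Nm m = m := hN2 m fun x => congrArg Subtype.val (x.2 ⟨m, h4⟩)
      rw [hBN m hm] at h5
      apply hz
      apply Subtype.ext
      rw [← e, ← h5, R.el_zero]
      rfl
    intro y hy
    apply R.faith
    intro m
    have h3 : y • m - m ∈ B := AddSubgroup.subset_closure ⟨⟨y, hy⟩, m, rfl⟩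
    rw [hB, AddSubgroup.mem_bot, sub_eq_zero] at h3
    exact h3
  exact
    { el := fun m => R.el m
      mem := fun m => m.2
      add := fun m n => R.add m n
      inj := fun a b hab => Subtype.ext (R.inj hab)
      surj := fun v hv => by
        obtain ⟨m, hm⟩ := R.surj v (h.V1_le hv)
        exact ⟨⟨m, by show R.el m ∈ V1 S P; rw [hm]; exact hv⟩, hm⟩
      ac := R.ac
      acs := R.acs
      smul := fun p m => R.smul p m
      two := fun m => Subtype.ext (R.two m)
      faith := hfaith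
      core := R.core
      mem_T := R.mem_T
      TM := R.TM
      Mne := R.Mne
      max := R.max }

variable {Y M : Type u} [Group Y] [AddCommGroup M] [DistribMulAction Y M] {T : Sylow 2 Y} {Mx : Subgroup Y}

theorem _root_.Cfsg.Agent.Omega.NO1.WRF.Irr.FDat.W_not_le1 (h : FDat S P E F W) :
    ¬ W ≤ centralizer (V1 S P : Set G) := by
  intro hc
  apply h.flat1.ne
  refine inf_le_right.trans ?_
  rw [h.flat1.F_eq]
  exact le_inf le_rfl (Subgroup.le_centralizer_iff.mp hc)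

/-- `V₁` is irreducible -/
theorem irred (h : FDat S P E F W) (R : Rep (S : Subgroup G) P (V1 S P) Y M T Mx) : Irred Y M := by
  intro A hA
  rcases h.irr (toG_le R A) (toG_norm R hA) with h1 | h1
  · left
    apply toG_inj R
    rw [h1, toG_bot]
  · right
    apply toG_inj R
    rw [h1, toG_top]

/-- WRF -/
theorem prim [Finite M] (h : FDat S P E F W) (R : Rep (S : Subgroup G) P (V1 S P) Y M T Mx) {FF : Subgroup G}
    (hoff : ∀ A : Subgroup G, A ≤ P → ¬ OffM (zl (S : Subgroup G) P) A)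
    (hFF : F ≤ FF) (hFV : zl (S : Subgroup G) P ≤ centralizer (FF : Set G))
    (hFc : FF ≤ centralizer (FF : Set G)) (hF2 : IsPGroup 2 FF)
    (hbad : ¬ zl (S : Subgroup G) P ≤ o2 (centralizer (FF : Set G))) : Prim Y M := by
  intro 𝒮 h0 hperm htr hind hsup A hA
  by_contra hne
  have hnt : Nontrivial 𝒮 := by
    by_contra hcon
    rw [not_nontrivial_iff_subsingleton] at hcon
    apply hne
    rw [← hsup]
    apply le_antisymm (le_sSup hA)
    apply sSup_le
    intro B hB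
    exact (congrArg Subtype.val (hcon.elim ⟨B, hB⟩ ⟨A, hA⟩)).le
  have hfin : Finite 𝒮 := inferInstance
  refine h.wrf1 (Vf := fun B : 𝒮 => toG R B) hoff hFF hFV hFc hF2 hbad ?_ ?_ ?_ ?_
  · rw [sSupIndep_iff] at hind
    intro i
    have h1 := hind i
    rw [disjoint_iff] at h1 ⊢
    have h2 : (⨆ j : 𝒮, ⨆ _ : j ≠ i, toG R (j : AddSubgroup M)) = toG R (⨆ j : 𝒮, ⨆ _ : j ≠ i, (j : AddSubgroup M)) := by
      rw [(gc R).l_iSup]
      congr 1
      ext1 j
      rw [(gc R).l_iSup]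
    rw [h2, ← toG_inf]
    have h3 : ((i : AddSubgroup M) ⊓ ⨆ j : 𝒮, ⨆ _ : j ≠ i, (j : AddSubgroup M)) = ⊥ := h1
    rw [h3, toG_bot]
  · rw [← (gc R).l_iSup, ← sSup_eq_iSup', hsup, toG_top]
  · intro p hp i
    exact ⟨⟨_, hperm (R.ac ⟨p, hp⟩) i i.2⟩, cj_toG R hp⟩
  · intro i j
    obtain ⟨y, hy⟩ := htr i i.2 j j.2
    obtain ⟨p, rfl⟩ := R.acs y
    refine ⟨p, p.2, ?_⟩
    rw [cj_toG R p.2]
    exact congrArg (toG R) hy

/-- **(III)**: if the image `U` of `W` centralises `O(Y)`, there is a component of even order not centralised by `U`,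
and `V₁` is irreducible for `E(Y)` -/
theorem exists_sit [Finite Y] [Finite M] (h : FDat S P E F W) (R : Rep (S : Subgroup G) P (V1 S P) Y M T Mx)
    {FF : Subgroup G} (hoff : ∀ A : Subgroup G, A ≤ P → ¬ OffM (zl (S : Subgroup G) P) A)
    (hFF : F ≤ FF) (hFV : zl (S : Subgroup G) P ≤ centralizer (FF : Set G))
    (hFc : FF ≤ centralizer (FF : Set G)) (hF2 : IsPGroup 2 FF)
    (hbad : ¬ zl (S : Subgroup G) P ≤ o2 (centralizer (FF : Set G)))
    (hO : R.im W ≤ centralizer (pPrimeCore 2 Y : Set Y)) :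
    ∃ K : Subgroup Y, Grp.Sit T Mx K ∧ ¬ R.im W ≤ centralizer (K : Set Y) ∧
      ∀ X : AddSubgroup M, (∀ x ∈ layer Y, ∀ m ∈ X, x • m ∈ X) → X = ⊥ ∨ X = ⊤ := by
  have hU2 : IsPGroup 2 (R.im W) := (h.W2.comap_of_injective P.subtype P.subtype_injective).map _
  have hU1 : R.im W ≠ ⊥ := by
    intro h0
    apply h.W_not_le1
    intro w hw
    have h1 : R.ac ⟨w, h.WP hw⟩ ∈ R.im W := R.mem_im.mpr ⟨w, h.WP hw, hw, rfl⟩
    rw [h0, mem_bot] at h1
    exact R.ac_eq_one.mp h1
  obtain ⟨K, hK, hK2, hUK⟩ := (minP R).exists_comp hU2 hU1 hO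
  have hs : Grp.Sit T Mx K := ⟨minP R, hK, hK2⟩
  exact ⟨K, hs, hUK, hs.irr_layer R.two (irred h R) (prim h R hoff hFF hFV hFc hF2 hbad)⟩

end fdat

end Cfsg.Agent.Omega.NO1.Comp.RepOne

end

section


/-!
# `V₁ = V_P` (project OMEGA, N1, THEOREM COMP #17539, (7); helper168)
-/

set_option autoImplicit false
set_option linter.unusedSectionVars false

namespace Cfsg.Agent.Omega.NO1.Comp.Seven

open Subgroup Cfsg Cfsg.Agent.ZN Cfsg.Agent.Omega.MinPar Cfsg.Agent.Omega.Frame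
open Cfsg.Agent.Omega.NO1 Cfsg.Agent.Omega.NO1.WRF.Irr
open scoped commutatorElement
open Cfsg.Agent.MinSimple.VModule (oddGen mem_oddGen oddGen_def oddGen_le le_normalizer_oddGen)

universe u

section md

variable {Y M : Type*} [Group Y] [AddCommGroup M] [DistribMulAction Y M]

/-- coprime action -/
theorem exists_fix (two : ∀ m : M, m + m = 0) {h : Y} (odd : Odd (orderOf h)) {M₁ : AddSubgroup M}
    (hM : ∀ m, h • m - m ∈ M₁) (inv : ∀ m ∈ M₁, h • m ∈ M₁) (m : M) : ∃ d, h • d = d ∧ d - m ∈ M₁ := by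
  refine ⟨∑ i ∈ Finset.range (orderOf h), h ^ i • m, ?_, ?_⟩
  · rw [Finset.smul_sum]
    simp only [smul_smul, ← pow_succ']
    have h1 := Finset.sum_range_succ (fun i => h ^ i • m) (orderOf h)
    have h2 := Finset.sum_range_succ' (fun i => h ^ i • m) (orderOf h)
    rw [h2] at h1
    rw [pow_orderOf_eq_one, pow_zero] at h1
    exact add_right_cancel h1
  · have h3 : ∀ i, h ^ i • m - m ∈ M₁ := by
      intro i
      induction i with
      | zero => simp
      | succ i ih =>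
        have h4 : h ^ (i + 1) • m - m = h • (h ^ i • m - m) + (h • m - m) := by
          rw [pow_succ', mul_smul, smul_sub]; abel
        rw [h4]
        exact M₁.add_mem (inv _ ih) (hM m)
    have h5 : ∀ n, ∑ i ∈ Finset.range n, h ^ i • m - n • m ∈ M₁ := by
      intro n
      induction n with
      | zero => simp
      | succ n ih =>
        rw [Finset.sum_range_succ, succ_nsmul]
        have h6 : ∑ i ∈ Finset.range n, h ^ i • m + h ^ n • m - (n • m + m) =
          (∑ i ∈ Finset.range n, h ^ i • m - n • m) + (h ^ n • m - m) := by abel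
        rw [h6]
        exact M₁.add_mem ih (h3 n)
    have h7 : orderOf h • m = m := by
      obtain ⟨k, hk⟩ := odd
      rw [hk, add_nsmul, one_nsmul, mul_comm, mul_nsmul, two_nsmul, two, zero_add]
    have h8 := h5 (orderOf h)
    rwa [h7] at h8

/-- **(7)** -/
theorem seven (two : ∀ m : M, m + m = 0) (faith : ∀ y : Y, (∀ m : M, y • m = m) → y = 1)
    (core : ∀ N : Subgroup Y, N.Normal → IsPGroup 2 N → N = ⊥) (O : Subgroup Y) (hO : O.Normal)
    (M₁ : AddSubgroup M) (inv : ∀ y : Y, ∀ m ∈ M₁, y • m ∈ M₁) (hM : ∀ y ∈ O, ∀ m, y • m - m ∈ M₁)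
    (hcen : ∀ m : M, (∀ y ∈ O, y • m = m) → m = 0) (h₁ h₂ : Y) (hh₁ : h₁ ∈ O) (hh₂ : h₂ ∈ O)
    (odd₁ : Odd (orderOf h₁)) (fp₁ : ∀ m ∈ M₁, h₁ • m = m → m = 0) (fp₂ : ∀ m ∈ M₁, h₂ • m = m → m = 0)
    (hc : ∀ m ∈ M₁, h₁ • h₂ • m = h₂ • h₁ • m)
    (conj : ∀ y : Y, (∀ m ∈ M₁, (y * h₁ * y⁻¹) • h₁ • m = h₁ • (y * h₁ * y⁻¹) • m) ∨
      (∀ m ∈ M₁, (y * h₁ * y⁻¹) • h₂ • m = h₂ • (y * h₁ * y⁻¹) • m)) : M₁ = ⊤ := by
  -- elements of `O` trivial on `M₁` are trivial
  have hN : ∀ y ∈ O, (∀ m ∈ M₁, y • m = m) → y = 1 := by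
    let N : Subgroup Y :=
      { carrier := {y | (∀ m ∈ M₁, y • m = m) ∧ ∀ m : M, y • m - m ∈ M₁}
        one_mem' := ⟨fun m _ => one_smul Y m, fun m => by rw [one_smul, sub_self]; exact M₁.zero_mem⟩
        mul_mem' := by
          rintro x y ⟨hx, hx'⟩ ⟨hy, hy'⟩
          refine ⟨fun m hm => by rw [mul_smul, hy m hm, hx m hm], fun m => ?_⟩
          have h1 : (x * y) • m - m = x • (y • m - m) + (x • m - m) := by
            rw [mul_smul, smul_sub]; abel
          rw [h1]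
          exact M₁.add_mem (inv x _ (hy' m)) (hx' m)
        inv_mem' := by
          rintro x ⟨hx, hx'⟩
          refine ⟨fun m hm => by rw [inv_smul_eq_iff, hx m hm], fun m => ?_⟩
          have h1 : x⁻¹ • m - m = - (x⁻¹ • (x • m - m)) := by
            rw [smul_sub, inv_smul_smul]; abel
          rw [h1]
          exact M₁.neg_mem (inv _ _ (hx' m)) }
    have h1 : N.Normal := by
      refine ⟨fun n hn g => ⟨fun m hm => ?_, fun m => ?_⟩⟩
      · rw [mul_smul, mul_smul, hn.1 _ (inv g⁻¹ m hm), smul_inv_smul]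
      · have h2 : (g * n * g⁻¹) • m - m = g • (n • g⁻¹ • m - g⁻¹ • m) := by
          rw [smul_sub, smul_inv_smul, mul_smul, mul_smul]
        rw [h2]
        exact inv g _ (hn.2 _)
    have h2 : IsPGroup 2 N := by
      intro y
      refine ⟨1, ?_⟩
      apply Subtype.ext
      apply faith
      intro m
      change ((y : Y) ^ 2 ^ 1) • m = m
      rw [pow_one, pow_two, mul_smul]
      have h3 : (y : Y) • m = m + ((y : Y) • m - m) := by abel
      rw [h3, smul_add, y.2.1 _ (y.2.2 m)]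
      have h4 : (y : Y) • m + ((y : Y) • m - m) = m + (((y : Y) • m - m) + ((y : Y) • m - m)) := by abel
      rw [h4, two, add_zero]
    have h3 := core N h1 h2
    intro y hy hy1
    have h4 : y ∈ N := ⟨hy1, hM y hy⟩
    rw [h3] at h4
    exact mem_bot.1 h4
  have hcomm : ∀ x ∈ O, ∀ y ∈ O, (∀ m ∈ M₁, x • y • m = y • x • m) → x * y = y * x := by
    intro x hx y hy hxy
    have h1 : (y * x)⁻¹ * (x * y) = 1 := by
      apply hN _ (O.mul_mem (O.inv_mem (O.mul_mem hy hx)) (O.mul_mem hx hy))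
      intro m hm
      rw [mul_smul, inv_smul_eq_iff, mul_smul, mul_smul, hxy m hm]
    rw [inv_mul_eq_one] at h1
    exact h1.symm
  -- an element of `O` commuting with `h` centralises `C_M(h)`
  have hfix : ∀ h ∈ O, (∀ m ∈ M₁, h • m = m → m = 0) → ∀ r ∈ O, r * h = h * r →
      ∀ d : M, h • d = d → r • d = d := by
    intro h _ fp r hr hrh d hd
    have h1 : r • d - d = 0 := by
      apply fp _ (hM r hr d)
      rw [smul_sub, ← mul_smul, ← hrh, mul_smul, hd]
    exact sub_eq_zero.1 h1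
  have h12 : h₁ * h₂ = h₂ * h₁ := hcomm h₁ hh₁ h₂ hh₂ hc
  have hd12 : ∀ d : M, h₁ • d = d → h₂ • d = d := hfix h₁ hh₁ fp₁ h₂ hh₂ h12.symm
  have hinv : ∀ y : Y, ∀ d : M, h₁ • d = d → h₁ • y • d = y • d := by
    intro y d hd
    have hx : y⁻¹ * h₁ * y ∈ O := by
      have := hO.conj_mem h₁ hh₁ y⁻¹
      rwa [inv_inv] at this
    have hxd : (y⁻¹ * h₁ * y) • d = d := by
      have h3 := conj y⁻¹
      rw [inv_inv] at h3
      rcases h3 with h3 | h3
      · exact hfix h₁ hh₁ fp₁ _ hx (hcomm _ hx _ hh₁ h3) d hd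
      · exact hfix h₂ hh₂ fp₂ _ hx (hcomm _ hx _ hh₂ h3) d (hd12 d hd)
    have h4 : y • (y⁻¹ * h₁ * y) • d = y • d := by rw [hxd]
    rwa [← mul_smul, show y * (y⁻¹ * h₁ * y) = h₁ * y by group, mul_smul] at h4
  have hzero : ∀ d : M, h₁ • d = d → d = 0 := by
    intro d hd
    apply hcen
    intro r hr
    have h1 : r • d - d = 0 := by
      apply fp₁ _ (hM r hr d)
      rw [smul_sub, hinv r d hd, hd]
    exact sub_eq_zero.1 h1
  rw [eq_top_iff]
  intro m _
  obtain ⟨d, hd, hdm⟩ := exists_fix two odd₁ (hM h₁ hh₁) (inv h₁) m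
  rw [hzero d hd, zero_sub] at hdm
  exact neg_mem_iff.1 hdm

end md

section grp

variable {G : Type u} [Group G] [Finite G] {S : Sylow 2 G} {P : Subgroup G}

/-- **(7)** : `V₁ = V_P` -/
theorem V1_eq (h : Cfg S P) {Y₁ N : Type u} [Group Y₁] [AddCommGroup N] [DistribMulAction Y₁ N] {T₁ : Sylow 2 Y₁}
    {Mx₁ : Subgroup Y₁} (R₁ : Rep (S : Subgroup G) P (V1 S P) Y₁ N T₁ Mx₁) (h₁ h₂ : Y₁) (odd₁ : Odd (orderOf h₁))
    (odd₂ : Odd (orderOf h₂)) (fp₁ : ∀ m : N, h₁ • m = m → m = 0) (fp₂ : ∀ m : N, h₂ • m = m → m = 0)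
    (hc : h₁ * h₂ = h₂ * h₁)
    (conj : ∀ y : Y₁, (y * h₁ * y⁻¹) * h₁ = h₁ * (y * h₁ * y⁻¹) ∨ (y * h₁ * y⁻¹) * h₂ = h₂ * (y * h₁ * y⁻¹)) :
    V1 S P = zl (S : Subgroup G) P := by
  obtain ⟨Y, M, _, _, _, _, _, T, Mx, ⟨R⟩⟩ := h.exists_rep
  -- lifts
  have lift : ∀ y : Y₁, Odd (orderOf y) → ∃ p : P, Odd (orderOf p) ∧ R₁.ac p = y := by
    intro y hy
    obtain ⟨p, rfl⟩ := R₁.acs y
    obtain ⟨n, h1, h2⟩ := MinSimple.EmptyE.Lift.exists_odd_lift R₁.ac p hy
    exact ⟨p ^ n, h1, h2⟩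
  obtain ⟨p₁, ho₁, rfl⟩ := lift h₁ odd₁
  obtain ⟨p₂, ho₂, rfl⟩ := lift h₂ odd₂
  have hV1 : V1 S P ≤ zl (S : Subgroup G) P := by
    rw [V1, commutator_le]
    intro v hv x hx
    rw [commutatorElement_def, mul_assoc, mul_assoc]
    refine mul_mem hv ?_
    rw [← mul_assoc]
    exact (mem_normalizer_iff.1 (Cfg.P_norm_V S P (oddGen_le P hx)) v⁻¹).1 (inv_mem hv)
  have hcomm : ∀ x ∈ oddGen P, ∀ v ∈ zl (S : Subgroup G) P, x * v * x⁻¹ * v⁻¹ ∈ V1 S P := by
    intro x hx v hv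
    have h1 : ⁅v, x⁆ ∈ V1 S P := commutator_mem_commutator hv hx
    have h2 := inv_mem h1
    rwa [commutatorElement_inv, commutatorElement_def] at h2
  -- the transfer between `R₁` and `R`
  have tr : ∀ m : M, m ∈ R.ag (V1 S P) → ∃ n : N, R₁.el n = R.el m := fun m hm => R₁.surj _ hm
  have hact : ∀ (m : M) (n : N) (p : P), R₁.el n = R.el m → R₁.el (R₁.ac p • n) = R.el (R.ac p • m) := by
    intro m n p e
    rw [R₁.smul, R.smul, e]
  have hcom : ∀ p q : P, R₁.ac p * R₁.ac q = R₁.ac q * R₁.ac p →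
      ∀ m ∈ R.ag (V1 S P), R.ac p • R.ac q • m = R.ac q • R.ac p • m := by
    intro p q hpq m hm
    obtain ⟨n, hn⟩ := tr m hm
    apply R.inj
    rw [← hact _ _ p (hact _ _ q hn), ← hact _ _ q (hact _ _ p hn), ← mul_smul, hpq, mul_smul]
  have fp : ∀ p : P, (∀ n : N, R₁.ac p • n = n → n = 0) → ∀ m ∈ R.ag (V1 S P), R.ac p • m = m → m = 0 := by
    intro p hp m hm h1
    obtain ⟨n, hn⟩ := tr m hm
    have h2 : R₁.ac p • n = n := by
      apply R₁.inj
      rw [hact _ _ p hn, h1, hn]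
    have h3 := hp n h2
    rw [h3, R₁.el_zero, ← R.el_zero] at hn
    exact (R.inj hn).symm
  have hodd : ∀ p : P, Odd (orderOf p) → (p : G) ∈ oddGen P := by
    intro p hp
    refine mem_oddGen p.2 ?_
    rwa [Subgroup.orderOf_coe]
  have key := seven R.two R.faith R.core (R.im (oddGen P)) (by
      have h1 : ((oddGen P).subgroupOf P).Normal := normal_subgroupOf_of_le_normalizer (le_normalizer_oddGen P)
      exact h1.map R.ac R.acs)
    (R.ag (V1 S P)) (by
      intro y m hm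
      obtain ⟨p, rfl⟩ := R.acs y
      rw [Rep.mem_ag, R.smul]
      obtain ⟨n, hn⟩ := tr m hm
      rw [← hn, ← R₁.smul]
      exact R₁.mem _)
    (by
      rintro _ ⟨p, hp, rfl⟩ m
      rw [Rep.mem_ag, sub_eq_add_neg, R.add, R.el_neg, R.smul]
      exact hcomm p hp _ (R.mem m))
    (by
      intro m hm
      have h1 : R.el m ∈ zl (S : Subgroup G) P ⊓ centralizer (oddGen P : Set G) := by
        refine ⟨R.mem m, ?_⟩
        change R.el m ∈ centralizer (oddGen P : Set G)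
        rw [mem_centralizer_iff]
        intro x hx
        have h2 := hm (R.ac ⟨x, oddGen_le P hx⟩) ⟨_, hx, rfl⟩
        have h3 := congrArg R.el h2
        rw [R.smul] at h3
        exact mul_inv_eq_iff_eq_mul.1 h3
      rw [h.one.cen, mem_bot] at h1
      apply R.inj
      rw [h1, R.el_zero])
    (R.ac p₁) (R.ac p₂) ⟨p₁, hodd p₁ ho₁, rfl⟩ ⟨p₂, hodd p₂ ho₂, rfl⟩
    (Odd.of_dvd_nat ho₁ (orderOf_map_dvd R.ac p₁)) (fp p₁ fp₁) (fp p₂ fp₂) (hcom p₁ p₂ hc) (by
      intro y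
      obtain ⟨g, rfl⟩ := R.acs y
      rw [← map_mul, ← map_inv, ← map_mul]
      rcases conj (R₁.ac g) with h1 | h1
      · left
        rw [← map_mul, ← map_inv, ← map_mul] at h1
        exact hcom _ _ h1
      · right
        rw [← map_mul, ← map_inv, ← map_mul] at h1
        exact hcom _ _ h1)
  refine le_antisymm hV1 fun v hv => ?_
  obtain ⟨m, rfl⟩ := R.surj v hv
  have h1 : m ∈ R.ag (V1 S P) := by rw [key]; trivial
  exact h1

end grp

section h

open Matrix

variable {Y M : Type*} [Group Y] [AddCommGroup M] [DistribMulAction Y M] {K : Type*} [Field K]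
  {c : M → Matrix (Fin 2) (Fin 2) K}

theorem MC.zero (C : MC Y c) : c 0 = 0 := by
  have h := C.add 0 0
  rw [add_zero] at h
  exact left_eq_add.1 h

theorem MC.neg (C : MC Y c) (m : M) : c (-m) = - c m := by
  have h := C.add (-m) m
  rw [neg_add_cancel, MC.zero C] at h
  exact eq_neg_of_add_eq_zero_left h.symm

theorem MC.inj (C : MC Y c) {m n : M} (h : c m = c n) : m = n := by
  have h1 : c (m + -n) = 0 := by rw [C.add, MC.neg C, h, add_neg_cancel]
  have h2 := C.ker _ h1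
  exact eq_of_sub_eq_zero (by rwa [sub_eq_add_neg])

theorem exists_lam [Finite K] (h4 : 4 ≤ Nat.card K) : ∃ l : K, l ≠ 0 ∧ l ≠ 1 := by
  classical
  have := Fintype.ofFinite K
  by_contra hcon
  push Not at hcon
  have h1 : Nat.card K ≤ 2 := by
    rw [Nat.card_eq_fintype_card, ← Finset.card_univ]
    calc (Finset.univ : Finset K).card ≤ ({0, 1} : Finset K).card := by
          apply Finset.card_le_card
          intro x _
          by_cases hx : x = 0
          · simp [hx]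
          · simp [hcon x hx]
      _ ≤ 2 := Finset.card_le_two
  omega

/-- the elements `h₁ = diag(λ, λ⁻¹) ⊗ 1`, `h₂ = 1 ⊗ diag(λ, λ⁻¹)` -/
theorem MC.exists_h [Finite K] [CharP K 2] (h4 : 4 ≤ Nat.card K) (C : MC Y c)
    (faith : ∀ y : Y, (∀ m : M, y • m = m) → y = 1) :
    ∃ h₁ h₂ : Y, Odd (orderOf h₁) ∧ Odd (orderOf h₂) ∧ (∀ m : M, h₁ • m = m → m = 0) ∧
      (∀ m : M, h₂ • m = m → m = 0) ∧ h₁ * h₂ = h₂ * h₁ ∧
      ∀ y : Y, (y * h₁ * y⁻¹) * h₁ = h₁ * (y * h₁ * y⁻¹) ∨ (y * h₁ * y⁻¹) * h₂ = h₂ * (y * h₁ * y⁻¹) := by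
  obtain ⟨l, hl0, hl1⟩ := exists_lam (K := K) h4
  have hli1 : l⁻¹ ≠ 1 := fun h => hl1 (inv_eq_one.1 h)
  let D : Matrix.SpecialLinearGroup (Fin 2) K := ⟨!![l, 0; 0, l⁻¹], by rw [det_fin_two_of]; simp [hl0]⟩
  have hD : D.1 = !![l, 0; 0, l⁻¹] := rfl
  obtain ⟨h₁, hh₁⟩ := C.lift D 1
  obtain ⟨h₂, hh₂⟩ := C.lift 1 D
  have e1 : (1 : Matrix.SpecialLinearGroup (Fin 2) K).1 = 1 := rfl
  have hh₁' : ∀ m, c (h₁ • m) = D.1 * c m := fun m => by
    rw [hh₁, e1, transpose_one, Matrix.mul_one]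
  have hh₂' : ∀ m, c (h₂ • m) = c m * D.1ᵀ := fun m => by
    rw [hh₂, e1, Matrix.one_mul]
  have ext1 : ∀ x y : Y, (∀ m, c (x • m) = c (y • m)) → x = y := by
    intro x y hxy
    have h1 : y⁻¹ * x = 1 := by
      apply faith
      intro m
      rw [mul_smul, inv_smul_eq_iff]
      exact MC.inj C (hxy m)
    exact (inv_mul_eq_one.1 h1).symm
  obtain ⟨n, hnodd, hn⟩ : ∃ n : ℕ, Odd n ∧ l ^ n = 1 := by
    have := Fintype.ofFinite K
    refine ⟨Fintype.card K - 1, ?_, FiniteField.pow_card_sub_one_eq_one l hl0⟩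
    have : Fact (Nat.Prime 2) := ⟨Nat.prime_two⟩
    obtain ⟨k, -, hk⟩ := FiniteField.card K 2
    have h1 : Even (Fintype.card K) := by
      rw [hk]
      exact (Nat.even_pow.2 ⟨even_two, k.pos.ne'⟩)
    exact Nat.Even.sub_odd Fintype.card_pos h1 odd_one
  have hDn : ∀ k : ℕ, D.1 ^ k = !![l ^ k, 0; 0, (l⁻¹) ^ k] := by
    intro k
    induction k with
    | zero => rw [pow_zero, pow_zero, pow_zero, one_fin_two]
    | succ k ih =>
      rw [pow_succ, ih, hD, mul_fin_two]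
      simp [pow_succ]
  have hp1 : ∀ (k : ℕ) m, c (h₁ ^ k • m) = D.1 ^ k * c m := by
    intro k
    induction k with
    | zero => intro m; rw [pow_zero, pow_zero, one_smul, Matrix.one_mul]
    | succ k ih => intro m; rw [pow_succ, mul_smul, ih, hh₁', pow_succ, Matrix.mul_assoc]
  have hp2 : ∀ (k : ℕ) m, c (h₂ ^ k • m) = c m * (D.1 ^ k)ᵀ := by
    intro k
    induction k with
    | zero => intro m; rw [pow_zero, pow_zero, one_smul, transpose_one, Matrix.mul_one]
    | succ k ih => intro m; rw [pow_succ, mul_smul, ih, hh₂', pow_succ', transpose_mul, Matrix.mul_assoc, transpose_pow,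
        ← pow_succ', ← pow_succ]
  have hDn1 : D.1 ^ n = 1 := by
    rw [hDn, inv_pow, hn, inv_one, one_fin_two]
  refine ⟨h₁, h₂, ?_, ?_, ?_, ?_, ?_, ?_⟩
  · refine hnodd.of_dvd_nat (orderOf_dvd_of_pow_eq_one ?_)
    apply ext1
    intro m
    rw [hp1, hDn1, Matrix.one_mul, one_smul]
  · refine hnodd.of_dvd_nat (orderOf_dvd_of_pow_eq_one ?_)
    apply ext1
    intro m
    rw [hp2, hDn1, transpose_one, Matrix.mul_one, one_smul]
  · intro m hm
    apply C.ker
    have h1 : D.1 * c m = c m := by rw [← hh₁', hm]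
    have key : ∀ x : K, ∀ k : K, k ≠ 1 → k * x = x → x = 0 := by
      intro x k hk hx
      have h2 : (k - 1) * x = 0 := by rw [sub_mul, hx, one_mul, sub_self]
      exact (mul_eq_zero.1 h2).resolve_left (sub_ne_zero.2 hk)
    ext i j
    have h3 := congrFun (congrFun h1 i) j
    rw [hD, Matrix.mul_apply, Fin.sum_univ_two] at h3
    fin_cases i
    · simp only [Fin.zero_eta, of_apply, cons_val', cons_val_zero, cons_val_one, zero_mul, add_zero] at h3
      exact key _ l hl1 h3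
    · simp only [Fin.mk_one, of_apply, cons_val', cons_val_zero, cons_val_one, zero_mul, zero_add] at h3
      exact key _ l⁻¹ hli1 h3
  · intro m hm
    apply C.ker
    have h1 : c m * D.1ᵀ = c m := by rw [← hh₂', hm]
    have key : ∀ x : K, ∀ k : K, k ≠ 1 → x * k = x → x = 0 := by
      intro x k hk hx
      have h2 : x * (k - 1) = 0 := by rw [mul_sub, hx, mul_one, sub_self]
      exact (mul_eq_zero.1 h2).resolve_right (sub_ne_zero.2 hk)
    ext i j
    have h3 := congrFun (congrFun h1 i) j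
    rw [hD, Matrix.mul_apply, Fin.sum_univ_two] at h3
    fin_cases j
    · simp only [Fin.zero_eta, transpose_apply, of_apply, cons_val', cons_val_zero, cons_val_one, mul_zero, add_zero] at h3
      exact key _ l hl1 h3
    · simp only [Fin.mk_one, transpose_apply, of_apply, cons_val', cons_val_zero, cons_val_one, mul_zero, zero_add] at h3
      exact key _ l⁻¹ hli1 h3
  · apply ext1
    intro m
    rw [mul_smul, hh₁', hh₂', mul_smul, hh₂', hh₁', Matrix.mul_assoc]
  · intro y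
    rcases C.ps y with ⟨σ, X, Q, h1, h2, h3⟩ | ⟨σ, X, Q, h1, h2, h3⟩
    · right
      obtain ⟨D', hD'⟩ := exists_conjM σ X h1 D
      have h5 : ∀ m, c ((y * h₁ * y⁻¹) • m) = D'.1 * c m := by
        intro m
        have h6 := h3 (y⁻¹ • m)
        rw [smul_inv_smul] at h6
        rw [mul_smul, mul_smul, h3, hh₁', h6, map_mul_eq]
        calc X * (D.1.map σ * (c (y⁻¹ • m)).map σ) * Qᵀ = (X * D.1.map σ) * ((c (y⁻¹ • m)).map σ * Qᵀ) := by
              simp only [Matrix.mul_assoc]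
          _ = (D'.1 * X) * ((c (y⁻¹ • m)).map σ * Qᵀ) := by rw [hD']
          _ = _ := by simp only [Matrix.mul_assoc]
      apply ext1
      intro m
      rw [mul_smul (y * h₁ * y⁻¹), mul_smul h₂, h5, hh₂', hh₂', h5, Matrix.mul_assoc]
    · left
      obtain ⟨D', hD'⟩ := exists_conjM σ Q h2 D
      have h5 : ∀ m, c ((y * h₁ * y⁻¹) • m) = c m * D'.1ᵀ := by
        intro m
        have h6 := h3 (y⁻¹ • m)
        rw [smul_inv_smul] at h6
        have h7 : (Q * D.1.map σ)ᵀ = (D'.1 * Q)ᵀ := by rw [hD']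
        rw [transpose_mul, transpose_mul] at h7
        rw [mul_smul, mul_smul, h3, hh₁', h6, map_mul_eq, transpose_mul]
        calc X * (((c (y⁻¹ • m)).map σ)ᵀ * (D.1.map σ)ᵀ) * Qᵀ
            = X * ((c (y⁻¹ • m)).map σ)ᵀ * ((D.1.map σ)ᵀ * Qᵀ) := by simp only [Matrix.mul_assoc]
          _ = X * ((c (y⁻¹ • m)).map σ)ᵀ * (Qᵀ * D'.1ᵀ) := by rw [h7]
          _ = _ := by simp only [Matrix.mul_assoc]
      apply ext1
      intro m
      rw [mul_smul (y * h₁ * y⁻¹), mul_smul h₁, h5, hh₁', hh₁', h5, Matrix.mul_assoc]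

theorem exists_small {K : Type*} [Field K] [Finite K] [CharP K 2] :
    ∃ (K₀ : Type) (_ : Field K₀) (_ : Finite K₀) (_ : CharP K₀ 2), Nat.card K₀ = Nat.card K ∧
      Nonempty (K ≃+* K₀) := by
  have : Fact (Nat.Prime 2) := ⟨Nat.prime_two⟩
  have := Fintype.ofFinite K
  obtain ⟨n, -, hn⟩ := FiniteField.card K 2
  have hn0 : (n : ℕ) ≠ 0 := n.pos.ne'
  have h2 : Nat.card (GaloisField 2 n) = Nat.card K := by
    rw [GaloisField.card 2 n hn0, Nat.card_eq_fintype_card, hn]
  have := Fintype.ofFinite (GaloisField 2 n)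
  refine ⟨GaloisField 2 n, inferInstance, inferInstance, inferInstance, h2, ⟨?_⟩⟩
  exact FiniteField.ringEquivOfCardEq (by rw [← Nat.card_eq_fintype_card, ← Nat.card_eq_fintype_card, h2])

end h

section top

variable {G : Type u} [Group G] [Finite G] {S : Sylow 2 G} {P : Subgroup G}

/-- `V₁ = V_P` and `PlusQ` -/
theorem ty_of_mc (h : Cfg S P) {Y M : Type u} [Group Y] [AddCommGroup M] [DistribMulAction Y M] {T : Sylow 2 Y}
    {Mx : Subgroup Y} (R : Rep (S : Subgroup G) P (V1 S P) Y M T Mx) {K : Type*} [Field K] [Finite K] [CharP K 2]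
    (h4 : 4 ≤ Nat.card K) {c : M → Matrix (Fin 2) (Fin 2) K} (C : MC Y c)
    (hE : 4 ≤ (EE (S : Subgroup G) P).relIndex (zl (S : Subgroup G) P)) : Ty (S : Subgroup G) P := by
  obtain ⟨h₁, h₂, a1, a2, a3, a4, a5, a6⟩ := MC.exists_h h4 C R.faith
  have hV := V1_eq h R h₁ h₂ a1 a2 a3 a4 a5 a6
  obtain ⟨K₀, _, _, _, hK, ⟨τ⟩⟩ := exists_small (K := K)
  have h5 := (C.congr τ).plusQ R
  rw [hV] at h5
  exact Ty.plusQ K₀ (by rw [hK]; exact h4) hE h5

/-- **THEOREM COMP, the end**: `PlusQ` -/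
theorem ty_of_pIn (h : Cfg S P) {Y M : Type u} [Group Y] [AddCommGroup M] [DistribMulAction Y M] {T : Sylow 2 Y}
    {Mx : Subgroup Y} (R : Rep (S : Subgroup G) P (V1 S P) Y M T Mx) {K : Type*} [Field K] [Finite K] [CharP K 2]
    (h4 : 4 ≤ Nat.card K) [Module K M] {W W' : Type*} [AddCommGroup W] [Module K W] [AddCommGroup W'] [Module K W']
    {φ : TensorProduct K W W' ≃ₗ[K] M} (I : PIn Y φ)
    (hE : 4 ≤ (EE (S : Subgroup G) P).relIndex (zl (S : Subgroup G) P)) : Ty (S : Subgroup G) P := by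
  obtain ⟨b, b', C⟩ := I.mc
  exact ty_of_mc h R h4 C hE

end top

end Cfsg.Agent.Omega.NO1.Comp.Seven

end

section


/-!
# THEOREM COMP (#17539): the end (helper789)

* `POut.pIn` : two components give the input `PIn` of `Seven`;
* `Fr.four_le` : `4 ≤ |V_P : V_P ∩ E_F|` implies `4 ≤ |V_P : V_P ∩ O₂(C_G(Z))|`;
* `OneC` : exactly one component, on the representation of `V₁ = [V_P, O²(P)]`;
* `comp` : `Fr S P M F`, `4 ≤ |V_P : V_P ∩ E_F|` imply `Ty S P` or `OneC`;
* `FrOne`, `frFour_of_one` : `FrFour` from the case of one component.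
-/

set_option autoImplicit false
set_option linter.unusedSectionVars false

namespace Cfsg.Agent.Omega.NO1.Comp

open Module TensorProduct Subgroup Cfsg Cfsg.Agent.ZN Cfsg.Agent.Omega.MinPar Cfsg.Agent.Omega.Frame
open Cfsg.Agent.Lib.ComponentSolvable
open Cfsg.Agent.Omega.NO1 Cfsg.Agent.Omega.NO1.WRF.Irr
open Cfsg.Agent.Omega.FFThm (OffM)
open Cfsg.Agent.Omega.NOne.Flat (Hyp WW)
open Cfsg.Agent.Omega.NO1.Comp.Six (Pur Swp IsPure IsSwap Ind Ind')

universe u

section pin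

variable {Y M : Type u} [Group Y] [Finite Y] [AddCommGroup M] [Finite M] [DistribMulAction Y M] [FaithfulSMul Y M]
variable {K : Type u} [Field K] [Finite K] [CharP K 2] [Module K M]

theorem POut.pIn {T : Sylow 2 Y} {Mx : Subgroup Y} {E : AddSubgroup M} {W W' : Type u} [AddCommGroup W] [Module K W]
    [AddCommGroup W'] [Module K W'] {φ : W ⊗[K] W' ≃ₗ[K] M} (h : POut (Y := Y) T E φ) (hM : Grp.MinP T Mx)
    (hirr : Irr.Irred Y M) : PIn Y φ := by
  have := h.fin
  have := h.fin'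
  obtain ⟨s, hsT, hs⟩ := h.sw
  obtain ⟨f₀, hf0, hf⟩ := h.tv
  have hall : ∀ (f : Dual K W) (w : W), f w = 0 → ∃ y : Y, Ind φ f w y :=
    fun f w hw => Six.all_transv hf0 hf h.irr f w hw
  have hall' : ∀ (f : Dual K W') (w : W'), f w = 0 → ∃ y : Y, Ind' φ f w y :=
    fun f w hw => Six.all_transv' hs hall f w hw
  have hd : finrank K W = 2 := Six.finrank_eq_two hM (fun y hy => by
    apply FaithfulSMul.eq_of_smul_eq_smul (α := M)
    intro m
    rw [hy m, one_smul]) hirr h.ps hsT hs hall h.d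
  have hd' : finrank K W' = 2 := (Six.finrank_swap hs).trans hd
  exact
    { hW := hd
      hW' := hd'
      r₁ := fun A hA => Six.sl_two hall hd A hA
      r₂ := fun A hA => Six.sl_two' hall' hd' A hA
      ps := h.ps
      sw := ⟨s, hs⟩ }

end pin

section fr

variable {G : Type u} [Group G] [Finite G] {S : Sylow 2 G} {P M₀ F : Subgroup G}

theorem _root_.Cfsg.Agent.Omega.NO1.Fr.four_le (h : Fr S P M₀ F)
    (h4 : 4 ≤ (NOne.Flat.EE (zl (S : Subgroup G) M₀) F).relIndex (zl (S : Subgroup G) P)) :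
    4 ≤ (EE (S : Subgroup G) P).relIndex (zl (S : Subgroup G) P) := by
  have hZF : zc (S : Subgroup G) ≤ F := h.fdat.Z_le.trans inf_le_right
  have hFc : (centralizer (F : Set G)) ≤ NoFF.LinesPlug.CC (S : Subgroup G) := centralizer_le hZF
  have h1 : o2 (NoFF.LinesPlug.CC (S : Subgroup G)) ⊓ centralizer (F : Set G) ≤ o2 (centralizer (F : Set G)) := by
    refine le_o2 inf_le_right ((isPGroup_o2 _).to_le inf_le_left) ?_
    refine le_trans (le_inf ?_ le_normalizer) Subgroup.inf_normalizer_le_normalizer_inf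
    exact hFc.trans (le_normalizer_o2 _)
  have h2 : EE (S : Subgroup G) P ≤ NOne.Flat.EE (zl (S : Subgroup G) M₀) F := by
    refine le_inf (inf_le_left.trans h.VP_le) fun x hx => h1 ⟨hx.2, ?_⟩
    exact (h.VP_le.trans (h.hyp.comm.trans (centralizer_le h.hyp.F_le_V))) hx.1
  exact h4.trans (relIndex_le_of_le_left h2 Subgroup.index_ne_zero_of_finite)

/-- **exactly one component**, on the representation `R` of `V₁`; `V` is the big flat module, `F ≤ V` -/
structure OneC {S : Sylow 2 G} {P : Subgroup G} (V F : Subgroup G) {Y M : Type u} [Group Y] [AddCommGroup M]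
    [DistribMulAction Y M] {T : Sylow 2 Y} {Mx : Subgroup Y} (R : Rep (S : Subgroup G) P (V1 S P) Y M T Mx)
    (K₁ : Subgroup Y) (K : Type u) [Field K] [Module K M] : Prop where
  sit : Grp.Sit T Mx K₁
  act : ¬ R.im (WW V F) ≤ centralizer (K₁ : Set Y)
  inp : Inp (R.im (WW V F)) (R.ag (V1 S P ⊓ NOne.Flat.EE V F)) (R.ag (V1 S P ⊓ F))
  fld : Fld (R.im (WW V F)) K M
  irr : Irr.Irred Y M
  one : ∀ L : Subgroup Y, IsComponent L → L = K₁

/-- **THEOREM COMP** -/
theorem comp (h : Fr S P M₀ F)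
    (h4 : 4 ≤ (NOne.Flat.EE (zl (S : Subgroup G) M₀) F).relIndex (zl (S : Subgroup G) P)) :
    Ty (S : Subgroup G) P ∨
      ∃ (Y M : Type u) (_ : Group Y) (_ : Finite Y) (_ : AddCommGroup M) (_ : Finite M) (_ : DistribMulAction Y M)
        (T : Sylow 2 Y) (Mx : Subgroup Y) (R : Rep (S : Subgroup G) P (V1 S P) Y M T Mx) (K₁ : Subgroup Y)
        (K : Type u) (_ : Field K) (_ : Finite K) (_ : CharP K 2) (_ : Module K M),
        OneC (zl (S : Subgroup G) M₀) F R K₁ K := by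
  have hd := h.fdat
  obtain ⟨Y, M, _, _, _, _, _, T, Mx, ⟨R⟩⟩ := RepOne.exists_rep1 hd
  have := R.faithfulSMul
  have H := h.hyp
  have h0V : V1 S P ≤ zl (S : Subgroup G) M₀ := hd.V1_le.trans h.VP_le
  have hWP : WW (zl (S : Subgroup G) M₀) F ≤ P := h.W_le_S.trans h.cfg.S_le
  have hn : WW (zl (S : Subgroup G) M₀) F ≤ normalizer (V1 S P : Set G) := hWP.trans hd.P_norm_V1
  have hnot : ¬ V1 S P ≤ NOne.Flat.EE (zl (S : Subgroup G) M₀) F := hyp_not_V1 H h.cfg h.VP_le h.W_le_S h.not_le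
  have h4' : 4 ≤ (V1 S P ⊓ NOne.Flat.EE (zl (S : Subgroup G) M₀) F).relIndex (V1 S P) := by
    rw [hyp_index_V1 H h.cfg h.VP_le h.W_le_S h.not_le, inf_relIndex_left]
    exact h4
  obtain ⟨f1, f2, f3, f5⟩ := rep_flat H R hWP h0V hn hnot h4'
  have hO : R.im (WW (zl (S : Subgroup G) M₀) F) ≤ centralizer (pPrimeCore 2 Y : Set Y) := by
    refine rep_odd H R hWP h0V hn hnot h4' ?_ ?_
    · have h5 := Lib.Cores.pPrimeCore_coprime (G := Y) 2
      exact (Nat.coprime_two_right).1 h5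
    · intro u _ x hx
      exact (Lib.Cores.pPrimeCore_normal 2).conj_mem x hx u
  have hF2 : IsPGroup 2 F := S.isPGroup'.to_le (H.F_le_E.trans (NOne.Flat.Hyp.E_le_W.trans h.W_le_S))
  obtain ⟨K₁, hS, hact, hirr⟩ := RepOne.exists_sit hd R h.noff inf_le_right
    (h.VP_le.trans (H.comm.trans (centralizer_le H.F_le_V))) (H.F_le_V.trans (H.comm.trans (centralizer_le H.F_le_V)))
    hF2 (hyp_bad H h.VP_le h.not_le) hO
  have hI : Inp (R.im (WW (zl (S : Subgroup G) M₀) F)) (R.ag (V1 S P ⊓ NOne.Flat.EE (zl (S : Subgroup G) M₀) F))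
      (R.ag (V1 S P ⊓ F)) := ⟨f1, f2, f3, f5, hirr⟩
  obtain ⟨K, _, _, _, _, hf⟩ := hI.exists_field
  by_cases h1 : ∀ L : Subgroup Y, IsComponent L → L = K₁
  · right
    exact ⟨Y, M, inferInstance, inferInstance, inferInstance, inferInstance, inferInstance, T, Mx, R, K₁, K,
      inferInstance, inferInstance, inferInstance, inferInstance, hS, hact, hI, hf, RepOne.irred hd R, h1⟩
  · left
    push Not at h1
    obtain ⟨K₂, h2, h12⟩ := h1
    obtain ⟨W, W', _, _, _, _, φ, hp⟩ := hI.pair hf hS h2 (Ne.symm h12)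
    have h5 : 4 ≤ Nat.card K := by
      have h6 := hp.card
      rw [h6] at f2
      exact Nat.le_of_mul_le_mul_right f2 Nat.card_pos
    exact Seven.ty_of_pIn h.cfg R h5 (hp.pIn (RepOne.minP R) (RepOne.irred hd R)) (h.four_le h4)

end fr

/-- **CARD N1-ONE** (#17954): exactly one component -/
def FrOne : Prop :=
  ∀ (G : Type u) [Group G] [Finite G] (S : Sylow 2 G) (P M₀ F : Subgroup G), Fr S P M₀ F →
    ¬ PlusAt (S : Subgroup G) P (NOne.Flat.EE (zl (S : Subgroup G) M₀) F) →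
    4 ≤ (NOne.Flat.EE (zl (S : Subgroup G) M₀) F).relIndex (zl (S : Subgroup G) P) →
    ∀ (Y M : Type u) [Group Y] [Finite Y] [AddCommGroup M] [Finite M] [DistribMulAction Y M]
      (T : Sylow 2 Y) (Mx : Subgroup Y) (R : Rep (S : Subgroup G) P (V1 S P) Y M T Mx) (K₁ : Subgroup Y)
      (K : Type u) [Field K] [Finite K] [CharP K 2] [Module K M],
      OneC (zl (S : Subgroup G) M₀) F R K₁ K → Ty (S : Subgroup G) P

/-- THEOREM COMP: `FrFour` is reduced to one component -/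
theorem frFour_of_one (h1 : FrOne.{u}) : FrFour.{u} := by
  intro G _ _ S P M₀ F h hp h4
  rcases comp h h4 with h2 | ⟨Y, M, _, _, _, _, _, T, Mx, R, K₁, K, _, _, _, _, h2⟩
  · exact h2
  · exact h1 G S P M₀ F h hp h4 Y M T Mx R K₁ K h2

end Cfsg.Agent.Omega.NO1.Comp

end
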