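import Cfsg.Agent.Omega.NO1.Comp.Tens
import Cfsg.Agent.Mrg.Omega.EH3.Clif.Comp

section


/-!
# From the tensor decomposition `Dec` to pure tensors (project OMEGA, N1, THEOREM COMP #17539, part (II); helper168)

* `Dec.exists_pure` : a semilinear bijection of `V` which normalises `L` is a pure tensor.
* `Dec.exists_homs` : an elementary abelian 2-group of linear maps normalising `L` acts through two homomorphisms.
* `Dec3`, `exists_dec3` : three commuting sets.
* `exists_four` : `U` elementary abelian, `U₁ ≤ U` normalises `N₁`, `N₂`, `s ∈ U` interchanges them: the input of (4).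
-/

set_option autoImplicit false
set_option linter.unusedSectionVars false

namespace Cfsg.Agent.Omega.NO1.Comp

open Module TensorProduct

universe u

section two

variable {K V : Type u} [Field K] [AddCommGroup V] [Module K V] {L C : Set (Module.End K V)}
  {W W' : Type u} [AddCommGroup W] [Module K W] [AddCommGroup W'] [Module K W']

theorem Dec.hl' (D : Dec L C W W') {l : Module.End K V} (hl : l ∈ L) (x : W ⊗[K] W') :
    l (D.φ x) = D.φ ((D.ρ l).rTensor W' x) := by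
  induction x with
  | zero => simp
  | tmul a b => rw [D.hl l hl]; rfl
  | add x y hx hy => simp only [map_add, hx, hy]

theorem Dec.hc' (D : Dec L C W W') {l : Module.End K V} (hl : l ∈ C) (x : W ⊗[K] W') :
    l (D.φ x) = D.φ ((D.ρ' l).lTensor W x) := by
  induction x with
  | zero => simp
  | tmul a b => rw [D.hc l hl]; rfl
  | add x y hx hy => simp only [map_add, hx, hy]

/-- **a semilinear bijection normalising `L` is a pure tensor** -/
theorem Dec.exists_pure (D : Dec L C W W') (h : Two L C) (σ : K ≃+* K) (g : V ≃+ V)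
    (hg : ∀ (k : K) (v), g (k • v) = σ k • g v)
    (hn : ∀ l ∈ L, ∃ l' ∈ L, ∀ v, g (l v) = l' (g v))
    (hn' : ∀ l' ∈ L, ∃ l ∈ L, ∀ v, g (l v) = l' (g v)) :
    ∃ (α : W ≃+ W) (β : W' ≃+ W'), (∀ (k : K) (a), α (k • a) = σ k • α a) ∧
      (∀ (k : K) (b), β (k • b) = σ k • β b) ∧
      (∀ w w', g (D.φ (w ⊗ₜ w')) = D.φ (α w ⊗ₜ β w')) ∧
      ∀ l ∈ L, ∀ l' ∈ L, (∀ v, g (l v) = l' (g v)) → ∀ w, α (D.ρ l w) = D.ρ l' (α w) := by
  have := D.finL
  have := D.finR
  have := D.neL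
  have := D.neR
  have : Module.Finite K W' := Module.Finite.of_finite
  let I := {p : Module.End K V × Module.End K V // p.1 ∈ L ∧ p.2 ∈ L ∧ ∀ v, g (p.1 v) = p.2 (g v)}
  let s : W ⊗[K] W' ≃+ W ⊗[K] W' := (D.φ.toAddEquiv.trans g).trans D.φ.symm.toAddEquiv
  have hs : ∀ x, D.φ (s x) = g (D.φ x) := fun x => D.φ.apply_symm_apply _
  obtain ⟨α, β, h1, h2, h3, h4⟩ := Pure.pure (I := I) σ s
    (fun k x => by
      apply D.φ.injective
      rw [hs, LinearEquiv.map_smul, hg, LinearEquiv.map_smul, hs])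
    (fun i => D.ρ i.1.1) (fun i => D.ρ i.1.2)
    (fun i x => by
      apply D.φ.injective
      rw [hs, ← D.hl' i.2.1, i.2.2.2, ← D.hl' i.2.2.1, hs])
    (fun N hN => D.irr h N fun l hl w hw => by
      obtain ⟨l', hl', h5⟩ := hn l hl
      exact hN ⟨(l, l'), hl, hl', h5⟩ w hw)
    (fun N hN => D.irr h N fun l' hl' w hw => by
      obtain ⟨l, hl, h5⟩ := hn' l' hl'
      exact hN ⟨(l, l'), hl, hl', h5⟩ w hw)
    (fun f hf => D.sch h f fun l' hl' => by
      obtain ⟨l, hl, h5⟩ := hn' l' hl'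
      exact LinearMap.ext fun w => hf ⟨(l, l'), hl, hl', h5⟩ w)
  refine ⟨α, β, h1, h2, fun w w' => ?_, fun l hl l' hl' h5 w => h4 ⟨(l, l'), hl, hl', h5⟩ w⟩
  rw [← hs, h3]

/-- an additive bijection which is `K`-linear, as a linear map -/
def lin (α : W ≃+ W') (h : ∀ (k : K) (a), α (k • a) = k • α a) : W ≃ₗ[K] W' :=
  { α with map_smul' := h }

/-- a linear involution as an additive bijection -/
def inv2 (f : Module.End K V) (h : ∀ v, f (f v) = v) : V ≃+ V where
  toFun := f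
  invFun := f
  left_inv := h
  right_inv := h
  map_add' := map_add f

/-- **an elementary abelian 2-group normalising `L` acts through two homomorphisms** -/
theorem Dec.exists_homs [Finite K] [CharP K 2] (D : Dec L C W W') (h : Two L C) {U : Type*} [Group U]
    (r : U →* Module.End K V) (h2 : ∀ u : U, u * u = 1)
    (hn : ∀ u : U, ∀ l ∈ L, ∃ l' ∈ L, ∀ v, r u (l v) = l' (r u v)) :
    ∃ (rA : U →* Module.End K W) (rB : U →* Module.End K W'),
      ∀ u x, r u (D.φ x) = D.φ (TensorProduct.map (rA u) (rB u) x) := by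
  have := D.neL
  have := D.neR
  have hrr : ∀ u v, r u (r u v) = v := fun u v => by
    rw [← Module.End.mul_apply, ← map_mul, h2, map_one, Module.End.one_apply]
  obtain ⟨rA, rB, h3⟩ := Swap.exists_hom_V D.φ r h2 (fun u => by
    obtain ⟨α, β, h4, h5, h6, -⟩ := D.exists_pure h (RingEquiv.refl K) (inv2 (r u) (hrr u))
      (fun k v => map_smul (r u) k v) (hn u) (fun l' hl' => by
        obtain ⟨l, hl, h7⟩ := hn u l' hl'
        refine ⟨l, hl, fun v => ?_⟩
        change r u (l v) = l' (r u v)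
        have h8 := h7 (r u v)
        rw [hrr] at h8
        rw [← h8, hrr])
    exact ⟨(lin α h4).toLinearMap, (lin β h5).toLinearMap, h6⟩)
  refine ⟨rA, rB, fun u x => ?_⟩
  induction x with
  | zero => simp
  | tmul a b => rw [h3]; rfl
  | add x y hx hy => simp only [map_add, hx, hy]

end two

section three

variable {K V : Type u} [Field K] [AddCommGroup V] [Module K V] {N₁ N₂ N₃ : Set (Module.End K V)}

/-- `V = A ⊗ (B ⊗ X)`, `N₁` acts on `A`, `N₂` on `B`, `N₃` on `X`; `A` and `B` absolutely irreducible. -/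
structure Dec3 (N₁ N₂ N₃ : Set (Module.End K V)) (A B X : Type u) [AddCommGroup A] [Module K A]
    [AddCommGroup B] [Module K B] [AddCommGroup X] [Module K X] where
  /-- the isomorphism -/
  φ : A ⊗[K] (B ⊗[K] X) ≃ₗ[K] V
  /-- the action of `N₁` on `A` -/
  ρ₁ : Module.End K V → Module.End K A
  /-- the action of `N₂` on `B` -/
  ρ₂ : Module.End K V → Module.End K B
  /-- the action of `N₃` on `X` -/
  ρ₃ : Module.End K V → Module.End K X
  h₁ : ∀ l ∈ N₁, ∀ x, l (φ x) = φ ((ρ₁ l).rTensor (B ⊗[K] X) x)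
  h₂ : ∀ l ∈ N₂, ∀ x, l (φ x) = φ (((ρ₂ l).rTensor X).lTensor A x)
  h₃ : ∀ l ∈ N₃, ∀ x, l (φ x) = φ (((ρ₃ l).lTensor B).lTensor A x)
  irr₁ : ∀ U : Submodule K A, (∀ l ∈ N₁, ∀ w ∈ U, ρ₁ l w ∈ U) → U = ⊥ ∨ U = ⊤
  irr₂ : ∀ U : Submodule K B, (∀ l ∈ N₂, ∀ w ∈ U, ρ₂ l w ∈ U) → U = ⊥ ∨ U = ⊤
  sch₁ : ∀ f : Module.End K A, (∀ l ∈ N₁, f * ρ₁ l = ρ₁ l * f) → ∃ k : K, ∀ w, f w = k • w
  sch₂ : ∀ f : Module.End K B, (∀ l ∈ N₂, f * ρ₂ l = ρ₂ l * f) → ∃ k : K, ∀ w, f w = k • w
  finA : Finite A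
  finB : Finite B
  finX : Finite X
  neA : Nontrivial A
  neB : Nontrivial B
  neX : Nontrivial X

theorem exists_dec3 [Finite V] [Nontrivial V] (h : Two N₁ (N₂ ∪ N₃)) (hc : ∀ l ∈ N₂, ∀ c ∈ N₃, l * c = c * l) :
    ∃ (A B X : Type u) (_ : AddCommGroup A) (_ : Module K A) (_ : AddCommGroup B) (_ : Module K B)
      (_ : AddCommGroup X) (_ : Module K X), Nonempty (Dec3 N₁ N₂ N₃ A B X) := by
  obtain ⟨A, M, _, _, _, _, ⟨D⟩⟩ := exists_dec h
  have := D.finL
  have := D.finR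
  have := D.neL
  have := D.neR
  obtain ⟨a₀, ha₀⟩ := exists_ne (0 : A)
  have hT : Two (D.ρ' '' N₂) (D.ρ' '' N₃) := by
    refine ⟨?_, ?_, ?_⟩
    · rintro _ ⟨l, hl, rfl⟩ _ ⟨c, hc', rfl⟩
      apply LinearMap.ext
      intro m
      apply D.inj_right ha₀
      rw [Module.End.mul_apply, Module.End.mul_apply, ← D.hc l (Or.inl hl), ← D.hc c (Or.inr hc'),
        ← D.hc c (Or.inr hc'), ← D.hc l (Or.inl hl), ← Module.End.mul_apply, hc l hl c hc', Module.End.mul_apply]
    · intro U h1 h2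
      refine D.symm.irr h.symm U fun l hl w hw => ?_
      rcases hl with hl | hl
      · exact h1 _ ⟨l, hl, rfl⟩ w hw
      · exact h2 _ ⟨l, hl, rfl⟩ w hw
    · intro f h1 h2
      refine D.symm.sch h.symm f fun l hl => ?_
      rcases hl with hl | hl
      · exact h1 _ ⟨l, hl, rfl⟩
      · exact h2 _ ⟨l, hl, rfl⟩
  obtain ⟨B, X, _, _, _, _, ⟨D₂⟩⟩ := exists_dec hT
  have := D₂.finL
  have := D₂.finR
  have := D₂.neL
  have := D₂.neR
  let φ : A ⊗[K] (B ⊗[K] X) ≃ₗ[K] V := (TensorProduct.congr (LinearEquiv.refl K A) D₂.φ).trans D.φ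
  have hφ : ∀ a y, φ (a ⊗ₜ y) = D.φ (a ⊗ₜ D₂.φ y) := fun a y => rfl
  refine ⟨A, B, X, inferInstance, inferInstance, inferInstance, inferInstance, inferInstance, inferInstance, ⟨?_⟩⟩
  exact
    { φ := φ
      ρ₁ := D.ρ
      ρ₂ := fun l => D₂.ρ (D.ρ' l)
      ρ₃ := fun l => D₂.ρ' (D.ρ' l)
      h₁ := fun l hl x => by
        induction x with
        | zero => simp
        | tmul a y => rw [hφ, D.hl l hl, LinearMap.rTensor_tmul, hφ]
        | add x y hx hy => simp only [map_add, hx, hy]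
      h₂ := fun l hl x => by
        induction x with
        | zero => simp
        | tmul a y =>
          rw [hφ, D.hc l (Or.inl hl), LinearMap.lTensor_tmul, hφ, D₂.hl' ⟨l, hl, rfl⟩]
        | add x y hx hy => simp only [map_add, hx, hy]
      h₃ := fun l hl x => by
        induction x with
        | zero => simp
        | tmul a y =>
          rw [hφ, D.hc l (Or.inr hl), LinearMap.lTensor_tmul, hφ, D₂.hc' ⟨l, hl, rfl⟩]
        | add x y hx hy => simp only [map_add, hx, hy]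
      irr₁ := fun U hU => D.irr h U hU
      irr₂ := fun U hU => D₂.irr hT U fun l hl w hw => by
        obtain ⟨l, hl, rfl⟩ := hl
        exact hU l hl w hw
      sch₁ := fun f hf => D.sch h f hf
      sch₂ := fun f hf => D₂.sch hT f fun l hl => by
        obtain ⟨l, hl, rfl⟩ := hl
        exact hf l hl
      finA := D.finL
      finB := D₂.finL
      finX := D₂.finR
      neA := D.neL
      neB := D₂.neL
      neX := D₂.neR }

variable {A B X : Type u} [AddCommGroup A] [Module K A] [AddCommGroup B] [Module K B] [AddCommGroup X] [Module K X]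

/-- `g` normalises `N₁` and `N₂` -/
theorem Dec3.exists_pure (D : Dec3 N₁ N₂ N₃ A B X) (σ : K ≃+* K) (g : V ≃+ V)
    (hg : ∀ (k : K) (v), g (k • v) = σ k • g v)
    (hn : ∀ l ∈ N₁, ∃ l' ∈ N₁, ∀ v, g (l v) = l' (g v))
    (hn' : ∀ l' ∈ N₁, ∃ l ∈ N₁, ∀ v, g (l v) = l' (g v))
    (hm : ∀ l ∈ N₂, ∃ l' ∈ N₂, ∀ v, g (l v) = l' (g v))
    (hm' : ∀ l' ∈ N₂, ∃ l ∈ N₂, ∀ v, g (l v) = l' (g v)) :
    ∃ (α : A ≃+ A) (β : B ≃+ B) (γ : X ≃+ X), (∀ (k : K) (a), α (k • a) = σ k • α a) ∧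
      (∀ (k : K) (b), β (k • b) = σ k • β b) ∧ (∀ (k : K) (b), γ (k • b) = σ k • γ b) ∧
      ∀ a b x, g (D.φ (a ⊗ₜ (b ⊗ₜ x))) = D.φ (α a ⊗ₜ (β b ⊗ₜ γ x)) := by
  have := D.finA
  have := D.finB
  have := D.finX
  have := D.neA
  have := D.neB
  have := D.neX
  have : Module.Finite K B := Module.Finite.of_finite
  have : Module.Finite K X := Module.Finite.of_finite
  let I := {p : Module.End K V × Module.End K V // p.1 ∈ N₁ ∧ p.2 ∈ N₁ ∧ ∀ v, g (p.1 v) = p.2 (g v)}
  let J := {p : Module.End K V × Module.End K V // p.1 ∈ N₂ ∧ p.2 ∈ N₂ ∧ ∀ v, g (p.1 v) = p.2 (g v)}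
  let s : A ⊗[K] (B ⊗[K] X) ≃+ A ⊗[K] (B ⊗[K] X) := (D.φ.toAddEquiv.trans g).trans D.φ.symm.toAddEquiv
  have hs : ∀ x, D.φ (s x) = g (D.φ x) := fun x => D.φ.apply_symm_apply _
  obtain ⟨α, β, γ, h1, h2, h3, h4⟩ := Swap.pure3 (I := I) (J := J) σ s
    (fun k x => by
      apply D.φ.injective
      rw [hs, LinearEquiv.map_smul, hg, LinearEquiv.map_smul, hs])
    (fun i => D.ρ₁ i.1.1) (fun i => D.ρ₁ i.1.2) (fun i => D.ρ₂ i.1.1) (fun i => D.ρ₂ i.1.2)
    (fun i x => by
      apply D.φ.injective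
      rw [hs, ← D.h₁ _ i.2.1, i.2.2.2, ← D.h₁ _ i.2.2.1, hs])
    (fun i x => by
      apply D.φ.injective
      rw [hs, ← D.h₂ _ i.2.1, i.2.2.2, ← D.h₂ _ i.2.2.1, hs])
    (fun N hN => D.irr₁ N fun l hl w hw => by
      obtain ⟨l', hl', h5⟩ := hn l hl
      exact hN ⟨(l, l'), hl, hl', h5⟩ w hw)
    (fun N hN => D.irr₁ N fun l' hl' w hw => by
      obtain ⟨l, hl, h5⟩ := hn' l' hl'
      exact hN ⟨(l, l'), hl, hl', h5⟩ w hw)
    (fun f hf => D.sch₁ f fun l' hl' => by
      obtain ⟨l, hl, h5⟩ := hn' l' hl'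
      exact LinearMap.ext fun w => hf ⟨(l, l'), hl, hl', h5⟩ w)
    (fun N hN => D.irr₂ N fun l hl w hw => by
      obtain ⟨l', hl', h5⟩ := hm l hl
      exact hN ⟨(l, l'), hl, hl', h5⟩ w hw)
    (fun N hN => D.irr₂ N fun l' hl' w hw => by
      obtain ⟨l, hl, h5⟩ := hm' l' hl'
      exact hN ⟨(l, l'), hl, hl', h5⟩ w hw)
    (fun f hf => D.sch₂ f fun l' hl' => by
      obtain ⟨l, hl, h5⟩ := hm' l' hl'
      exact LinearMap.ext fun w => hf ⟨(l, l'), hl, hl', h5⟩ w)
  exact ⟨α, β, γ, h1, h2, h3, fun a b x => by rw [← hs, h4]⟩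

/-- `g` interchanges `N₁` and `N₂` -/
theorem Dec3.exists_swap (D : Dec3 N₁ N₂ N₃ A B X) (σ : K ≃+* K) (g : V ≃+ V)
    (hg : ∀ (k : K) (v), g (k • v) = σ k • g v)
    (hn : ∀ l ∈ N₁, ∃ l' ∈ N₂, ∀ v, g (l v) = l' (g v))
    (hn' : ∀ l' ∈ N₂, ∃ l ∈ N₁, ∀ v, g (l v) = l' (g v))
    (hm : ∀ l ∈ N₂, ∃ l' ∈ N₁, ∀ v, g (l v) = l' (g v))
    (hm' : ∀ l' ∈ N₁, ∃ l ∈ N₂, ∀ v, g (l v) = l' (g v)) :
    ∃ (α : A ≃+ B) (β : B ≃+ A) (γ : X ≃+ X), (∀ (k : K) (a), α (k • a) = σ k • α a) ∧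
      (∀ (k : K) (b), β (k • b) = σ k • β b) ∧ (∀ (k : K) (b), γ (k • b) = σ k • γ b) ∧
      ∀ a b x, g (D.φ (a ⊗ₜ (b ⊗ₜ x))) = D.φ (β b ⊗ₜ (α a ⊗ₜ γ x)) := by
  have := D.finA
  have := D.finB
  have := D.finX
  have := D.neA
  have := D.neB
  have := D.neX
  have : Module.Finite K A := Module.Finite.of_finite
  have : Module.Finite K B := Module.Finite.of_finite
  have : Module.Finite K X := Module.Finite.of_finite
  let I := {p : Module.End K V × Module.End K V // p.1 ∈ N₁ ∧ p.2 ∈ N₂ ∧ ∀ v, g (p.1 v) = p.2 (g v)}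
  let J := {p : Module.End K V × Module.End K V // p.1 ∈ N₂ ∧ p.2 ∈ N₁ ∧ ∀ v, g (p.1 v) = p.2 (g v)}
  let s : A ⊗[K] (B ⊗[K] X) ≃+ A ⊗[K] (B ⊗[K] X) := (D.φ.toAddEquiv.trans g).trans D.φ.symm.toAddEquiv
  have hs : ∀ x, D.φ (s x) = g (D.φ x) := fun x => D.φ.apply_symm_apply _
  obtain ⟨α, β, γ, h1, h2, h3, h4⟩ := Swap.swap3 (I := I) (J := J) σ s
    (fun k x => by
      apply D.φ.injective
      rw [hs, LinearEquiv.map_smul, hg, LinearEquiv.map_smul, hs])
    (fun i => D.ρ₁ i.1.1) (fun i => D.ρ₂ i.1.2) (fun i => D.ρ₂ i.1.1) (fun i => D.ρ₁ i.1.2)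
    (fun i x => by
      apply D.φ.injective
      rw [hs, ← D.h₁ _ i.2.1, i.2.2.2, ← D.h₂ _ i.2.2.1, hs])
    (fun i x => by
      apply D.φ.injective
      rw [hs, ← D.h₂ _ i.2.1, i.2.2.2, ← D.h₁ _ i.2.2.1, hs])
    (fun N hN => D.irr₁ N fun l hl w hw => by
      obtain ⟨l', hl', h5⟩ := hn l hl
      exact hN ⟨(l, l'), hl, hl', h5⟩ w hw)
    (fun N hN => D.irr₂ N fun l' hl' w hw => by
      obtain ⟨l, hl, h5⟩ := hn' l' hl'
      exact hN ⟨(l, l'), hl, hl', h5⟩ w hw)
    (fun f hf => D.sch₂ f fun l' hl' => by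
      obtain ⟨l, hl, h5⟩ := hn' l' hl'
      exact LinearMap.ext fun w => hf ⟨(l, l'), hl, hl', h5⟩ w)
    (fun N hN => D.irr₂ N fun l hl w hw => by
      obtain ⟨l', hl', h5⟩ := hm l hl
      exact hN ⟨(l, l'), hl, hl', h5⟩ w hw)
    (fun N hN => D.irr₁ N fun l' hl' w hw => by
      obtain ⟨l, hl, h5⟩ := hm' l' hl'
      exact hN ⟨(l, l'), hl, hl', h5⟩ w hw)
    (fun f hf => D.sch₁ f fun l' hl' => by
      obtain ⟨l, hl, h5⟩ := hm' l' hl'
      exact LinearMap.ext fun w => hf ⟨(l, l'), hl, hl', h5⟩ w)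
  exact ⟨α, β, γ, h1, h2, h3, fun a b x => by rw [← hs, h4]⟩

/-- for an involution `r u`, normalising in one direction gives the other one -/
theorem flip_of {U : Type*} [Group U] {r : U →* Module.End K V} (hrr : ∀ u v, r u (r u v) = v) {u : U}
    {M N : Set (Module.End K V)} (h : ∀ l ∈ M, ∃ l' ∈ N, ∀ v, r u (l v) = l' (r u v)) :
    ∀ l' ∈ M, ∃ l ∈ N, ∀ v, r u (l v) = l' (r u v) := by
  intro l' hl'
  obtain ⟨l, hl, h7⟩ := h l' hl'
  refine ⟨l, hl, fun v => ?_⟩
  have h8 := h7 (r u v)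
  rw [hrr] at h8
  rw [← h8, hrr]

/-- **the input of (4)** : `V = (Vp ⊗ Vp) ⊗ X`, `u = u₊ ⊗ u₊ ⊗ uX` for `u ∈ U₁`, `s = swap ⊗ sX`. -/
theorem exists_four [Finite K] [CharP K 2] [Finite V] [Nontrivial V] (h : Two N₁ (N₂ ∪ N₃))
    (hc : ∀ l ∈ N₂, ∀ c ∈ N₃, l * c = c * l) {U : Type*} [Group U] (r : U →* Module.End K V)
    (h2 : ∀ u : U, u * u = 1) (U₁ : Subgroup U) (s : U)
    (hn₁ : ∀ u ∈ U₁, ∀ l ∈ N₁, ∃ l' ∈ N₁, ∀ v, r u (l v) = l' (r u v))
    (hn₂ : ∀ u ∈ U₁, ∀ l ∈ N₂, ∃ l' ∈ N₂, ∀ v, r u (l v) = l' (r u v))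
    (hs₁ : ∀ l ∈ N₁, ∃ l' ∈ N₂, ∀ v, r s (l v) = l' (r s v))
    (hs₂ : ∀ l ∈ N₂, ∃ l' ∈ N₁, ∀ v, r s (l v) = l' (r s v)) :
    ∃ (Vp X : Type u) (_ : AddCommGroup Vp) (_ : Module K Vp) (_ : AddCommGroup X) (_ : Module K X)
      (_ : Finite Vp) (_ : Finite X) (_ : Nontrivial Vp) (_ : Nontrivial X)
      (ρ : Module.End K V → Module.End K Vp)
      (ψ : (Vp ⊗[K] Vp) ⊗[K] X ≃ₗ[K] V) (p : U₁ →* Module.End K Vp) (x : U₁ →* Module.End K X)
      (sX : Module.End K X),
      (∀ (u : U₁) y, r u (ψ y) = ψ (TensorProduct.map (TensorProduct.map (p u) (p u)) (x u) y)) ∧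
      (∀ y, r s (ψ y) = ψ (TensorProduct.map (TensorProduct.comm K Vp Vp).toLinearMap sX y)) ∧
      sX * sX = 1 ∧ (∀ u, sX * x u = x u * sX) ∧
      (∀ l ∈ N₁, ∀ y, l (ψ y) = ψ (((ρ l).rTensor Vp).rTensor X y)) ∧
      (∀ U : Submodule K Vp, (∀ l ∈ N₁, ∀ w ∈ U, ρ l w ∈ U) → U = ⊥ ∨ U = ⊤) ∧
      ∀ f : Module.End K Vp, (∀ l ∈ N₁, f * ρ l = ρ l * f) → ∃ k : K, ∀ w, f w = k • w := by
  obtain ⟨A, B, X, _, _, _, _, _, _, ⟨D⟩⟩ := exists_dec3 h hc
  have := D.finA
  have := D.finB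
  have := D.finX
  have := D.neA
  have := D.neB
  have := D.neX
  have hrr : ∀ u v, r u (r u v) = v := fun u v => by
    rw [← Module.End.mul_apply, ← map_mul, h2, map_one, Module.End.one_apply]
  obtain ⟨α, β, γ, h3, h4, h5, h6⟩ := D.exists_swap (RingEquiv.refl K) (inv2 (r s) (hrr s))
    (fun k v => map_smul (r s) k v) hs₁ (flip_of hrr hs₂) hs₂ (flip_of hrr hs₁)
  obtain ⟨ψ, p, x, sX, h7, h8, h9, h10, h11⟩ := Swap.norm_form' D.φ r h2 U₁ s
    (fun u hu => by
      obtain ⟨α', β', γ', h3', h4', h5', h6'⟩ := D.exists_pure (RingEquiv.refl K) (inv2 (r u) (hrr u))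
        (fun k v => map_smul (r u) k v) (hn₁ u hu) (flip_of hrr (hn₁ u hu)) (hn₂ u hu) (flip_of hrr (hn₂ u hu))
      exact ⟨(lin α' h3').toLinearMap, (lin β' h4').toLinearMap, (lin γ' h5').toLinearMap, h6'⟩)
    (lin α h3) (lin β h4).toLinearMap (lin γ h5).toLinearMap h6
  let Ψ : (A ⊗[K] A) ⊗[K] X ≃ₗ[K] V := (TensorProduct.assoc K A A X).trans ψ
  have hΨ : ∀ a a' y, Ψ ((a ⊗ₜ a') ⊗ₜ y) = ψ (a ⊗ₜ (a' ⊗ₜ y)) := fun a a' y => rfl
  have ind : ∀ (f : V →ₗ[K] V) (g : (A ⊗[K] A) ⊗[K] X →ₗ[K] (A ⊗[K] A) ⊗[K] X),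
      (∀ a a' x, f (Ψ ((a ⊗ₜ a') ⊗ₜ x)) = Ψ (g ((a ⊗ₜ a') ⊗ₜ x))) → ∀ y, f (Ψ y) = Ψ (g y) := by
    intro f g hfg y
    have h1 : f ∘ₗ Ψ.toLinearMap = Ψ.toLinearMap ∘ₗ g := by
      apply TensorProduct.ext'
      intro z x
      induction z with
      | zero => simp
      | tmul a a' => exact hfg a a' x
      | add z w hz hw => rw [TensorProduct.add_tmul, map_add, map_add, hz, hw]
    exact LinearMap.congr_fun h1 y
  refine ⟨A, X, inferInstance, inferInstance, inferInstance, inferInstance, inferInstance, inferInstance,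
    inferInstance, inferInstance, D.ρ₁, Ψ, p, x, sX, fun u => ?_, ?_, h9, h10, fun l hl => ?_, D.irr₁, D.sch₁⟩
  · refine ind _ _ fun a a' y => ?_
    rw [hΨ, h7, TensorProduct.map_tmul, TensorProduct.map_tmul, hΨ]
  · refine ind _ _ fun a a' y => ?_
    rw [hΨ, h8, TensorProduct.map_tmul]
    change _ = Ψ ((TensorProduct.comm K A A) (a ⊗ₜ a') ⊗ₜ sX y)
    rw [TensorProduct.comm_tmul, hΨ]
  · refine ind _ _ fun a a' y => ?_
    rw [hΨ, h11, D.h₁ l hl, LinearMap.rTensor_tmul, LinearMap.rTensor_tmul, LinearMap.rTensor_tmul, hΨ, h11]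

end three

end Cfsg.Agent.Omega.NO1.Comp

end

section


/-!
# THEOREM COMP (bb OMEGA #17539): rank lemmas for `A ⊗ A' - 1`, `A, A'` involutions in char 2
-/

set_option linter.unusedSectionVars false

namespace Cfsg.Agent.Omega.NO1.Comp

open Module TensorProduct

section Tools

variable {K : Type*} [Field K]

theorem add_self2 [CharP K 2] {V : Type*} [AddCommGroup V] [Module K V] (v : V) : v + v = 0 := by
  have h : (2 : K) = 0 := by exact_mod_cast CharP.cast_eq_zero K 2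
  rw [← two_smul K v, h, zero_smul]

theorem sub_eq_add2 (K : Type*) [Field K] [CharP K 2] {V : Type*} [AddCommGroup V] [Module K V]
    (v w : V) : v - w = v + w := by
  rw [sub_eq_iff_eq_add, add_assoc, add_self2 (K := K) w, add_zero]

theorem neg_eq2 (K : Type*) [Field K] [CharP K 2] {V : Type*} [AddCommGroup V] [Module K V]
    (v : V) : -v = v := by
  rw [neg_eq_iff_add_eq_zero]; exact add_self2 (K := K) v

theorem exists_dual_one {V : Type*} [AddCommGroup V] [Module K V] {p : Submodule K V} {x : V}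
    (hx : x ∉ p) : ∃ f : Dual K V, f x = 1 ∧ ∀ y ∈ p, f y = 0 := by
  obtain ⟨f, hf, hp⟩ := Submodule.exists_dual_map_eq_bot_of_notMem hx inferInstance
  refine ⟨(f x)⁻¹ • f, by simp [hf], fun y hy => ?_⟩
  have : f y ∈ p.map f := ⟨y, hy, rfl⟩
  rw [hp, Submodule.mem_bot] at this
  simp [this]

variable {W W' : Type*} [AddCommGroup W] [Module K W] [AddCommGroup W'] [Module K W']

/-- contraction with a functional on the right factor -/
noncomputable def cR (W : Type*) [AddCommGroup W] [Module K W] (g : Dual K W') :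
    W ⊗[K] W' →ₗ[K] W :=
  (TensorProduct.rid K W).toLinearMap ∘ₗ LinearMap.lTensor W g

/-- contraction with a functional on the left factor -/
noncomputable def cL (W' : Type*) [AddCommGroup W'] [Module K W'] (f : Dual K W) :
    W ⊗[K] W' →ₗ[K] W' :=
  (TensorProduct.lid K W').toLinearMap ∘ₗ LinearMap.rTensor W' f

@[simp] theorem cR_tmul (g : Dual K W') (x : W) (η : W') : cR W g (x ⊗ₜ η) = g η • x := by
  simp [cR]

@[simp] theorem cL_tmul (f : Dual K W) (x : W) (η : W') : cL W' f (x ⊗ₜ η) = f x • η := by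
  simp [cL]

theorem tmul_ne_zero {x : W} {η : W'} (hx : x ≠ 0) (hη : η ≠ 0) : x ⊗ₜ[K] η ≠ 0 := by
  intro h0
  obtain ⟨g, hg, -⟩ := exists_dual_one (K := K) (p := ⊥) (x := η) (by simpa using hη)
  have := congrArg (cR W g) h0
  rw [cR_tmul, hg, one_smul, map_zero] at this
  exact hx this

end Tools

variable {K : Type*} [Field K] [CharP K 2]
  {W W' : Type*} [AddCommGroup W] [Module K W] [AddCommGroup W'] [Module K W']
  {A : Module.End K W} {A' : Module.End K W'}

theorem inv_fix (K : Type*) [Field K] [CharP K 2] {W : Type*} [AddCommGroup W] [Module K W]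
    {A : Module.End K W} (hA : ∀ x, A (A x) = x) (x : W) : A (A x + x) = A x + x := by
  rw [map_add, hA, add_comm]

/-- `Φ (η, y) = T (x ⊗ η + y ⊗ ξ)` -/
noncomputable def Phi (A : Module.End K W) (A' : Module.End K W') (x : W) (ξ : W') :
    W' × W →ₗ[K] W ⊗[K] W' :=
  (TensorProduct.map A A' - 1) ∘ₗ
    ((TensorProduct.mk K W W' x).coprod ((TensorProduct.mk K W W').flip ξ))

theorem Phi_apply (x : W) (ξ : W') (η : W') (y : W) :
    Phi A A' x ξ (η, y) = A x ⊗ₜ A' η + A y ⊗ₜ A' ξ + (x ⊗ₜ η + y ⊗ₜ ξ) := by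
  simp [Phi, ← sub_eq_add2 K]

theorem Phi_ker (hA : ∀ x, A (A x) = x) (hA' : ∀ x, A' (A' x) = x) {x : W} {ξ : W'}
    (hx : A x ≠ x) (hξ : A' ξ ≠ ξ) {η : W'} {y : W} (h0 : Phi A A' x ξ (η, y) = 0) :
    (η, y) ∈ Submodule.span K (Set.range ![((ξ : W'), (x : W)), (A' ξ + ξ, A x + x)]) := by
  classical
  set x₁ := A x + x with hx₁
  set ξ₁ := A' ξ + ξ with hξ₁
  have hAx : A x = x + x₁ := by
    rw [hx₁, add_comm (A x), ← add_assoc, add_self2 (K := K) x, zero_add]
  have hAξ : A' ξ = ξ + ξ₁ := by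
    rw [hξ₁, add_comm (A' ξ), ← add_assoc, add_self2 (K := K) ξ, zero_add]
  have hAx₁ : A x₁ = x₁ := inv_fix K hA x
  have hAξ₁ : A' ξ₁ = ξ₁ := inv_fix K hA' ξ
  have hx₁0 : x₁ ≠ 0 := by
    intro h; rw [hAx, h, add_zero] at hx; exact hx rfl
  have hξ₁0 : ξ₁ ≠ 0 := by
    intro h; rw [hAξ, h, add_zero] at hξ; exact hξ rfl
  -- independence
  have hind : x ∉ Submodule.span K {x₁} := by
    rw [Submodule.mem_span_singleton]
    rintro ⟨c, hc⟩
    apply hx
    rw [← hc, map_smul, hAx₁]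
  have hind1 : x₁ ∉ Submodule.span K {x} := by
    rw [Submodule.mem_span_singleton]
    rintro ⟨c, hc⟩
    have hc0 : c ≠ 0 := by
      rintro rfl; rw [zero_smul] at hc; exact hx₁0 hc.symm
    apply hind
    rw [Submodule.mem_span_singleton]
    exact ⟨c⁻¹, by rw [← hc, smul_smul, inv_mul_cancel₀ hc0, one_smul]⟩
  have hind' : ξ ∉ Submodule.span K {ξ₁} := by
    rw [Submodule.mem_span_singleton]
    rintro ⟨c, hc⟩
    apply hξ
    rw [← hc, map_smul, hAξ₁]
  have hind1' : ξ₁ ∉ Submodule.span K {ξ} := by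
    rw [Submodule.mem_span_singleton]
    rintro ⟨c, hc⟩
    have hc0 : c ≠ 0 := by
      rintro rfl; rw [zero_smul] at hc; exact hξ₁0 hc.symm
    apply hind'
    rw [Submodule.mem_span_singleton]
    exact ⟨c⁻¹, by rw [← hc, smul_smul, inv_mul_cancel₀ hc0, one_smul]⟩
  clear_value x₁ ξ₁
  -- functional ψ with ψ ξ = ψ ξ₁ = 1
  obtain ⟨ψ₁, h1, h1'⟩ := exists_dual_one (K := K) hind'
  obtain ⟨ψ₂, h2, h2'⟩ := exists_dual_one (K := K) hind1'
  set ψ := ψ₁ + ψ₂ with hψ
  have hψξ : ψ ξ = 1 := by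
    rw [hψ, LinearMap.add_apply, h1, h2' ξ (Submodule.mem_span_singleton_self ξ), add_zero]
  have hψξ₁ : ψ ξ₁ = 1 := by
    rw [hψ, LinearMap.add_apply, h2, h1' ξ₁ (Submodule.mem_span_singleton_self ξ₁), zero_add]
  obtain ⟨φ, h3, h3'⟩ := exists_dual_one (K := K) hind1
  have hφx : φ x = 0 := h3' x (Submodule.mem_span_singleton_self x)
  set α := ψ (A' η) + ψ η with hα
  set β := ψ (A' η) with hβ
  have hy : y = α • x + β • x₁ := by
    have := congrArg (cR W ψ) h0
    rw [Phi_apply, hAx, hAξ] at this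
    simp only [map_add, cR_tmul, hψξ, hψξ₁, map_zero] at this
    have h11 : (1 : K) + 1 = 0 := CharTwo.add_self_eq_zero 1
    rw [h11, zero_smul, add_zero, one_smul] at this
    -- β • (x + x₁) + (ψ η • x + y) = 0
    have h4 : y = β • (x + x₁) + ψ η • x := by
      have h5 : β • (x + x₁) + (ψ η • x + y) = 0 := this
      rw [← add_assoc] at h5
      rw [← neg_eq2 K y, eq_comm, ← add_eq_zero_iff_eq_neg]
      exact h5
    rw [h4, hα]
    module
  have hη : η = α • ξ + β • ξ₁ := by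
    set η' := η + (α • ξ + β • ξ₁) with hη'
    have h6 : Phi A A' x ξ (ξ, x) = 0 := by
      rw [Phi_apply, add_self2 (K := K), add_self2 (K := K), add_zero]
    have h7 : Phi A A' x ξ (ξ₁, x₁) = 0 := by
      rw [Phi_apply, hAξ₁, hAx₁, hAξ, hAx, add_tmul, tmul_add,
        ← add_self2 (K := K) (x ⊗ₜ[K] ξ₁ + x₁ ⊗ₜ[K] ξ + x₁ ⊗ₜ[K] ξ₁)]
      abel
    have h8 : Phi A A' x ξ (η', 0) = 0 := by
      have e : ((η', 0) : W' × W) = (η, y) + (α • (ξ, x) + β • (ξ₁, x₁)) := by
        ext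
        · simp [hη']
        · simp only [Prod.snd_add, Prod.smul_mk]
          rw [hy, add_self2 (K := K)]
      rw [e, map_add, map_add, map_smul, map_smul, h0, h6, h7]; simp
    rw [Phi_apply] at h8
    have h9 := congrArg (cL W' φ) h8
    rw [hAx] at h9
    simp only [map_add, cL_tmul, hφx, h3, map_zero, zero_smul, zero_add, one_smul, add_zero] at h9
    -- A' η' = 0
    have h10 : η' = 0 := by rw [← hA' η', h9, map_zero]
    rw [hη', ← sub_eq_add2 K, sub_eq_zero] at h10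
    exact h10
  have : ((η, y) : W' × W) = α • (ξ, x) + β • (ξ₁, x₁) := by
    ext
    · simpa using hη
    · simpa using hy
  rw [this]
  refine Submodule.add_mem _ (Submodule.smul_mem _ _ (Submodule.subset_span ⟨0, rfl⟩))
    (Submodule.smul_mem _ _ (Submodule.subset_span ⟨1, rfl⟩))

variable [Module.Finite K W] [Module.Finite K W']

theorem Phi_rank (hA : ∀ x, A (A x) = x) (hA' : ∀ x, A' (A' x) = x) {x : W} {ξ : W'}
    (hx : A x ≠ x) (hξ : A' ξ ≠ ξ) :
    finrank K W + finrank K W' ≤ finrank K (LinearMap.range (Phi A A' x ξ)) + 2 := by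
  have h1 := LinearMap.finrank_range_add_finrank_ker (Phi A A' x ξ)
  rw [Module.finrank_prod] at h1
  have h2 : LinearMap.ker (Phi A A' x ξ) ≤
      Submodule.span K (Set.range ![((ξ : W'), (x : W)), (A' ξ + ξ, A x + x)]) := by
    rintro ⟨η, y⟩ h0
    exact Phi_ker hA hA' hx hξ h0
  have h3 := Submodule.finrank_mono h2
  have h4 := finrank_range_le_card (R := K) ![((ξ : W'), (x : W)), (A' ξ + ξ, A x + x)]
  rw [Fintype.card_fin] at h4
  have h5 : finrank K (Submodule.span K (Set.range ![((ξ : W'), (x : W)), (A' ξ + ξ, A x + x)]))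
      ≤ 2 := h4
  omega

theorem Phi_range_le (x : W) (ξ : W') :
    LinearMap.range (Phi A A' x ξ) ≤ LinearMap.range (TensorProduct.map A A' - 1) := by
  rw [Phi]
  exact LinearMap.range_comp_le_range _ _

/-- **(RL)** -/
theorem rank_ge (hA : ∀ x, A (A x) = x) (hA' : ∀ x, A' (A' x) = x) (h1 : A ≠ 1) (h1' : A' ≠ 1) :
    finrank K W + finrank K W' ≤
      finrank K (LinearMap.range (TensorProduct.map A A' - 1)) + 2 := by
  obtain ⟨x, hx⟩ : ∃ x, A x ≠ x := by
    by_contra hc; push Not at hc; exact h1 (LinearMap.ext hc)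
  obtain ⟨ξ, hξ⟩ : ∃ x, A' x ≠ x := by
    by_contra hc; push Not at hc; exact h1' (LinearMap.ext hc)
  have h2 := Phi_rank hA hA' hx hξ
  have h3 := Submodule.finrank_mono (Phi_range_le (A := A) (A' := A') x ξ)
  omega

/-- **(RL2)** -/
theorem rank_ge' (hA : ∀ x, A (A x) = x) (hA' : ∀ x, A' (A' x) = x)
    (h2 : 2 ≤ finrank K (LinearMap.range (A - 1))) (h1' : A' ≠ 1) (hd : 3 ≤ finrank K W') :
    finrank K W + finrank K W' ≤
      finrank K (LinearMap.range (TensorProduct.map A A' - 1)) + 1 := by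
  obtain ⟨ξ, hξ⟩ : ∃ x, A' x ≠ x := by
    by_contra hc; push Not at hc; exact h1' (LinearMap.ext hc)
  obtain ⟨x, hx⟩ : ∃ x, A x ≠ x := by
    by_contra hc; push Not at hc
    have : A - 1 = 0 := by
      ext v; exact sub_eq_zero.2 (hc v)
    rw [this, LinearMap.range_zero, finrank_bot] at h2
    omega
  set x₁ := A x + x with hx₁
  set ξ₁ := A' ξ + ξ with hξ₁
  have hAx : A x = x + x₁ := by
    rw [hx₁, add_comm (A x), ← add_assoc, add_self2 (K := K) x, zero_add]
  have hAξ : A' ξ = ξ + ξ₁ := by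
    rw [hξ₁, add_comm (A' ξ), ← add_assoc, add_self2 (K := K) ξ, zero_add]
  have hAx₁ : A x₁ = x₁ := inv_fix K hA x
  have hAξ₁ : A' ξ₁ = ξ₁ := inv_fix K hA' ξ
  have hx₁0 : x₁ ≠ 0 := by
    intro h; rw [hAx, h, add_zero] at hx; exact hx rfl
  -- x₂ with N x₂ ∉ K x₁
  obtain ⟨x₂, hx₂⟩ : ∃ x₂, A x₂ + x₂ ∉ Submodule.span K {x₁} := by
    by_contra hc; push Not at hc
    have : LinearMap.range (A - 1) ≤ Submodule.span K {x₁} := by
      rintro _ ⟨v, rfl⟩
      have := hc v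
      rw [← sub_eq_add2 K] at this
      exact this
    have h3 := Submodule.finrank_mono this
    have h4 : finrank K (Submodule.span K {x₁}) ≤ 1 := by
      have := finrank_span_le_card (R := K) ({x₁} : Set W)
      simpa using this
    omega
  obtain ⟨η₀, hη₀⟩ : ∃ η₀ : W', η₀ ∉ Submodule.span K (Set.range ![ξ, ξ₁]) := by
    by_contra hc; push Not at hc
    have h3 : Submodule.span K (Set.range ![ξ, ξ₁]) = ⊤ := by
      rw [eq_top_iff]; intro v _; exact hc v
    have h4 := finrank_range_le_card (R := K) ![ξ, ξ₁]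
    rw [Fintype.card_fin] at h4
    have h5 : finrank K (Submodule.span K (Set.range ![ξ, ξ₁])) ≤ 2 := h4
    rw [h3, finrank_top] at h5
    omega
  obtain ⟨ψ, hψ1, hψ0⟩ := exists_dual_one (K := K) hη₀
  have hψξ : ψ ξ = 0 := hψ0 _ (Submodule.subset_span ⟨0, rfl⟩)
  have hψξ₁ : ψ ξ₁ = 0 := hψ0 _ (Submodule.subset_span ⟨1, rfl⟩)
  -- the additional vector
  have hnot : (TensorProduct.map A A' - 1) (x₂ ⊗ₜ η₀) ∉ LinearMap.range (Phi A A' x ξ) := by
    rintro ⟨⟨η, y⟩, h0⟩
    rw [Phi_apply] at h0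
    have h3 : (TensorProduct.map A A' - 1) (x₂ ⊗ₜ η₀) = A x₂ ⊗ₜ[K] A' η₀ + x₂ ⊗ₜ η₀ := by
      rw [← sub_eq_add2 K]; simp
    rw [h3] at h0
    have h4 := congrArg (cR W ψ) h0
    rw [hAξ] at h4
    simp only [map_add, cR_tmul, hψξ, hψξ₁, hψ1, add_zero, zero_smul, one_smul] at h4
    set c := ψ (A' η₀) with hc
    -- ψ (A' η) • A x + ψ η • x = c • A x₂ + x₂
    -- apply N : N (A x) = x₁, N x = x₁
    have hN : ∀ v, A v + v = 0 → True := fun _ _ => trivial
    have h5 : (ψ (A' η) + ψ η) • x₁ = (c + 1) • (A x₂ + x₂) := by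
      have h6 := congrArg A h4
      simp only [map_add, map_smul, hA] at h6
      have h7 : A (ψ (A' η) • A x + ψ η • x) + (ψ (A' η) • A x + ψ η • x) =
          A (c • A x₂ + x₂) + (c • A x₂ + x₂) := by rw [h4]
      simp only [map_add, map_smul, hA] at h7
      calc (ψ (A' η) + ψ η) • x₁ = ψ (A' η) • x + ψ η • A x + (ψ (A' η) • A x + ψ η • x) := by
            rw [hx₁]; module
        _ = _ := by rw [h7]; module
    have hc1 : c + 1 = 0 := by
      by_contra hc1
      apply hx₂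
      rw [Submodule.mem_span_singleton]
      refine ⟨(c + 1)⁻¹ * (ψ (A' η) + ψ η), ?_⟩
      rw [← smul_smul, h5, smul_smul, inv_mul_cancel₀ hc1, one_smul]
    rw [hc1, zero_smul, smul_eq_zero] at h5
    have h6 : ψ (A' η) + ψ η = 0 := h5.resolve_right hx₁0
    have hc' : c = 1 := by
      rw [add_eq_zero_iff_eq_neg] at hc1; rw [hc1, CharTwo.neg_eq]
    have h7 : ψ η = ψ (A' η) := by
      rw [add_eq_zero_iff_eq_neg, CharTwo.neg_eq] at h6; exact h6.symm
    rw [hc', h7, one_smul, ← smul_add] at h4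
    apply hx₂
    rw [← h4]
    exact Submodule.smul_mem _ _ (Submodule.mem_span_singleton_self _)
  have hlt : LinearMap.range (Phi A A' x ξ) < LinearMap.range (TensorProduct.map A A' - 1) :=
    lt_of_le_of_ne (Phi_range_le x ξ) (fun he => hnot (he ▸ ⟨_, rfl⟩))
  have h3 := Submodule.finrank_lt_finrank_of_lt hlt
  have h4 := Phi_rank hA hA' hx hξ
  omega

/-- the symmetric versions -/
theorem rank_comm : finrank K (LinearMap.range (TensorProduct.map A A' - 1)) =
    finrank K (LinearMap.range (TensorProduct.map A' A - 1)) := by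
  let c := TensorProduct.comm K W W'
  have h1 : (LinearMap.range (TensorProduct.map A A' - 1)).map c.toLinearMap =
      LinearMap.range (TensorProduct.map A' A - 1) := by
    have key : ∀ v, c ((TensorProduct.map A A' - 1) v) = (TensorProduct.map A' A - 1) (c v) := by
      intro v
      induction v using TensorProduct.induction_on with
      | zero => simp
      | tmul x y => simp [c]
      | add x y hx hy => rw [map_add, map_add, hx, hy, map_add, map_add]
    ext y
    constructor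
    · rintro ⟨_, ⟨v, rfl⟩, rfl⟩
      exact ⟨c v, (key v).symm⟩
    · rintro ⟨v, rfl⟩
      refine ⟨_, ⟨c.symm v, rfl⟩, ?_⟩
      change c _ = _
      rw [key, LinearEquiv.apply_symm_apply]
  rw [← h1]
  exact (c.submoduleMap _).finrank_eq

theorem rank_ge'' (hA : ∀ x, A (A x) = x) (hA' : ∀ x, A' (A' x) = x)
    (h2 : 2 ≤ finrank K (LinearMap.range (A' - 1))) (h1 : A ≠ 1) (hd : 3 ≤ finrank K W) :
    finrank K W + finrank K W' ≤
      finrank K (LinearMap.range (TensorProduct.map A A' - 1)) + 1 := by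
  have := rank_ge' hA' hA h2 h1 hd
  rw [rank_comm] at this
  omega

/-- rank of `1 ⊗ A' - 1` -/
theorem rank_one_left (h1' : A' ≠ 1) :
    finrank K W ≤ finrank K (LinearMap.range (TensorProduct.map (1 : Module.End K W) A' - 1)) := by
  obtain ⟨ξ, hξ⟩ : ∃ x, A' x ≠ x := by
    by_contra hc; push Not at hc; exact h1' (LinearMap.ext hc)
  set Ψ : W →ₗ[K] W ⊗[K] W' := (TensorProduct.map (1 : Module.End K W) A' - 1) ∘ₗ
    (TensorProduct.mk K W W').flip ξ with hΨ
  have hap : ∀ x, Ψ x = x ⊗ₜ (A' ξ - ξ) := by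
    intro x; simp [hΨ, tmul_sub]
  have hinj : Function.Injective Ψ := by
    rw [← LinearMap.ker_eq_bot, LinearMap.ker_eq_bot']
    intro x hx
    by_contra hx0
    rw [hap] at hx
    exact tmul_ne_zero hx0 (sub_ne_zero.2 hξ) hx
  rw [← LinearMap.finrank_range_of_inj hinj]
  exact Submodule.finrank_mono (LinearMap.range_comp_le_range _ _)

/-- **'n = 2'**: a nontrivial `r₂ ⊗ r''` is never a transvection -/
theorem two_le_rank (hA : ∀ x, A (A x) = x) (hA' : ∀ x, A' (A' x) = x)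
    (hd : 2 ≤ finrank K W) (hd' : 2 ≤ finrank K W') (hne : TensorProduct.map A A' ≠ 1) :
    2 ≤ finrank K (LinearMap.range (TensorProduct.map A A' - 1)) := by
  by_cases h1 : A = 1
  · have h1' : A' ≠ 1 := by
      rintro rfl
      apply hne
      rw [h1]
      exact TensorProduct.map_one
    rw [h1]
    exact hd.trans (rank_one_left h1')
  by_cases h1' : A' = 1
  · rw [h1', rank_comm]
    exact hd'.trans (rank_one_left h1)
  have := rank_ge hA hA' h1 h1'
  omega

end Cfsg.Agent.Omega.NO1.Comp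

end

section


/-!
# THEOREM COMP (bb OMEGA #17539): fixed vectors, fixed functionals, `[W,U]`, pure tensors
-/

set_option linter.unusedSectionVars false
set_option linter.style.haveILetI false

namespace Cfsg.Agent.Omega.NO1.Comp

open Module TensorProduct

variable {K : Type*} [Field K] [CharP K 2]

section

variable {W : Type*} [AddCommGroup W] [Module K W] {U : Type*} [Group U]

theorem exists_fixed_mem [Finite W] (hU : IsPGroup 2 U) (σ : U →* Module.End K W)
    (I : Submodule K W) (hI : ∀ u, ∀ x ∈ I, σ u x ∈ I) (hne : I ≠ ⊥) :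
    ∃ x ∈ I, x ≠ 0 ∧ ∀ u, σ u x = x := by
  classical
  letI : MulAction U I :=
    { smul := fun u x => ⟨σ u x.1, hI u x.1 x.2⟩
      one_smul := fun x => Subtype.ext (by
        change σ 1 x.1 = x.1
        rw [map_one]; rfl)
      mul_smul := fun u v x => Subtype.ext (by
        change σ (u * v) x.1 = σ u (σ v x.1)
        rw [map_mul]; rfl) }
  have h2 : 2 ∣ Nat.card I := by
    obtain ⟨x, hx, hx0⟩ := Submodule.exists_mem_ne_zero_of_ne_bot hne
    have h3 : addOrderOf (⟨x, hx⟩ : I) = 2 := by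
      apply addOrderOf_eq_prime
      · rw [two_nsmul]
        exact Subtype.ext (add_self2 (K := K) x)
      · intro h; exact hx0 (congrArg Subtype.val h)
    rw [← h3]; exact addOrderOf_dvd_natCard _
  have h0 : (0 : I) ∈ MulAction.fixedPoints U I := by
    intro u
    exact Subtype.ext (map_zero (σ u))
  haveI : Fact (Nat.Prime 2) := ⟨Nat.prime_two⟩
  obtain ⟨b, hb, hb0⟩ := hU.exists_fixed_point_of_prime_dvd_card_of_fixed_point I h2 h0
  exact ⟨b.1, b.2, fun h => hb0 (Subtype.ext h.symm), fun u => congrArg Subtype.val (hb u)⟩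

theorem exists_fixed [Finite W] [Nontrivial W] (hU : IsPGroup 2 U) (σ : U →* Module.End K W) :
    ∃ x : W, x ≠ 0 ∧ ∀ u, σ u x = x := by
  obtain ⟨x, -, h⟩ := exists_fixed_mem hU σ ⊤ (fun _ _ _ => trivial)
    (by
      intro h
      obtain ⟨x, hx⟩ := exists_ne (0 : W)
      exact hx ((Submodule.mem_bot K).1 (h ▸ Submodule.mem_top)))
  exact ⟨x, h⟩

/-- `[W,U]` -/
def IW (ρ : U →* Module.End K W) : Submodule K W := ⨆ u, LinearMap.range (ρ u - 1)

/-- `C_W(U)` -/
def CW (ρ : U →* Module.End K W) : Submodule K W where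
  carrier := {x | ∀ u, ρ u x = x}
  add_mem' := fun ha hb u => by rw [map_add, ha u, hb u]
  zero_mem' := fun u => map_zero _
  smul_mem' := fun c x hx u => by rw [map_smul, hx u]

theorem mem_CW {ρ : U →* Module.End K W} {x : W} : x ∈ CW ρ ↔ ∀ u, ρ u x = x := Iff.rfl

theorem mem_IW (ρ : U →* Module.End K W) (u : U) (x : W) : ρ u x - x ∈ IW ρ :=
  Submodule.mem_iSup_of_mem u ⟨x, rfl⟩

theorem IW_le {ρ : U →* Module.End K W} {S : Submodule K W} (h : ∀ u x, ρ u x - x ∈ S) :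
    IW ρ ≤ S := by
  refine iSup_le fun u => ?_
  rintro _ ⟨x, rfl⟩
  exact h u x

/-- the dual action -/
noncomputable def dualHom (ρ : U →* Module.End K W) : U →* Module.End K (Dual K W) where
  toFun u := (ρ u⁻¹).dualMap
  map_one' := by
    rw [inv_one, map_one]; ext f x; rfl
  map_mul' u v := by
    rw [mul_inv_rev, map_mul]; ext f x; rfl

theorem exists_fixed_dual [Finite K] [Module.Finite K W] [Nontrivial W] (hU : IsPGroup 2 U)
    (ρ : U →* Module.End K W) : ∃ f : Dual K W, f ≠ 0 ∧ ∀ u x, f (ρ u x) = f x := by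
  haveI : Finite (Dual K W) := Module.finite_of_finite K
  obtain ⟨f, hf, h⟩ := exists_fixed hU (dualHom ρ)
  refine ⟨f, hf, fun u x => ?_⟩
  have := LinearMap.congr_fun (h u⁻¹) x
  simp only [dualHom, MonoidHom.coe_mk, OneHom.coe_mk, inv_inv] at this
  exact this

theorem IW_lt [Finite K] [Module.Finite K W] [Nontrivial W] (hU : IsPGroup 2 U)
    (ρ : U →* Module.End K W) : finrank K (IW ρ) + 1 ≤ finrank K W := by
  obtain ⟨f, hf, h⟩ := exists_fixed_dual hU ρ
  have h1 : IW ρ ≤ LinearMap.ker f := IW_le fun u x => by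
    rw [LinearMap.mem_ker, map_sub, h, sub_self]
  have h2 : LinearMap.ker f ≠ ⊤ := by
    intro h2; exact hf (LinearMap.ker_eq_top.1 h2)
  have h3 := Submodule.finrank_lt h2
  have h4 := Submodule.finrank_mono h1
  omega

end

section pure

variable {W W' : Type*} [AddCommGroup W] [Module K W] [AddCommGroup W'] [Module K W']

theorem eq_top_of_pure {X : Submodule K (W ⊗[K] W')} (h : ∀ x ξ, x ⊗ₜ[K] ξ ∈ X) : X = ⊤ := by
  rw [eq_top_iff, ← TensorProduct.span_tmul_eq_top, Submodule.span_le]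
  rintro _ ⟨m, n, rfl⟩
  exact h m n

theorem exists_pure {E : Submodule K (W ⊗[K] W')} (hE : E ≠ ⊤) : ∃ x ξ, x ⊗ₜ[K] ξ ∉ E := by
  by_contra hc
  push Not at hc
  exact hE (eq_top_of_pure hc)

/-- pure tensors outside a proper subspace span -/
theorem pure_span {E X : Submodule K (W ⊗[K] W')} (hE : E ≠ ⊤)
    (h : ∀ x ξ, x ⊗ₜ[K] ξ ∉ E → x ⊗ₜ[K] ξ ∈ X) : X = ⊤ := by
  have h1 : ∀ x ξ, x ⊗ₜ[K] ξ ∉ E → ∀ η, x ⊗ₜ[K] η ∈ X := by
    intro x ξ hx η
    by_cases hη : x ⊗ₜ[K] η ∈ E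
    · have h2 : x ⊗ₜ[K] (η + ξ) ∉ E := by
        rw [tmul_add]
        intro h3; exact hx ((Submodule.add_mem_iff_right E hη).1 h3)
      have h3 := h _ _ h2
      rw [tmul_add] at h3
      exact (Submodule.add_mem_iff_left X (h x ξ hx)).1 h3
    · exact h _ _ hη
  obtain ⟨x₀, ξ₀, h0⟩ := exists_pure hE
  refine eq_top_of_pure fun y η => ?_
  by_cases hy : ∃ ξ, y ⊗ₜ[K] ξ ∉ E
  · obtain ⟨ξ, hξ⟩ := hy
    exact h1 y ξ hξ η
  · push Not at hy
    have h2 : (y + x₀) ⊗ₜ[K] ξ₀ ∉ E := by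
      rw [add_tmul]
      intro h3; exact h0 ((Submodule.add_mem_iff_right E (hy ξ₀)).1 h3)
    have h3 := h1 _ _ h2 η
    rw [add_tmul] at h3
    exact (Submodule.add_mem_iff_left X (h1 _ _ h0 η)).1 h3

end pure

namespace KFlat

variable {V U : Type*} [AddCommGroup V] [Module K V] [Group U]
  {act : U →* Module.End K V} {E F : Submodule K V}

theorem isPGroup (h : KFlat act E F) : IsPGroup 2 U := by
  intro u
  exact ⟨1, by rw [pow_one, pow_two]; exact h.sq u⟩

variable [Finite V]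

theorem ne_top (h : KFlat act E F) : E ≠ ⊤ := by
  intro he
  have h1 := h.four
  rw [he, Nat.card_congr (Submodule.topEquiv (R := K) (M := V)).toEquiv] at h1
  have : 0 < Nat.card V := Nat.card_pos
  omega

/-- injection of `E` into `α × F` -/
theorem exists_theta (h : KFlat act E F) {w : V} (hw : w ∉ E) {α : Type*} (g : U → α) (φ : α → V)
    (hφ : ∀ u, φ (g u) = act u w - w) :
    ∃ Θ : E → α × F, ∀ e, φ (Θ e).1 + (Θ e).2 = e ∧ ∃ u, g u = (Θ e).1 := by
  choose! s hs using fun (e : E) => h.reg w hw e.1 e.2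
  refine ⟨fun e => (g (s e), ⟨_, hs e⟩), fun e => ⟨?_, s e, rfl⟩⟩
  simp only [hφ]
  abel

theorem card_E_le (h : KFlat act E F) {w : V} (hw : w ∉ E) {α : Type*} [Finite α] (g : U → α)
    (φ : α → V) (hφ : ∀ u, φ (g u) = act u w - w) :
    Nat.card E ≤ Nat.card α * Nat.card F := by
  obtain ⟨Θ, hΘ⟩ := h.exists_theta hw g φ hφ
  rw [← Nat.card_prod]
  refine Nat.card_le_card_of_injective Θ fun e e' he => Subtype.ext ?_
  rw [← (hΘ e).1, ← (hΘ e').1, he]

/-- the equality case -/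
theorem theta_bij (h : KFlat act E F) {w : V} (hw : w ∉ E) {α : Type*} [Finite α] (g : U → α)
    (φ : α → V) (hφ : ∀ u, φ (g u) = act u w - w)
    (hc : Nat.card α * Nat.card F ≤ Nat.card E) :
    (∀ a, ∃ u, g u = a) ∧ ∀ u, act u w - w ∈ F → act u w = w := by
  obtain ⟨Θ, hΘ⟩ := h.exists_theta hw g φ hφ
  have hinj : Function.Injective Θ := fun e e' he => Subtype.ext (by
    rw [← (hΘ e).1, ← (hΘ e').1, he])
  have hbij := hinj.bijective_of_nat_card_le (by rw [Nat.card_prod]; exact hc)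
  refine ⟨fun a => ?_, fun u hu => ?_⟩
  · obtain ⟨e, he⟩ := hbij.2 (a, 0)
    obtain ⟨u, hu⟩ := (hΘ e).2
    exact ⟨u, by rw [hu, he]⟩
  · obtain ⟨e, he⟩ := hbij.2 (g u, 0)
    obtain ⟨e', he'⟩ := hbij.2 (g 1, ⟨_, hu⟩)
    have h1 := (hΘ e).1
    have h2 := (hΘ e').1
    rw [he] at h1
    rw [he'] at h2
    simp only [hφ, ZeroMemClass.coe_zero, add_zero] at h1 h2
    rw [map_one] at h2
    simp only [Module.End.one_apply, sub_self, zero_add] at h2
    have h3 : e = e' := Subtype.ext (by rw [← h1, ← h2])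
    rw [h3, he'] at he
    have h4 := (Prod.ext_iff.1 he).2
    exact sub_eq_zero.1 (congrArg Subtype.val h4)

end KFlat

end Cfsg.Agent.Omega.NO1.Comp

end

section


/-!
# THEOREM COMP (bb OMEGA #17539), step (5), first half: `V = W ⊗ W'`

`PFlat ρ ρ' act E F`: a `KFlat` on `W ⊗[K] W'`, `act u = ρ u ⊗ ρ' u`, nontrivial on both factors,
both of dimension `≥ 2`.  Then `ε = d + d' - 2`, `[W,U]`, `[W',U]` are hyperplanes, `N = 1`, and for
every pure `x ⊗ ξ ∉ E` the group `U` is regular on `(x + [W,U]) × (ξ + [W',U])`.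
-/

set_option linter.unusedSectionVars false
set_option linter.style.haveILetI false

namespace Cfsg.Agent.Omega.NO1.Comp

open Module TensorProduct

variable {K : Type*} [Field K] {W W' : Type*} [AddCommGroup W] [Module K W] [AddCommGroup W']
  [Module K W'] {U : Type*} [Group U]

/-- the input of step (5) -/
structure PFlat (ρ : U →* Module.End K W) (ρ' : U →* Module.End K W')
    (act : U →* Module.End K (W ⊗[K] W')) (E F : Submodule K (W ⊗[K] W')) : Prop where
  flat : KFlat act E F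
  act_eq : ∀ u, act u = TensorProduct.map (ρ u) (ρ' u)
  n : ∃ u, ρ u ≠ 1
  n' : ∃ u, ρ' u ≠ 1
  d : 2 ≤ finrank K W
  d' : 2 ≤ finrank K W'

variable {ρ : U →* Module.End K W} {ρ' : U →* Module.End K W'}
    {act : U →* Module.End K (W ⊗[K] W')} {E F : Submodule K (W ⊗[K] W')}

namespace PFlat

theorem act_tmul (h : PFlat ρ ρ' act E F) (u : U) (x : W) (ξ : W') :
    act u (x ⊗ₜ ξ) = ρ u x ⊗ₜ ρ' u ξ := by
  rw [h.act_eq]; rfl

theorem rho_sq (h : PFlat ρ ρ' act E F) (u : U) (x : W) : ρ u (ρ u x) = x := by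
  rw [← Module.End.mul_apply, ← map_mul, h.flat.sq u, map_one]; rfl

theorem rho_sq' (h : PFlat ρ ρ' act E F) (u : U) (x : W') : ρ' u (ρ' u x) = x := by
  rw [← Module.End.mul_apply, ← map_mul, h.flat.sq u, map_one]; rfl

theorem eq_one (h : PFlat ρ ρ' act E F) {u : U} (h1 : ρ u = 1) (h2 : ρ' u = 1) : u = 1 := by
  apply h.flat.faith
  rw [h.act_eq, h1, h2]
  exact TensorProduct.map_one

/-- `W` and `W'` exchanged -/
noncomputable def actS (act : U →* Module.End K (W ⊗[K] W')) : U →* Module.End K (W' ⊗[K] W) where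
  toFun u := (TensorProduct.comm K W W').toLinearMap ∘ₗ act u ∘ₗ
    (TensorProduct.comm K W W').symm.toLinearMap
  map_one' := by
    rw [map_one]
    apply LinearMap.ext; intro v
    change (TensorProduct.comm K W W') ((TensorProduct.comm K W W').symm v) = v
    simp
  map_mul' u v := by
    rw [map_mul]
    apply LinearMap.ext; intro x
    change (TensorProduct.comm K W W') (act u (act v ((TensorProduct.comm K W W').symm x))) =
      (TensorProduct.comm K W W') (act u ((TensorProduct.comm K W W').symm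
        ((TensorProduct.comm K W W') (act v ((TensorProduct.comm K W W').symm x)))))
    rw [LinearEquiv.symm_apply_apply]

theorem symm (h : PFlat ρ ρ' act E F) :
    PFlat ρ' ρ (actS act) (E.map (TensorProduct.comm K W W').toLinearMap)
      (F.map (TensorProduct.comm K W W').toLinearMap) := by
  refine ⟨h.flat.congr (TensorProduct.comm K W W') ?_, ?_, h.n', h.n, h.d', h.d⟩
  · intro u v
    change (TensorProduct.comm K W W') (act u ((TensorProduct.comm K W W').symm
      ((TensorProduct.comm K W W') v))) = _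
    rw [LinearEquiv.symm_apply_apply]
  · intro u
    apply TensorProduct.ext'
    intro x y
    change (TensorProduct.comm K W W') (act u ((TensorProduct.comm K W W').symm (x ⊗ₜ y))) = _
    rw [TensorProduct.comm_symm_tmul, h.act_tmul, TensorProduct.comm_tmul]; rfl

/-- some `u` is nontrivial on both factors -/
theorem exists_both (h : PFlat ρ ρ' act E F) : ∃ u, ρ u ≠ 1 ∧ ρ' u ≠ 1 := by
  obtain ⟨u, hu⟩ := h.n
  obtain ⟨v, hv⟩ := h.n'
  by_cases h1 : ρ' u = 1
  · by_cases h2 : ρ v = 1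
    · refine ⟨u * v, ?_, ?_⟩
      · rw [map_mul, h2, mul_one]; exact hu
      · rw [map_mul, h1, one_mul]; exact hv
    · exact ⟨v, h2, hv⟩
  · exact ⟨u, hu, h1⟩

variable [Finite K] [CharP K 2] [Module.Finite K W] [Module.Finite K W']

theorem one_lt_q (K : Type*) [Field K] [Finite K] : 1 < Nat.card K := Finite.one_lt_card

theorem finVV : Finite (W ⊗[K] W') := Module.finite_of_finite K

theorem rk_fin (h : PFlat ρ ρ' act E F) (u : U) :
    finrank K (LinearMap.range (act u - 1)) + finrank K F ≤ finrank K E := by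
  have h1 := h.flat.rk u
  rw [Module.natCard_eq_pow_finrank (K := K), Module.natCard_eq_pow_finrank (K := K) (V := F),
    Module.natCard_eq_pow_finrank (K := K) (V := E), ← pow_add] at h1
  exact (Nat.pow_le_pow_iff_right (one_lt_q K)).1 h1

theorem ge (h : PFlat ρ ρ' act E F) :
    finrank K W + finrank K W' + finrank K F ≤ finrank K E + 2 := by
  obtain ⟨u, h1, h2⟩ := h.exists_both
  have h3 := rank_ge (h.rho_sq u) (h.rho_sq' u) h1 h2
  rw [← h.act_eq] at h3
  have h4 := h.rk_fin u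
  omega

theorem nontW (h : PFlat ρ ρ' act E F) : Nontrivial W := by
  have := h.d
  exact Module.nontrivial_of_finrank_pos (R := K) (by omega)

theorem nontW' (h : PFlat ρ ρ' act E F) : Nontrivial W' := h.symm.nontW

/-- the map `u ↦ (ρ u x - x, ρ' u ξ - ξ)` -/
def gg (ρ : U →* Module.End K W) (ρ' : U →* Module.End K W') (x : W) (ξ : W') (u : U) :
    IW ρ × IW ρ' :=
  (⟨ρ u x - x, mem_IW ρ u x⟩, ⟨ρ' u ξ - ξ, mem_IW ρ' u ξ⟩)

/-- `(a, b) ↦ (x + a) ⊗ (ξ + b) - x ⊗ ξ` -/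
noncomputable def ff (ρ : U →* Module.End K W) (ρ' : U →* Module.End K W') (x : W) (ξ : W')
    (p : IW ρ × IW ρ') : W ⊗[K] W' :=
  (x + p.1.1) ⊗ₜ (ξ + p.2.1) - x ⊗ₜ ξ

theorem ff_gg (h : PFlat ρ ρ' act E F) (x : W) (ξ : W') (u : U) :
    ff ρ ρ' x ξ (gg ρ ρ' x ξ u) = act u (x ⊗ₜ ξ) - x ⊗ₜ ξ := by
  rw [h.act_tmul]
  simp only [ff, gg]
  rw [add_sub_cancel, add_sub_cancel]

/-- balance: all the inequalities are equalities -/
theorem balance (h : PFlat ρ ρ' act E F) :
    finrank K (IW ρ) + 1 = finrank K W ∧ finrank K (IW ρ') + 1 = finrank K W' ∧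
      finrank K W + finrank K W' + finrank K F = finrank K E + 2 := by
  classical
  haveI := h.nontW
  haveI := h.nontW'
  haveI : Finite (W ⊗[K] W') := finVV
  haveI : Finite W := Module.finite_of_finite K
  haveI : Finite W' := Module.finite_of_finite K
  obtain ⟨x, ξ, hw⟩ := exists_pure h.flat.ne_top
  have h1 := h.flat.card_E_le hw (gg ρ ρ' x ξ) (ff ρ ρ' x ξ) (h.ff_gg x ξ)
  rw [Nat.card_prod, Module.natCard_eq_pow_finrank (K := K) (V := E),
    Module.natCard_eq_pow_finrank (K := K) (V := F),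
    Module.natCard_eq_pow_finrank (K := K) (V := IW ρ),
    Module.natCard_eq_pow_finrank (K := K) (V := IW ρ'), ← pow_add, ← pow_add] at h1
  have h2 := (Nat.pow_le_pow_iff_right (one_lt_q K)).1 h1
  have h3 := IW_lt h.flat.isPGroup ρ
  have h4 := IW_lt h.flat.isPGroup ρ'
  have h5 := h.ge
  omega

theorem card_le (h : PFlat ρ ρ' act E F) :
    Nat.card (IW ρ × IW ρ') * Nat.card F ≤ Nat.card E := by
  rw [Nat.card_prod, Module.natCard_eq_pow_finrank (K := K) (V := E),
    Module.natCard_eq_pow_finrank (K := K) (V := F),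
    Module.natCard_eq_pow_finrank (K := K) (V := IW ρ),
    Module.natCard_eq_pow_finrank (K := K) (V := IW ρ'), ← pow_add, ← pow_add]
  refine (Nat.pow_le_pow_iff_right (one_lt_q K)).2 ?_
  have := h.balance
  omega

/-- regularity -/
theorem reg (h : PFlat ρ ρ' act E F) {x : W} {ξ : W'} (hw : x ⊗ₜ[K] ξ ∉ E) {a : W} {b : W'}
    (ha : a ∈ IW ρ) (hb : b ∈ IW ρ') : ∃ u, ρ u x = x + a ∧ ρ' u ξ = ξ + b := by
  haveI : Finite (W ⊗[K] W') := finVV
  haveI : Finite W := Module.finite_of_finite K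
  haveI : Finite W' := Module.finite_of_finite K
  obtain ⟨h1, -⟩ := h.flat.theta_bij hw (gg ρ ρ' x ξ) (ff ρ ρ' x ξ) (h.ff_gg x ξ) h.card_le
  obtain ⟨u, hu⟩ := h1 (⟨a, ha⟩, ⟨b, hb⟩)
  have e1 : ρ u x - x = a := congrArg (fun p => p.1.1) hu
  have e2 : ρ' u ξ - ξ = b := congrArg (fun p => p.2.1) hu
  exact ⟨u, by rw [← e1]; abel, by rw [← e2]; abel⟩

theorem fix_of_mem (h : PFlat ρ ρ' act E F) {x : W} {ξ : W'} (hw : x ⊗ₜ[K] ξ ∉ E) {u : U}
    (hu : act u (x ⊗ₜ ξ) - x ⊗ₜ ξ ∈ F) : act u (x ⊗ₜ ξ) = x ⊗ₜ ξ := by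
  haveI : Finite (W ⊗[K] W') := finVV
  haveI : Finite W := Module.finite_of_finite K
  haveI : Finite W' := Module.finite_of_finite K
  exact (h.flat.theta_bij hw (gg ρ ρ' x ξ) (ff ρ ρ' x ξ) (h.ff_gg x ξ) h.card_le).2 u hu

/-- `N = 1` -/
theorem nn_one (h : PFlat ρ ρ' act E F) {u : U} (hu : KFlat.Nn act E u) : u = 1 := by
  haveI : Finite (W ⊗[K] W') := finVV
  apply h.flat.faith
  have h1 : LinearMap.ker (act u - 1) = ⊤ := by
    refine pure_span h.flat.ne_top fun x ξ hw => ?_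
    rw [LinearMap.mem_ker]
    exact sub_eq_zero.2 (h.fix_of_mem hw ((h.flat.nn_iff hw u).1 hu))
  rw [LinearMap.ker_eq_top] at h1
  exact sub_eq_zero.1 h1

theorem fix_one (h : PFlat ρ ρ' act E F) {x : W} {ξ : W'} (hw : x ⊗ₜ[K] ξ ∉ E) {u : U}
    (h1 : ρ u x = x) (h2 : ρ' u ξ = ξ) : u = 1 := by
  apply h.nn_one
  rw [h.flat.nn_iff hw, h.act_tmul, h1, h2, sub_self]
  exact F.zero_mem

/-- `x ∉ [W,U]` -/
theorem not_mem_IW (h : PFlat ρ ρ' act E F) {x : W} {ξ : W'} (hw : x ⊗ₜ[K] ξ ∉ E) :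
    x ∉ IW ρ := by
  intro hx
  obtain ⟨u, h1, -⟩ := h.reg hw ((IW ρ).neg_mem hx) (IW ρ').zero_mem
  rw [add_neg_cancel] at h1
  have h2 : x = 0 := by rw [← h.rho_sq u x, h1, map_zero]
  rw [h2, zero_tmul] at hw
  exact hw E.zero_mem

theorem card_U (h : PFlat ρ ρ' act E F) [Finite U] :
    Nat.card U = Nat.card K ^ (finrank K W + finrank K W' - 2) := by
  haveI : Finite (W ⊗[K] W') := finVV
  haveI : Finite W := Module.finite_of_finite K
  haveI : Finite W' := Module.finite_of_finite K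
  obtain ⟨x, ξ, hw⟩ := exists_pure h.flat.ne_top
  have hb : Function.Bijective (gg ρ ρ' x ξ) := by
    constructor
    · intro u v huv
      have e1 : ρ u x - x = ρ v x - x := congrArg (fun p => p.1.1) huv
      have e2 : ρ' u ξ - ξ = ρ' v ξ - ξ := congrArg (fun p => p.2.1) huv
      have e3 := sub_left_injective e1
      have e4 := sub_left_injective e2
      have h5 : v * u = 1 := by
        refine h.fix_one hw ?_ ?_
        · rw [map_mul, Module.End.mul_apply, e3, h.rho_sq]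
        · rw [map_mul, Module.End.mul_apply, e4, h.rho_sq']
      have h6 := h.flat.sq v
      exact mul_left_cancel (h5.trans h6.symm)
    · rintro ⟨a, b⟩
      obtain ⟨u, h1, h2⟩ := h.reg hw a.2 b.2
      refine ⟨u, Prod.ext (Subtype.ext ?_) (Subtype.ext ?_)⟩
      · change ρ u x - x = a; rw [h1]; abel
      · change ρ' u ξ - ξ = b; rw [h2]; abel
  rw [Nat.card_congr (Equiv.ofBijective _ hb), Nat.card_prod,
    Module.natCard_eq_pow_finrank (K := K) (V := IW ρ),
    Module.natCard_eq_pow_finrank (K := K) (V := IW ρ'), ← pow_add]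
  have := h.balance
  have := h.d
  have := h.d'
  congr 1
  omega

end PFlat

end Cfsg.Agent.Omega.NO1.Comp

end

section


/-!
# THEOREM COMP (bb OMEGA #17539), step (5), second half
-/

set_option linter.unusedSectionVars false
set_option linter.style.haveILetI false

namespace Cfsg.Agent.Omega.NO1.Comp

open Module TensorProduct

variable {K : Type*} [Field K] {W W' : Type*} [AddCommGroup W] [Module K W] [AddCommGroup W']
  [Module K W'] {U : Type*} [Group U]
variable {ρ : U →* Module.End K W} {ρ' : U →* Module.End K W'}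
    {act : U →* Module.End K (W ⊗[K] W')} {E F : Submodule K (W ⊗[K] W')}

namespace PFlat

variable [Finite K] [CharP K 2] [Module.Finite K W] [Module.Finite K W']

theorem IW_inv (ρ : U →* Module.End K W) (u : U) {x : W} (hx : x ∈ IW ρ) : ρ u x ∈ IW ρ := by
  have := (IW ρ).add_mem (mem_IW ρ u x) hx
  rwa [sub_add_cancel] at this

theorem top_of (h : PFlat ρ ρ' act E F) {x : W} {ξ : W'} (hw : x ⊗ₜ[K] ξ ∉ E) {S : Submodule K W}
    (h1 : IW ρ ≤ S) (h2 : x ∈ S) : S = ⊤ := by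
  have h3 : IW ρ < S := lt_of_le_of_ne h1 (fun he => h.not_mem_IW hw (he ▸ h2))
  have h4 := Submodule.finrank_lt_finrank_of_lt h3
  have h5 := h.balance.1
  refine Submodule.eq_top_of_finrank_eq ?_
  have := Submodule.finrank_le S
  omega

/-- `u` nontrivial on both factors is a transvection on `W` if `d' ≥ 3` -/
theorem rank_one (h : PFlat ρ ρ' act E F) (h3 : 3 ≤ finrank K W') {u : U} (h1 : ρ' u ≠ 1) :
    finrank K (LinearMap.range (ρ u - 1)) ≤ 1 := by
  by_contra hc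
  have h2 := rank_ge' (h.rho_sq u) (h.rho_sq' u) (by omega) h1 h3
  rw [← h.act_eq] at h2
  have h4 := h.rk_fin u
  have h5 := h.balance.2.2
  omega

theorem mem_span_of_rank_one {X : Type*} [AddCommGroup X] [Module K X] [Module.Finite K X]
    {S : Submodule K X} (hS : finrank K S ≤ 1) {a y : X} (ha : a ∈ S) (ha0 : a ≠ 0) (hy : y ∈ S) :
    y ∈ Submodule.span K {a} := by
  have h1 : Submodule.span K {a} ≤ S := by
    rw [Submodule.span_le, Set.singleton_subset_iff]; exact ha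
  have h2 : finrank K (Submodule.span K {a}) = 1 := finrank_span_singleton ha0
  have h3 : Submodule.span K {a} = S :=
    Submodule.eq_of_le_of_finrank_le h1 (by omega)
  rw [h3]; exact hy

theorem exists_indep {X : Type*} [AddCommGroup X] [Module K X] [Module.Finite K X]
    {S : Submodule K X} (hS : 2 ≤ finrank K S) :
    ∃ a ∈ S, a ≠ 0 ∧ ∃ b ∈ S, b ∉ Submodule.span K {a} := by
  have h1 : S ≠ ⊥ := by
    rintro rfl; rw [finrank_bot] at hS; omega
  obtain ⟨a, ha, ha0⟩ := Submodule.exists_mem_ne_zero_of_ne_bot h1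
  refine ⟨a, ha, ha0, ?_⟩
  by_contra hc
  push Not at hc
  have h2 := Submodule.finrank_mono (show S ≤ Submodule.span K {a} from hc)
  rw [finrank_span_singleton ha0] at h2
  omega

/-- **(5)(a)** -/
theorem exists_cuW (h : PFlat ρ ρ' act E F) (h3 : 3 ≤ finrank K W → 3 ≤ finrank K W') :
    ∃ r, r ≠ 1 ∧ ρ r = 1 := by
  haveI : Finite (W ⊗[K] W') := finVV
  haveI : Finite W := Module.finite_of_finite K
  haveI : Finite W' := Module.finite_of_finite K
  obtain ⟨x, ξ, hw⟩ := exists_pure h.flat.ne_top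
  have hd := h.d
  have hd' := h.d'
  obtain ⟨b1, b2, b3⟩ := h.balance
  by_cases hd2 : finrank K W = 2
  · -- `d = 2`
    have h1 : IW ρ' ≠ ⊥ := by
      intro h1; rw [h1, finrank_bot] at b2; omega
    obtain ⟨b, hb, hb0⟩ := Submodule.exists_mem_ne_zero_of_ne_bot h1
    obtain ⟨u, hu1, hu2⟩ := h.reg hw (IW ρ).zero_mem hb
    rw [add_zero] at hu1
    refine ⟨u, ?_, ?_⟩
    · rintro rfl
      rw [map_one, Module.End.one_apply, left_eq_add] at hu2
      exact hb0 hu2
    · have h4 : IW ρ ≠ ⊥ := by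
        intro h1; rw [h1, finrank_bot] at b1; omega
      obtain ⟨c, hc, hc0, hcf⟩ := exists_fixed_mem h.flat.isPGroup ρ (IW ρ)
        (fun u x hx => IW_inv ρ u hx) h4
      have h5 : LinearMap.ker (ρ u - 1) = ⊤ := by
        refine h.top_of hw ?_ ?_
        · intro y hy
          have h6 := mem_span_of_rank_one (show finrank K (IW ρ) ≤ 1 by omega) hc hc0 hy
          obtain ⟨k, rfl⟩ := Submodule.mem_span_singleton.1 h6
          rw [LinearMap.mem_ker]
          refine sub_eq_zero.2 ?_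
          rw [map_smul, hcf u]; rfl
        · rw [LinearMap.mem_ker]
          exact sub_eq_zero.2 hu1
      rw [LinearMap.ker_eq_top] at h5
      exact sub_eq_zero.1 h5
  · -- `d ≥ 3`
    by_contra hcon
    push Not at hcon
    have hd3 : 3 ≤ finrank K W' := h3 (by omega)
    obtain ⟨b, hb, hb0, b', hb', hbb'⟩ := exists_indep (show 2 ≤ finrank K (IW ρ') by omega)
    obtain ⟨a, ha, ha0, a', ha', haa'⟩ := exists_indep (show 2 ≤ finrank K (IW ρ) by omega)
    have hb'0 : b' ≠ 0 := by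
      rintro rfl; exact hbb' (Submodule.zero_mem _)
    have ha'0 : a' ≠ 0 := by
      rintro rfl; exact haa' (Submodule.zero_mem _)
    obtain ⟨u, hu1, hu2⟩ := h.reg hw (IW ρ).zero_mem hb
    obtain ⟨u', hu1', hu2'⟩ := h.reg hw (IW ρ).zero_mem hb'
    rw [add_zero] at hu1 hu1'
    -- the key step
    have key0 : ∀ c ∈ IW ρ, c ≠ 0 → ∀ w d, d ≠ 0 → ρ w x = x → ρ' w ξ = ξ + d → ∀ v, ρ v x = x + c →
        ρ' v ξ = ξ → ∀ y, ρ (w * v) y - y ∈ Submodule.span K {c} := by
      intro c hc hc0 w d hd0 hw1 hw2 v hv1 hv2 y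
      have h1 : ρ' (w * v) ≠ 1 := by
        intro h1
        have := LinearMap.congr_fun h1 ξ
        rw [map_mul, Module.End.mul_apply, hv2, hw2, Module.End.one_apply, add_eq_left] at this
        exact hd0 this
      have h2 := h.rank_one hd3 h1
      have h4 : c ∈ LinearMap.range (ρ (w * v) - 1) := by
        refine ⟨x, ?_⟩
        change ρ (w * v) x - x = c
        rw [h.flat.comm w v, map_mul, Module.End.mul_apply, hw1, hv1]; abel
      exact mem_span_of_rank_one h2 h4 hc0 ⟨y, rfl⟩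
    have key : ∀ c ∈ IW ρ, c ≠ 0 → ∀ y, ρ (u * u') y - y ∈ Submodule.span K {c} := by
      intro c hc hc0 y
      obtain ⟨v, hv1, hv2⟩ := h.reg hw hc (IW ρ').zero_mem
      rw [add_zero] at hv2
      have h1 := key0 c hc hc0 u b hb0 hu1 hu2 v hv1 hv2 (ρ (u' * v) y)
      have h2 := key0 c hc hc0 u' b' hb'0 hu1' hu2' v hv1 hv2 y
      have h4 : u * u' = (u * v) * (u' * v) := by
        rw [h.flat.comm u' v, mul_assoc, ← mul_assoc v v, h.flat.sq v, one_mul]
      rw [h4, map_mul, Module.End.mul_apply]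
      have := Submodule.add_mem _ h1 h2
      rwa [sub_add_sub_cancel] at this
    have h1 : ρ (u * u') = 1 := by
      ext y
      have h4 := key a ha ha0 y
      have h5 := key a' ha' ha'0 y
      obtain ⟨k, hk⟩ := Submodule.mem_span_singleton.1 h4
      obtain ⟨k', hk'⟩ := Submodule.mem_span_singleton.1 h5
      by_cases hk0 : k' = 0
      · rw [hk0, zero_smul] at hk'
        exact sub_eq_zero.1 hk'.symm
      · exfalso
        apply haa'
        rw [Submodule.mem_span_singleton]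
        refine ⟨k'⁻¹ * k, ?_⟩
        rw [← smul_smul, hk, ← hk', smul_smul, inv_mul_cancel₀ hk0, one_smul]
    have h2 : u * u' ≠ 1 := by
      intro h2
      have h4 : u' = u := mul_left_cancel (h2.trans (h.flat.sq u).symm)
      rw [h4, hu2, add_right_inj] at hu2'
      exact hbb' (hu2' ▸ Submodule.mem_span_singleton_self b)
    exact hcon _ h2 h1

/-- tensor tools -/
theorem tmul_mem_range (h : PFlat ρ ρ' act E F) {r : U} (hr : ρ r = 1) (z : W) {b : W'}
    (hb : b ∈ LinearMap.range (ρ' r - 1)) : z ⊗ₜ[K] b ∈ LinearMap.range (act r - 1) := by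
  obtain ⟨ζ, rfl⟩ := hb
  refine ⟨z ⊗ₜ ζ, ?_⟩
  change act r (z ⊗ₜ ζ) - z ⊗ₜ ζ = z ⊗ₜ (ρ' r ζ - ζ)
  rw [h.act_tmul, hr, tmul_sub]; rfl

theorem range_inv (h : PFlat ρ ρ' act E F) (r u : U) {b : W'}
    (hb : b ∈ LinearMap.range (ρ' r - 1)) : ρ' u b ∈ LinearMap.range (ρ' r - 1) := by
  obtain ⟨ζ, rfl⟩ := hb
  refine ⟨ρ' u ζ, ?_⟩
  change ρ' r (ρ' u ζ) - ρ' u ζ = ρ' u (ρ' r ζ - ζ)
  rw [map_sub, ← Module.End.mul_apply, ← map_mul, h.flat.comm, map_mul, Module.End.mul_apply]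

theorem left_eq {x : W} {η η' : W'} (hx : x ≠ 0) (he : x ⊗ₜ[K] η = x ⊗ₜ η') : η = η' := by
  obtain ⟨f, hf, -⟩ := exists_dual_one (K := K) (p := ⊥) (x := x) (by simpa using hx)
  have := congrArg (cL W' f) he
  rwa [cL_tmul, cL_tmul, hf, one_smul, one_smul] at this

theorem right_eq {x x' : W} {η : W'} (hη : η ≠ 0) (he : x ⊗ₜ[K] η = x' ⊗ₜ η) : x = x' := by
  obtain ⟨f, hf, -⟩ := exists_dual_one (K := K) (p := ⊥) (x := η) (by simpa using hη)
  have := congrArg (cR W f) he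
  rwa [cR_tmul, cR_tmul, hf, one_smul, one_smul] at this

theorem mem_span_of_tmul {x x' : W} {η η' : W'} (hη : η ≠ 0) (he : x ⊗ₜ[K] η = x' ⊗ₜ η') :
    x ∈ Submodule.span K {x'} := by
  obtain ⟨f, hf, -⟩ := exists_dual_one (K := K) (p := ⊥) (x := η) (by simpa using hη)
  have := congrArg (cR W f) he
  rw [cR_tmul, cR_tmul, hf, one_smul] at this
  rw [this]
  exact Submodule.smul_mem _ _ (Submodule.mem_span_singleton_self _)

theorem mem_span_of_tmul' {x x' : W} {η η' : W'} (hx : x ≠ 0) (he : x ⊗ₜ[K] η = x' ⊗ₜ η') :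
    η ∈ Submodule.span K {η'} := by
  obtain ⟨f, hf, -⟩ := exists_dual_one (K := K) (p := ⊥) (x := x) (by simpa using hx)
  have := congrArg (cL W' f) he
  rw [cL_tmul, cL_tmul, hf, one_smul] at this
  rw [this]
  exact Submodule.smul_mem _ _ (Submodule.mem_span_singleton_self _)

section B

variable (h : PFlat ρ ρ' act E F) {r : U} (hr1 : r ≠ 1) (hr : ρ r = 1)
include h hr1 hr

theorem not_nn : ¬ KFlat.Nn act E r := fun hn => hr1 (h.nn_one hn)

theorem range_ne : LinearMap.range (ρ' r - 1) ≠ ⊥ := by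
  intro h0
  rw [LinearMap.range_eq_bot] at h0
  exact hr1 (h.eq_one hr (sub_eq_zero.1 h0))

/-- (MR) on `W ⊗ I` -/
theorem mrW {z : W} {η : W'} (hη : η ∈ LinearMap.range (ρ' r - 1))
    (hm : ¬ ∀ s, act s (z ⊗ₜ η) = z ⊗ₜ η) {m : W ⊗[K] W'} (hm' : m ∈ LinearMap.range (act r - 1))
    (hmF : ∀ s, act s m = m) : ∃ s, ρ s z ⊗ₜ ρ' s η - z ⊗ₜ η = m := by
  obtain ⟨s, hs⟩ := h.flat.mr (h.tmul_mem_range hr z hη) (by rwa [h.flat.fixF]) hm'
    ((h.flat.fixF _).2 hmF) (h.not_nn hr1 hr)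
  exact ⟨s, by rw [← h.act_tmul]; exact hs⟩

/-- `U` is trivial on `I = [W', r]` -/
theorem triv_I {η : W'} (hη : η ∈ LinearMap.range (ρ' r - 1)) (u : U) : ρ' u η = η := by
  haveI := h.nontW
  haveI : Finite W := Module.finite_of_finite K
  haveI : Finite W' := Module.finite_of_finite K
  by_contra hne
  -- find u, z, η with both moved
  obtain ⟨u, z, η, hη, hz, hb⟩ : ∃ u z η, η ∈ LinearMap.range (ρ' r - 1) ∧ ρ u z ≠ z ∧
      ρ' u η ≠ η := by
    obtain ⟨v, hv⟩ := h.n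
    obtain ⟨z, hz⟩ : ∃ z, ρ v z ≠ z := by
      by_contra hc; push Not at hc; exact hv (LinearMap.ext hc)
    by_cases h1 : ρ' v η = η
    · by_cases h2 : ρ u z = z
      · refine ⟨u * v, z, η, hη, ?_, ?_⟩
        · rw [h.flat.comm, map_mul, Module.End.mul_apply, h2]; exact hz
        · rw [map_mul, Module.End.mul_apply, h1]; exact hne
      · exact ⟨u, z, η, hη, h2, hne⟩
    · exact ⟨v, z, η, hη, hz, h1⟩
  obtain ⟨y, hy0, hy⟩ := exists_fixed h.flat.isPGroup ρ
  obtain ⟨η₀, hη₀, hη₀0, hη₀f⟩ := exists_fixed_mem h.flat.isPGroup ρ' (LinearMap.range (ρ' r - 1))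
    (fun u x hx => h.range_inv r u hx) (h.range_ne hr1 hr)
  set a := ρ u z - z with ha
  set b := ρ' u η - η with hb'
  have ha0 : a ≠ 0 := sub_ne_zero.2 hz
  have hb0 : b ≠ 0 := sub_ne_zero.2 hb
  have huz : ρ u z = z + a := by rw [ha]; abel
  have huη : ρ' u η = η + b := by rw [hb']; abel
  have hm1 : ¬ ∀ s, act s (y ⊗ₜ[K] η) = y ⊗ₜ η := by
    intro h1
    have h2 := h1 u
    rw [h.act_tmul, hy] at h2
    exact hb (left_eq hy0 h2)
  -- `a ⊗ η₀ ∈ M ∩ F`
  have hMF := h.flat.mr_mem (h.tmul_mem_range hr z hη₀) u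
  rw [h.act_tmul, hη₀f, ← sub_tmul, ← ha] at hMF
  obtain ⟨s, hs⟩ := h.mrW hr1 hr hη hm1 hMF.1 ((h.flat.fixF _).1 hMF.2)
  rw [hy, ← tmul_sub] at hs
  have hay := mem_span_of_tmul hη₀0 hs.symm
  -- `m₃`
  have hM3 := h.flat.mr_mem (h.tmul_mem_range hr z hη) u
  obtain ⟨s', hs'⟩ := h.mrW hr1 hr hη hm1 hM3.1 ((h.flat.fixF _).1 hM3.2)
  rw [hy, ← tmul_sub, h.act_tmul, huz, huη] at hs'
  have hzy : z ∉ Submodule.span K {y} := by
    intro hzy
    obtain ⟨k, rfl⟩ := Submodule.mem_span_singleton.1 hzy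
    apply hz
    rw [map_smul, hy]
  obtain ⟨f, hf1, hf0⟩ := exists_dual_one (K := K) hzy
  have h1 := congrArg (cL W' f) hs'
  rw [map_sub, cL_tmul, cL_tmul, cL_tmul, map_add, hf1, hf0 a hay,
    hf0 y (Submodule.mem_span_singleton_self y)] at h1
  simp only [zero_smul, add_zero, one_smul] at h1
  apply hb0
  rw [← sub_eq_zero.1 h1.symm] at *
  simpa using h1.symm

/-- **(5)(b)** `[W', r]` is one-dimensional -/
theorem trans : finrank K (LinearMap.range (ρ' r - 1)) = 1 := by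
  haveI := h.nontW
  haveI : Finite W := Module.finite_of_finite K
  haveI : Finite W' := Module.finite_of_finite K
  obtain ⟨v, hv⟩ := h.n
  obtain ⟨z, hz⟩ : ∃ z, ρ v z ≠ z := by
    by_contra hc; push Not at hc; exact hv (LinearMap.ext hc)
  obtain ⟨y, hy0, hy⟩ := exists_fixed h.flat.isPGroup ρ
  obtain ⟨η, hη, hη0⟩ := Submodule.exists_mem_ne_zero_of_ne_bot (h.range_ne hr1 hr)
  have hηf := h.triv_I hr1 hr hη
  have hm : ¬ ∀ s, act s (z ⊗ₜ[K] η) = z ⊗ₜ η := by
    intro h1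
    have h2 := h1 v
    rw [h.act_tmul, hηf] at h2
    exact hz (right_eq hη0 h2)
  have h1 : LinearMap.range (ρ' r - 1) ≤ Submodule.span K {η} := by
    intro η' hη'
    obtain ⟨s, hs⟩ := h.mrW hr1 hr hη hm (h.tmul_mem_range hr y hη') (fun s => by
      rw [h.act_tmul, hy, h.triv_I hr1 hr hη'])
    rw [hηf, ← sub_tmul] at hs
    exact mem_span_of_tmul' hy0 hs.symm
  have h2 := Submodule.finrank_mono h1
  rw [finrank_span_singleton hη0] at h2
  have h3 : 0 < finrank K (LinearMap.range (ρ' r - 1)) := by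
    rw [Nat.pos_iff_ne_zero]
    intro h0
    exact h.range_ne hr1 hr (Submodule.finrank_eq_zero.1 h0)
  omega

/-- **(5)(b)** `[z,U] ≤ C_W(U)` -/
theorem comm_mem (z : W) (s : U) : ρ s z - z ∈ CW ρ := by
  haveI : Finite W := Module.finite_of_finite K
  haveI : Finite W' := Module.finite_of_finite K
  obtain ⟨η, hη, hη0⟩ := Submodule.exists_mem_ne_zero_of_ne_bot (h.range_ne hr1 hr)
  have hηf := h.triv_I hr1 hr hη
  have h1 := (h.flat.mr_mem (h.tmul_mem_range hr z hη) s).2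
  rw [h.act_tmul, hηf, ← sub_tmul] at h1
  intro t
  have h2 := (h.flat.fixF _).1 h1 t
  rw [h.act_tmul, hηf] at h2
  exact right_eq hη0 h2

/-- **(5)(b)** `[z,U] = C_W(U)` for `z ∉ C_W(U)` -/
theorem comm_surj {z : W} (hz : z ∉ CW ρ) {y : W} (hy : y ∈ CW ρ) : ∃ s, ρ s z - z = y := by
  haveI : Finite W := Module.finite_of_finite K
  haveI : Finite W' := Module.finite_of_finite K
  obtain ⟨η, hη, hη0⟩ := Submodule.exists_mem_ne_zero_of_ne_bot (h.range_ne hr1 hr)
  have hηf := h.triv_I hr1 hr hη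
  have hm : ¬ ∀ s, act s (z ⊗ₜ[K] η) = z ⊗ₜ η := by
    intro h1
    apply hz
    intro u
    have h2 := h1 u
    rw [h.act_tmul, hηf] at h2
    exact right_eq hη0 h2
  obtain ⟨s, hs⟩ := h.mrW hr1 hr hη hm (h.tmul_mem_range hr y hη) (fun s => by
      rw [h.act_tmul, hy s, hηf])
  rw [hηf, ← sub_tmul] at hs
  exact ⟨s, right_eq hη0 hs⟩

/-- **(5)(b)** `|W/C_W(U)| = |V/E|` -/
theorem card_W : Nat.card W * Nat.card E = Nat.card (W ⊗[K] W') * Nat.card (CW ρ) := by
  haveI : Finite W := Module.finite_of_finite K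
  haveI : Finite W' := Module.finite_of_finite K
  haveI : Finite (W ⊗[K] W') := finVV
  obtain ⟨η, hη, hη0⟩ := Submodule.exists_mem_ne_zero_of_ne_bot (h.range_ne hr1 hr)
  have hηf := h.triv_I hr1 hr hη
  have h1 := h.flat.mr_card (h.not_nn hr1 hr)
  have hinj : Function.Injective ((TensorProduct.mk K W W').flip η) := by
    intro x x' hx
    exact right_eq hη0 hx
  have hM : LinearMap.range (act r - 1) = LinearMap.range ((TensorProduct.mk K W W').flip η) := by
    apply le_antisymm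
    · have h2 : (⊤ : Submodule K (W ⊗[K] W')).map (act r - 1) ≤
          LinearMap.range ((TensorProduct.mk K W W').flip η) := by
        rw [← TensorProduct.span_tmul_eq_top, Submodule.map_span, Submodule.span_le]
        rintro _ ⟨_, ⟨x, ζ, rfl⟩, rfl⟩
        have h3 : ρ' r ζ - ζ ∈ Submodule.span K {η} :=
          mem_span_of_rank_one (h.trans hr1 hr).le hη hη0 ⟨ζ, rfl⟩
        obtain ⟨k, hk⟩ := Submodule.mem_span_singleton.1 h3
        refine ⟨k • x, ?_⟩
        change (k • x) ⊗ₜ[K] η = act r (x ⊗ₜ ζ) - x ⊗ₜ ζ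
        rw [h.act_tmul, hr, Module.End.one_apply, ← tmul_sub, ← hk, tmul_smul, smul_tmul']
      rwa [Submodule.map_top] at h2
    · rintro _ ⟨z, rfl⟩
      exact h.tmul_mem_range hr z hη
  have hMF : LinearMap.range (act r - 1) ⊓ F = (CW ρ).map ((TensorProduct.mk K W W').flip η) := by
    rw [hM]
    ext m
    constructor
    · rintro ⟨⟨z, rfl⟩, hz⟩
      refine ⟨z, ?_, rfl⟩
      intro u
      have h2 := (h.flat.fixF _).1 hz u
      change act u (z ⊗ₜ η) = z ⊗ₜ η at h2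
      rw [h.act_tmul, hηf] at h2
      exact right_eq hη0 h2
    · rintro ⟨z, hz, rfl⟩
      refine ⟨⟨z, rfl⟩, ?_⟩
      change _ ∈ F
      rw [h.flat.fixF]
      intro u
      change act u (z ⊗ₜ η) = z ⊗ₜ η
      rw [h.act_tmul, hηf, hz u]
  have c1 : Nat.card (LinearMap.range (act r - 1)) = Nat.card W := by
    rw [hM]; exact (Nat.card_congr (LinearEquiv.ofInjective _ hinj).toEquiv).symm
  have c2 : Nat.card (LinearMap.range (act r - 1) ⊓ F : Submodule K _) = Nat.card (CW ρ) := by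
    rw [hMF]; exact (Nat.card_congr (Submodule.equivMapOfInjective _ hinj _).toEquiv).symm
  rw [c1, c2] at h1
  exact h1

end B

theorem CW_ne_top (h : PFlat ρ ρ' act E F) : CW ρ ≠ ⊤ := by
  intro h0
  obtain ⟨u, hu⟩ := h.n
  apply hu
  ext x
  have : x ∈ CW ρ := h0 ▸ Submodule.mem_top
  exact this u

/-- `[W,U] = C_W(U)` is a hyperplane -/
theorem CW_eq (h : PFlat ρ ρ' act E F) {r : U} (hr1 : r ≠ 1) (hr : ρ r = 1) : CW ρ = IW ρ := by
  have h1 : IW ρ ≤ CW ρ := IW_le fun u x => h.comm_mem hr1 hr x u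
  have h2 := Submodule.finrank_lt h.CW_ne_top
  have h3 := h.balance.1
  exact (Submodule.eq_of_le_of_finrank_le h1 (by omega)).symm

/-- `|K| = |V/E|` -/
theorem card_V (h : PFlat ρ ρ' act E F) {r : U} (hr1 : r ≠ 1) (hr : ρ r = 1) :
    Nat.card (W ⊗[K] W') = Nat.card K * Nat.card E := by
  have h1 := h.card_W hr1 hr
  rw [h.CW_eq hr1 hr, Module.natCard_eq_pow_finrank (K := K) (V := W),
    Module.natCard_eq_pow_finrank (K := K) (V := IW ρ), ← h.balance.1, pow_succ] at h1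
  have h2 : 0 < Nat.card K ^ finrank K (IW ρ) := pow_pos Nat.card_pos _
  nlinarith [h1, h2, Nat.eq_of_mul_eq_mul_left h2 (show Nat.card K ^ finrank K (IW ρ) *
    (Nat.card K * Nat.card E) = Nat.card K ^ finrank K (IW ρ) * Nat.card (W ⊗[K] W') by
      rw [← mul_assoc, h1, mul_comm])]

/-- if `ξ ∉ [W',U]` then `C_U(ξ) = C_U(W')` -/
theorem fix_all' (h : PFlat ρ ρ' act E F) {r' : U} (hr1 : r' ≠ 1) (hr : ρ' r' = 1) {x : W} {ξ : W'}
    (hw : x ⊗ₜ[K] ξ ∉ E) {u : U} (hu : ρ' u ξ = ξ) : ρ' u = 1 := by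
  have hs := h.symm
  have hw' : ξ ⊗ₜ[K] x ∉ E.map (TensorProduct.comm K W W').toLinearMap := by
    rintro ⟨v, hv, hv'⟩
    have : v = x ⊗ₜ ξ := (TensorProduct.comm K W W').injective hv'
    exact hw (this ▸ hv)
  have h1 : LinearMap.ker (ρ' u - 1) = ⊤ := by
    refine hs.top_of hw' ?_ ?_
    · rw [← hs.CW_eq hr1 hr]
      intro y hy
      rw [LinearMap.mem_ker]
      exact sub_eq_zero.2 (hy u)
    · rw [LinearMap.mem_ker]
      exact sub_eq_zero.2 hu
  rw [LinearMap.ker_eq_top] at h1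
  exact sub_eq_zero.1 h1

/-- **(5)(c)**, the full transvection group: every `a ∈ H = [W,U] = C_W(U)` and every `x ∉ H` has
`u ∈ C_U(W')` with `x^u = x + a`. -/
theorem full (h : PFlat ρ ρ' act E F) {r r' : U} (hr1 : r ≠ 1) (hr : ρ r = 1) (hr1' : r' ≠ 1)
    (hr' : ρ' r' = 1) {x a : W} (hx : x ∉ CW ρ) (ha : a ∈ CW ρ) :
    ∃ u, ρ' u = 1 ∧ ρ u x = x + a := by
  haveI : Finite (W ⊗[K] W') := finVV
  obtain ⟨x₀, ξ₀, hw⟩ := exists_pure h.flat.ne_top
  have hC := h.CW_eq hr1 hr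
  have hx₀ := h.not_mem_IW hw
  -- `x = k x₀ + c`, `c ∈ CW`, `k ≠ 0`
  have h1 : IW ρ ⊔ Submodule.span K {x₀} = ⊤ :=
    h.top_of hw le_sup_left (Submodule.mem_sup_right (Submodule.mem_span_singleton_self _))
  have h2 : x ∈ IW ρ ⊔ Submodule.span K {x₀} := h1 ▸ Submodule.mem_top
  obtain ⟨c, hc, k, hk, rfl⟩ := Submodule.mem_sup.1 h2
  obtain ⟨k, rfl⟩ := Submodule.mem_span_singleton.1 hk
  have hk0 : k ≠ 0 := by
    rintro rfl
    apply hx
    rw [zero_smul, add_zero, hC]; exact hc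
  obtain ⟨u, hu1, hu2⟩ := h.reg hw (hC ▸ (CW ρ).smul_mem k⁻¹ ha) (IW ρ').zero_mem
  rw [add_zero] at hu2
  refine ⟨u, h.fix_all' hr1' hr' hw hu2, ?_⟩
  rw [← hC] at hc
  rw [map_add, hc u, map_smul, hu1, smul_add, smul_smul, mul_inv_cancel₀ hk0, one_smul, add_assoc]

end PFlat

end Cfsg.Agent.Omega.NO1.Comp

end

section


/-!
# THEOREM COMP (bb OMEGA #17539), step (4): no swap

`SFlat`: a `KFlat` on `(P ⊗ P) ⊗ X`, `U₁` of index 2 acting as `p ⊗ p ⊗ χ`, `s ∉ U₁` acting as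
`swap ⊗ χ s`.  `SFlat.false`: impossible.
-/

set_option linter.unusedSectionVars false
set_option linter.style.haveILetI false

namespace Cfsg.Agent.Omega.NO1.Comp

open Module TensorProduct

variable {K : Type*} [Field K] {P X : Type*} [AddCommGroup P] [Module K P] [AddCommGroup X]
  [Module K X] {U : Type*} [Group U]

/-- the input of step (4) -/
structure SFlat {U₁ : Subgroup U} (p : U₁ →* Module.End K P) (χ : U →* Module.End K X) (s : U)
    (act : U →* Module.End K ((P ⊗[K] P) ⊗[K] X)) (E F : Submodule K ((P ⊗[K] P) ⊗[K] X)) :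
    Prop where
  flat : KFlat act E F
  act_eq : ∀ u : U₁, act u = TensorProduct.map (TensorProduct.map (p u) (p u)) (χ u)
  idx : ∀ u, u ∉ U₁ → s * u ∈ U₁
  act_s : act s = TensorProduct.map (TensorProduct.comm K P P).toLinearMap (χ s)
  d : 2 ≤ finrank K P
  d3 : Nat.card K = 2 → 3 ≤ finrank K P
  nt : Nontrivial X

variable {U₁ : Subgroup U} {p : U₁ →* Module.End K P} {χ : U →* Module.End K X} {s : U}
  {act : U →* Module.End K ((P ⊗[K] P) ⊗[K] X)} {E F : Submodule K ((P ⊗[K] P) ⊗[K] X)}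

namespace SFlat

/-- the action of `U₁` on `P ⊗ P` -/
noncomputable abbrev tau (p : U₁ →* Module.End K P) (u : U₁) : Module.End K (P ⊗[K] P) :=
  TensorProduct.map (p u) (p u)

/-- the swap -/
noncomputable abbrev sw (K P : Type*) [Field K] [AddCommGroup P] [Module K P] :
    Module.End K (P ⊗[K] P) := (TensorProduct.comm K P P).toLinearMap

theorem sw_tmul (x y : P) : sw K P (x ⊗ₜ y) = y ⊗ₜ x := rfl

theorem tau_tmul (u : U₁) (x y : P) : tau p u (x ⊗ₜ y) = p u x ⊗ₜ p u y := rfl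

theorem act_tmul (h : SFlat p χ s act E F) (u : U₁) (t : P ⊗[K] P) (ζ : X) :
    act u (t ⊗ₜ ζ) = tau p u t ⊗ₜ χ u ζ := by
  rw [h.act_eq]; rfl

theorem s_tmul (h : SFlat p χ s act E F) (t : P ⊗[K] P) (ζ : X) :
    act s (t ⊗ₜ ζ) = sw K P t ⊗ₜ χ s ζ := by
  rw [h.act_s]; rfl

theorem p_sq (h : SFlat p χ s act E F) (u : U₁) (x : P) : p u (p u x) = x := by
  have h1 : u * u = 1 := Subtype.ext (h.flat.sq u)
  rw [← Module.End.mul_apply, ← map_mul, h1, map_one]; rfl

theorem p_comm (h : SFlat p χ s act E F) (u v : U₁) (x : P) : p u (p v x) = p v (p u x) := by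
  have h1 : u * v = v * u := Subtype.ext (h.flat.comm u v)
  rw [← Module.End.mul_apply, ← map_mul, h1, map_mul]; rfl

theorem isPGroup₁ (h : SFlat p χ s act E F) : IsPGroup 2 U₁ := by
  intro u
  exact ⟨1, by rw [pow_one, pow_two]; exact Subtype.ext (h.flat.sq u)⟩

variable [Finite K] [CharP K 2] [Module.Finite K P] [Module.Finite K X]

theorem nontP (h : SFlat p χ s act E F) : Nontrivial P := by
  have := h.d
  exact Module.nontrivial_of_finrank_pos (R := K) (by omega)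

theorem finV : Finite ((P ⊗[K] P) ⊗[K] X) := Module.finite_of_finite K

/-- (MR) on `t ⊗ ξ`, `ξ ∈ [X, r]` fixed, `r ∈ U₂` -/
theorem mrt (h : SFlat p χ s act E F) {r : U₁} (hr : p r = 1) (hN : ¬ KFlat.Nn act E (r : U))
    {ξ : X} (hξ : ξ ∈ LinearMap.range (χ r - 1)) (hξ0 : ξ ≠ 0) (hξf : ∀ u, χ u ξ = ξ)
    {t t' : P ⊗[K] P} (ht : ¬ (sw K P t = t ∧ ∀ u, tau p u t = t)) (hs' : sw K P t' = t')
    (hu' : ∀ u, tau p u t' = t') :
    ∃ u, tau p u t - t = t' ∨ sw K P (tau p u t) - t = t' := by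
  have hmem : ∀ t : P ⊗[K] P, t ⊗ₜ ξ ∈ LinearMap.range (act (r : U) - 1) := by
    intro t
    obtain ⟨ζ, rfl⟩ := hξ
    refine ⟨t ⊗ₜ ζ, ?_⟩
    change act r (t ⊗ₜ ζ) - t ⊗ₜ ζ = t ⊗ₜ (χ r ζ - ζ)
    rw [h.act_tmul, tmul_sub]
    have : tau p r = 1 := by
      simp only [tau, hr]; exact TensorProduct.map_one
    rw [this]; rfl
  have hF : ∀ t : P ⊗[K] P, t ⊗ₜ ξ ∈ F ↔ (sw K P t = t ∧ ∀ u, tau p u t = t) := by
    intro t
    rw [h.flat.fixF]
    constructor
    · intro h1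
      refine ⟨?_, fun u => ?_⟩
      · have := h1 s
        rw [h.s_tmul, hξf] at this
        exact PFlat.right_eq hξ0 this
      · have := h1 u
        rw [h.act_tmul, hξf] at this
        exact PFlat.right_eq hξ0 this
    · rintro ⟨h1, h2⟩ u
      by_cases hu : u ∈ U₁
      · have := h.act_tmul ⟨u, hu⟩ t ξ
        rw [hξf, h2] at this
        exact this
      · have h3 := h.idx u hu
        have h4 : u = s * (s * u) := by rw [← mul_assoc, h.flat.sq, one_mul]
        have h5 := h.act_tmul ⟨s * u, h3⟩ t ξ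
        rw [hξf, h2] at h5
        rw [h4, map_mul, Module.End.mul_apply, h5, h.s_tmul, hξf, h1]
  obtain ⟨v, hv⟩ := h.flat.mr (hmem t) (by rw [hF]; exact ht) (hmem t') ((hF t').2 ⟨hs', hu'⟩) hN
  by_cases hu : v ∈ U₁
  · refine ⟨⟨v, hu⟩, Or.inl ?_⟩
    have := h.act_tmul ⟨v, hu⟩ t ξ
    rw [hξf] at this
    change act v (t ⊗ₜ ξ) = _ at this
    rw [this, ← sub_tmul] at hv
    exact PFlat.right_eq hξ0 hv
  · have h3 := h.idx v hu
    refine ⟨⟨s * v, h3⟩, Or.inr ?_⟩
    have h4 : v = s * (s * v) := by rw [← mul_assoc, h.flat.sq, one_mul]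
    have h5 := h.act_tmul ⟨s * v, h3⟩ t ξ
    rw [hξf] at h5
    change act (s * v) (t ⊗ₜ ξ) = _ at h5
    rw [h4, map_mul, Module.End.mul_apply, h5, h.s_tmul, hξf, ← sub_tmul] at hv
    exact PFlat.right_eq hξ0 hv

theorem mrt_mem (h : SFlat p χ s act E F) {r : U₁} (hr : p r = 1)
    {ξ : X} (hξ : ξ ∈ LinearMap.range (χ r - 1)) (hξ0 : ξ ≠ 0) (hξf : ∀ u, χ u ξ = ξ)
    (t : P ⊗[K] P) (u : U₁) :
    sw K P (tau p u t - t) = tau p u t - t ∧ ∀ v, tau p v (tau p u t - t) = tau p u t - t := by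
  have hmem : ∀ t : P ⊗[K] P, t ⊗ₜ ξ ∈ LinearMap.range (act (r : U) - 1) := by
    intro t
    obtain ⟨ζ, rfl⟩ := hξ
    refine ⟨t ⊗ₜ ζ, ?_⟩
    change act r (t ⊗ₜ ζ) - t ⊗ₜ ζ = t ⊗ₜ (χ r ζ - ζ)
    rw [h.act_tmul, tmul_sub]
    have : tau p r = 1 := by
      simp only [tau, hr]; exact TensorProduct.map_one
    rw [this]; rfl
  have h1 := (h.flat.mr_mem (hmem t) u).2
  rw [h.act_tmul, hξf, ← sub_tmul] at h1
  have h2 := (h.flat.fixF _).1 h1
  refine ⟨?_, fun v => ?_⟩
  · have := h2 s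
    rw [h.s_tmul, hξf] at this
    exact PFlat.right_eq hξ0 this
  · have := h2 v
    rw [h.act_tmul, hξf] at this
    exact PFlat.right_eq hξ0 this

/-- **(4)(a)** -/
theorem nn_of (h : SFlat p χ s act E F) {r : U₁} (hr : p r = 1) : KFlat.Nn act E (r : U) := by
  haveI := h.nontP
  haveI : Finite P := Module.finite_of_finite K
  haveI : Finite X := Module.finite_of_finite K
  by_contra hN
  have hX : LinearMap.range (χ r - 1) ≠ ⊥ := by
    intro h0
    rw [LinearMap.range_eq_bot] at h0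
    apply hN
    have h1 : act (r : U) = 1 := by
      rw [h.act_eq, hr, sub_eq_zero.1 h0]
      rw [show TensorProduct.map (1 : Module.End K P) 1 = 1 from TensorProduct.map_one]
      exact TensorProduct.map_one
    intro e _
    rw [h1]; rfl
  obtain ⟨ξ, hξ, hξ0, hξf⟩ := exists_fixed_mem h.flat.isPGroup χ (LinearMap.range (χ r - 1))
    (by
      rintro u _ ⟨ζ, rfl⟩
      refine ⟨χ u ζ, ?_⟩
      change χ r (χ u ζ) - χ u ζ = χ u (χ r ζ - ζ)
      rw [map_sub, ← Module.End.mul_apply, ← map_mul, h.flat.comm, map_mul, Module.End.mul_apply])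
    hX
  by_cases htriv : ∀ u, p u = 1
  · obtain ⟨v, -, hv0, v', -, hvv'⟩ := PFlat.exists_indep (K := K) (S := (⊤ : Submodule K P))
      (by rw [finrank_top]; exact h.d)
    obtain ⟨f, hf1, hf0⟩ := exists_dual_one (K := K) hvv'
    have hfv : f v = 0 := hf0 v (Submodule.mem_span_singleton_self v)
    have htau : ∀ u t, tau p u t = t := by
      intro u t
      have : tau p u = 1 := by simp only [tau, htriv]; exact TensorProduct.map_one
      rw [this]; rfl
    obtain ⟨u, hu | hu⟩ := h.mrt hr hN hξ hξ0 hξf (t := v ⊗ₜ v') (t' := v ⊗ₜ v) (by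
      rintro ⟨h1, -⟩
      rw [sw_tmul] at h1
      have := congrArg (cL P f) h1
      rw [cL_tmul, cL_tmul, hf1, hfv, one_smul, zero_smul] at this
      exact hv0 this) rfl (fun u => htau u _)
    · rw [htau, sub_self] at hu
      exact tmul_ne_zero hv0 hv0 hu.symm
    · rw [htau, sw_tmul] at hu
      have := congrArg (cL P f) hu
      rw [map_sub, cL_tmul, cL_tmul, cL_tmul, hf1, hfv, one_smul, zero_smul, zero_smul,
        sub_zero] at this
      exact hv0 this
  · push Not at htriv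
    obtain ⟨u₀, hu₀⟩ := htriv
    obtain ⟨v, hv⟩ : ∃ v, p u₀ v ≠ v := by
      by_contra hc; push Not at hc; exact hu₀ (LinearMap.ext hc)
    obtain ⟨v₀, hv₀0, hv₀⟩ := exists_fixed h.isPGroup₁ p
    have hvv₀ : v ∉ Submodule.span K {v₀} := by
      intro hc
      obtain ⟨k, rfl⟩ := Submodule.mem_span_singleton.1 hc
      exact hv (by rw [map_smul, hv₀])
    obtain ⟨f, hf1, hf0⟩ := exists_dual_one (K := K) hvv₀
    have hfv₀ : f v₀ = 0 := hf0 v₀ (Submodule.mem_span_singleton_self _)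
    -- `d ∈ K v₀`
    have hd : ∀ u : U₁, p u v - v ∈ Submodule.span K {v₀} := by
      intro u
      by_cases hu0 : p u v - v = 0
      · rw [hu0]; exact Submodule.zero_mem _
      have h1 := (h.mrt_mem hr hξ hξ0 hξf (v ⊗ₜ v₀) u).1
      rw [tau_tmul, hv₀, ← sub_tmul, sw_tmul] at h1
      exact PFlat.mem_span_of_tmul hv₀0 h1.symm
    have hfd : ∀ u : U₁, f (p u v) = 1 := by
      intro u
      have h1 := hf0 _ (hd u)
      rw [map_sub, hf1, sub_eq_zero] at h1
      exact h1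
    have hd0 : p u₀ v - v ≠ 0 := sub_ne_zero.2 hv
    have hfix := h.mrt_mem hr hξ hξ0 hξf (v ⊗ₜ v₀) u₀
    have e1 : tau p u₀ (v ⊗ₜ v₀) - v ⊗ₜ v₀ = (p u₀ v - v) ⊗ₜ v₀ := by
      rw [tau_tmul, hv₀, ← sub_tmul]
    rw [e1] at hfix
    obtain ⟨u, hu⟩ := h.mrt hr hN hξ hξ0 hξf (t := v ⊗ₜ v) (t' := (p u₀ v - v) ⊗ₜ v₀) (by
      rintro ⟨-, h1⟩
      have h2 := h1 u₀
      rw [tau_tmul] at h2
      have h3 := congrArg (cL P f) h2
      rw [cL_tmul, cL_tmul, hfd, hf1, one_smul, one_smul] at h3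
      exact hv h3) hfix.1 hfix.2
    have hu' : p u v ⊗ₜ p u v - v ⊗ₜ v = (p u₀ v - v) ⊗ₜ[K] v₀ := by
      rcases hu with hu | hu
      · exact hu
      · exact hu
    have h3 := congrArg (cL P f) hu'
    rw [map_sub, cL_tmul, cL_tmul, cL_tmul, hfd, hf1, hf0 _ (hd u₀), one_smul, one_smul, zero_smul,
      sub_eq_zero] at h3
    rw [h3, sub_self] at hu'
    exact tmul_ne_zero hd0 hv₀0 hu'.symm

/-! ### (b) -/

/-- `[[v ⊗ v', t], t']` is swap-symmetric -/
theorem symm_comm (h : SFlat p χ s act E F) (t t' : U₁) (a : P ⊗[K] P) :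
    sw K P (tau p t' (tau p t a - a) - (tau p t a - a)) =
      tau p t' (tau p t a - a) - (tau p t a - a) := by
  haveI := h.nt
  haveI : Finite X := Module.finite_of_finite K
  obtain ⟨z, hz0, hz⟩ := exists_fixed h.flat.isPGroup χ
  have h1 := h.flat.EF t' _ (h.flat.VE t (a ⊗ₜ z))
  rw [h.act_tmul, hz, ← sub_tmul, h.act_tmul, hz, ← sub_tmul] at h1
  have h2 := (h.flat.fixF _).1 h1 s
  rw [h.s_tmul, hz] at h2
  exact PFlat.right_eq hz0 h2

/-- for `t` fixing `v`, `y = [v, t₁] ≠ 0`: `[v', t] ∈ ⟨v, y⟩` -/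
theorem q1_aux (h : SFlat p χ s act E F) {t t₁ : U₁} {v : P} (hv : p t v = v)
    (hy : p t₁ v ≠ v) (v' : P) : ∃ a b : K, p t v' - v' = a • v + b • (p t₁ v - v) := by
  set y := p t₁ v - v with hyd
  have hy0 : y ≠ 0 := sub_ne_zero.2 hy
  have hty : p t₁ y = y := by
    rw [hyd, map_sub, h.p_sq, sub_eq_add2 K, sub_eq_add2 K, add_comm]
  have htv : p t₁ v = v + y := by rw [hyd]; abel
  have hvy : v ∉ Submodule.span K {y} := by
    intro hc
    obtain ⟨k, hk⟩ := Submodule.mem_span_singleton.1 hc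
    exact hy (by rw [← hk, map_smul, hty])
  have hyv : y ∉ Submodule.span K {v} := by
    intro hc
    obtain ⟨k, hk⟩ := Submodule.mem_span_singleton.1 hc
    have hk0 : k ≠ 0 := by
      rintro rfl; rw [zero_smul] at hk; exact hy0 hk.symm
    apply hvy
    rw [Submodule.mem_span_singleton]
    exact ⟨k⁻¹, by rw [← hk, smul_smul, inv_mul_cancel₀ hk0, one_smul]⟩
  obtain ⟨f, hf1, hf0⟩ := exists_dual_one (K := K) hvy
  obtain ⟨g, hg1, hg0⟩ := exists_dual_one (K := K) hyv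
  have hfy : f y = 0 := hf0 y (Submodule.mem_span_singleton_self y)
  have hgv : g v = 0 := hg0 v (Submodule.mem_span_singleton_self v)
  set w := p t v' - v' with hw
  set B := p t₁ w - w with hB
  have hBw : p t₁ w = w + B := by rw [hB]; abel
  have hBf : p t₁ B = B := by
    rw [hB, map_sub, h.p_sq, sub_eq_add2 K, sub_eq_add2 K, add_comm]
  have h1 := h.symm_comm t t₁ (v ⊗ₜ v')
  have e1 : tau p t (v ⊗ₜ v') - v ⊗ₜ v' = v ⊗ₜ w := by
    rw [tau_tmul, hv, ← tmul_sub]
  have e2 : tau p t₁ (v ⊗ₜ[K] w) - v ⊗ₜ w = v ⊗ₜ B + y ⊗ₜ (w + B) := by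
    rw [tau_tmul, htv, hBw, add_tmul, tmul_add v]; abel
  rw [e1, e2, map_add, sw_tmul, sw_tmul] at h1
  have h2 := congrArg (cL P f) h1
  have h3 := congrArg (cL P g) h1
  simp only [map_add, cL_tmul, hf1, hfy, one_smul, zero_smul, add_zero] at h2
  simp only [map_add, cL_tmul, hg1, hgv, one_smul, zero_smul, zero_add] at h3
  -- h2 : f B • v + (f w + f B) • y = B
  have h4 : f B = 0 := by
    have h5 := congrArg (p t₁) h2
    rw [hBf, map_add, map_smul, map_smul, hty, htv, smul_add] at h5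
    have h6 : f B • y = 0 := by
      have h7 := h5.trans h2.symm
      have : f B • v + f B • y + (f w + f B) • y = f B • v + (f w + f B) • y + f B • y := by abel
      rw [this, add_eq_left] at h7
      exact h7
    exact (smul_eq_zero.1 h6).resolve_right hy0
  -- `w = (w + B) - B`
  refine ⟨g B, (g w + g B) - (f w + f B), ?_⟩
  rw [h4, zero_smul, zero_add] at h2
  have h5 : w = (g B • v + (g w + g B) • y) - (f w + 0) • y := by rw [h3, h2]; abel
  refine h5.trans ?_
  rw [h4, sub_smul]; abel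

/-- **Q1** -/
theorem q1 (h : SFlat p χ s act E F) {t t₁ t₂ : U₁} {v : P} (hv : p t v = v) (ht : p t ≠ 1)
    (h1 : p t₁ v ≠ v) : p t₂ v - v ∈ Submodule.span K {p t₁ v - v} := by
  by_contra hy
  have hy₁0 : p t₁ v - v ≠ 0 := sub_ne_zero.2 h1
  have h2 : p t₂ v ≠ v := by
    intro h2; apply hy; rw [h2, sub_self]; exact Submodule.zero_mem _
  have hv₁ : p t₁ (p t₁ v - v) = p t₁ v - v := by
    rw [map_sub, h.p_sq, sub_eq_add2 K, sub_eq_add2 K, add_comm]
  have hv₂ : p t₂ (p t₂ v - v) = p t₂ v - v := by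
    rw [map_sub, h.p_sq, sub_eq_add2 K, sub_eq_add2 K, add_comm]
  have hvy : v ∉ Submodule.span K {p t₁ v - v} := by
    intro hc
    obtain ⟨k, hk⟩ := Submodule.mem_span_singleton.1 hc
    exact h1 (by
      have := congrArg (p t₁) hk
      rw [map_smul, hv₁, hk] at this
      exact this.symm)
  have key : ∀ v', ∃ a : K, p t v' - v' = a • v := by
    intro v'
    obtain ⟨a, b, e1⟩ := h.q1_aux hv h1 v'
    obtain ⟨a₂, b₂, e2⟩ := h.q1_aux hv h2 v'
    have hc : p t₂ (p t₁ v - v) - (p t₁ v - v) = p t₁ (p t₂ v - v) - (p t₂ v - v) := by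
      rw [map_sub, map_sub, h.p_comm t₁ t₂]; abel
    set y₁ := p t₁ v - v with hy₁
    set y₂ := p t₂ v - v with hy₂
    set c := p t₂ y₁ - y₁ with hc'
    have hv1 : p t₁ v = v + y₁ := by rw [hy₁]; abel
    have hv2 : p t₂ v = v + y₂ := by rw [hy₂]; abel
    clear_value c y₁ y₂
    have e12 : a • v + b • y₁ = a₂ • v + b₂ • y₂ := e1.symm.trans e2
    have e3 : a • y₁ = a₂ • y₁ + b₂ • c := by
      have h3 := congrArg (fun x => p t₁ x - x) e12
      simp only [map_add, map_smul, hv₁, hv1] at h3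
      have h4 : a • (v + y₁) + b • y₁ - (a • v + b • y₁) = a • y₁ := by module
      have h5 : a₂ • (v + y₁) + b₂ • p t₁ y₂ - (a₂ • v + b₂ • y₂) = a₂ • y₁ + b₂ • c := by
        rw [hc]; module
      rw [h4, h5] at h3; exact h3
    have e4 : a • y₂ + b • c = a₂ • y₂ := by
      have h3 := congrArg (fun x => p t₂ x - x) e12
      simp only [map_add, map_smul, hv₂, hv2] at h3
      have h4 : a • (v + y₂) + b • p t₂ y₁ - (a • v + b • y₁) = a • y₂ + b • c := by
        rw [hc']; module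
      have h5 : a₂ • (v + y₂) + b₂ • y₂ - (a₂ • v + b₂ • y₂) = a₂ • y₂ := by module
      rw [h4, h5] at h3; exact h3
    have haa : a = a₂ := by
      by_contra hne
      have hne' : a - a₂ ≠ 0 := sub_ne_zero.2 hne
      have e5 : (a - a₂) • y₁ = b₂ • c := by rw [sub_smul, e3]; abel
      have e6 : (a - a₂) • y₂ = -(b • c) := by rw [sub_smul, ← e4]; abel
      have hb₂ : b₂ ≠ 0 := by
        rintro rfl
        rw [zero_smul, smul_eq_zero] at e5
        exact e5.elim hne' hy₁0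
      apply hy
      rw [Submodule.mem_span_singleton]
      refine ⟨-(b * b₂⁻¹), ?_⟩
      have e7 : c = (b₂⁻¹ * (a - a₂)) • y₁ := by
        rw [← smul_smul, e5, smul_smul, inv_mul_cancel₀ hb₂, one_smul]
      have e8 : y₂ = (a - a₂)⁻¹ • -(b • c) := by
        rw [← e6, smul_smul, inv_mul_cancel₀ hne', one_smul]
      have e9 : (a - a₂)⁻¹ • -(b • (b₂⁻¹ * (a - a₂)) • y₁) =
          ((a - a₂)⁻¹ * (a - a₂)) • (-(b * b₂⁻¹)) • y₁ := by module
      rw [e8, e7, e9, inv_mul_cancel₀ hne', one_smul]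
    subst haa
    have e9 : b • y₁ = b₂ • y₂ := add_left_cancel e12
    have hb₂ : b₂ = 0 := by
      by_contra hb₂
      apply hy
      rw [Submodule.mem_span_singleton]
      exact ⟨b₂⁻¹ * b, by rw [← smul_smul, e9, smul_smul, inv_mul_cancel₀ hb₂, one_smul]⟩
    rw [hb₂, zero_smul, add_zero] at e2
    exact ⟨a, e2⟩
  obtain ⟨v', hv'⟩ : ∃ v', p t v' ≠ v' := by
    by_contra hc; push Not at hc; exact ht (LinearMap.ext hc)
  obtain ⟨a, ha⟩ := key v'
  obtain ⟨a', ha'⟩ := key (p t₁ v' - v')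
  have ha0 : a ≠ 0 := by
    rintro rfl
    rw [zero_smul] at ha
    exact hv' (sub_eq_zero.1 ha)
  have e1 : a • (p t₁ v - v) = a' • v := by
    rw [← ha', smul_sub, ← map_smul, ← ha, map_sub, map_sub, h.p_comm t t₁]; abel
  have ha'0 : a' ≠ 0 := by
    rintro rfl
    rw [zero_smul, smul_eq_zero] at e1
    exact e1.elim ha0 hy₁0
  apply hvy
  rw [Submodule.mem_span_singleton]
  exact ⟨a'⁻¹ * a, by rw [← smul_smul, e1, smul_smul, inv_mul_cancel₀ ha'0, one_smul]⟩

/-- **(4)(b)** -/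
theorem card_range (h : SFlat p χ s act E F) :
    Nat.card (Set.range p) ≤ Nat.card K ^ (finrank K P - 1) := by
  classical
  haveI := h.nontP
  haveI : Finite P := Module.finite_of_finite K
  have hq : 0 < Nat.card K := Nat.card_pos
  have hsq : ∀ (t t' : U₁) (x : P), p t x = p t' x → p (t' * t) x = x := by
    intro t t' x hx
    rw [map_mul, Module.End.mul_apply, hx, h.p_sq]
  have heq : ∀ (t t' : U₁), p (t' * t) = 1 → p t = p t' := by
    intro t t' h1
    rw [map_mul] at h1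
    ext x
    have h2 := congrArg (p t') (LinearMap.congr_fun h1 x)
    rw [Module.End.mul_apply, h.p_sq] at h2
    exact h2
  by_cases hA : ∃ v, ∀ t, p t v = v → p t = 1
  · obtain ⟨v, hv⟩ := hA
    have h1 : Nat.card (Set.range p) ≤ Nat.card (IW p) := by
      refine Nat.card_le_card_of_injective (fun r : Set.range p => (⟨r.1 v - v, by
        obtain ⟨t, ht⟩ := r.2
        rw [← ht]; exact mem_IW p t v⟩ : IW p)) ?_
      rintro ⟨_, t, rfl⟩ ⟨_, t', rfl⟩ he
      have h2 : p t v = p t' v := sub_left_injective (congrArg Subtype.val he)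
      exact Subtype.ext (heq t t' (hv _ (hsq t t' v h2)))
    refine h1.trans ?_
    rw [Module.natCard_eq_pow_finrank (K := K) (V := IW p)]
    refine Nat.pow_le_pow_right hq ?_
    have := IW_lt h.isPGroup₁ p
    omega
  · push Not at hA
    obtain ⟨v₀, hv₀0, hv₀⟩ := exists_fixed h.isPGroup₁ p
    obtain ⟨H, hH⟩ := Submodule.exists_isCompl (Submodule.span K {v₀})
    have hHd : finrank K H = finrank K P - 1 := by
      have h1 := Submodule.finrank_add_eq_of_isCompl hH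
      rw [finrank_span_singleton hv₀0] at h1
      omega
    let c := Module.finBasis K H
    -- a line containing all `[v, U₁]`
    have hL : ∀ v, ∃ y : P, ∀ t, p t v - v ∈ Submodule.span K {y} := by
      intro v
      obtain ⟨t, ht1, ht2⟩ := hA v
      by_cases hc : ∀ t₁, p t₁ v = v
      · exact ⟨0, fun t => by rw [hc, sub_self]; exact Submodule.zero_mem _⟩
      · push Not at hc
        obtain ⟨t₁, h1⟩ := hc
        exact ⟨p t₁ v - v, fun t₂ => h.q1 ht1 ht2 h1⟩
    choose y hy using hL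
    have h1 : Nat.card (Set.range p) ≤
        Nat.card (∀ i : Fin (finrank K H), (Submodule.span K {y (c i : P)} : Submodule K P)) := by
      refine Nat.card_le_card_of_injective (fun (r : Set.range p)
        (i : Fin (finrank K H)) => (⟨r.1 (c i : P) - (c i : P), by
        obtain ⟨t, ht⟩ := r.2
        rw [← ht]; exact hy _ t⟩ : (Submodule.span K {y (c i : P)} : Submodule K P))) ?_
      rintro ⟨_, t, rfl⟩ ⟨_, t', rfl⟩ he
      have h2 : ∀ i, p t (c i : P) = p t' (c i : P) := fun i =>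
        sub_left_injective (congrArg Subtype.val (congrFun he i))
      apply Subtype.ext
      change p t = p t'
      have h3 : LinearMap.eqLocus (p t) (p t') = ⊤ := by
        rw [eq_top_iff, ← hH.sup_eq_top, sup_le_iff]
        constructor
        · rw [Submodule.span_le, Set.singleton_subset_iff]
          change p t v₀ = p t' v₀
          rw [hv₀, hv₀]
        · have h4 : (p t).domRestrict H = (p t').domRestrict H := c.ext fun i => h2 i
          intro x hx
          exact LinearMap.congr_fun h4 ⟨x, hx⟩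
      ext x
      have : x ∈ LinearMap.eqLocus (p t) (p t') := h3 ▸ Submodule.mem_top
      exact this
    refine h1.trans ?_
    rw [Nat.card_pi, ← hHd]
    refine (Finset.prod_le_pow_card _ _ (Nat.card K) fun i _ => ?_).trans ?_
    · rw [Module.natCard_eq_pow_finrank (K := K)]
      have h5 : finrank K (Submodule.span K {y (c i : P)}) ≤ 1 := by
        have := finrank_span_le_card (R := K) ({y (c i : P)} : Set P)
        simpa using this
      calc Nat.card K ^ finrank K (Submodule.span K {y (c i : P)}) ≤ Nat.card K ^ 1 :=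
            Nat.pow_le_pow_right hq h5
        _ = Nat.card K := pow_one _
    · rw [Finset.card_univ, Fintype.card_fin]

/-- `e ≤ 2 |U₁/U₂|` -/
theorem card_E (h : SFlat p χ s act E F) :
    Nat.card E ≤ (Nat.card (Set.range p) * 2) * Nat.card F := by
  classical
  haveI : Finite ((P ⊗[K] P) ⊗[K] X) := finV
  haveI : Finite P := Module.finite_of_finite K
  haveI : Finite (P →ₗ[K] P) := Module.finite_of_finite K
  haveI : Finite (Set.range p) := Set.finite_coe_iff.2 (Set.toFinite _)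
  obtain ⟨w, hw⟩ : ∃ w, w ∉ E := by
    by_contra hc; push Not at hc
    exact h.flat.ne_top (by rw [eq_top_iff]; intro x _; exact hc x)
  let g : U → Set.range p × Bool := fun u =>
    if hu : u ∈ U₁ then (⟨p ⟨u, hu⟩, _, rfl⟩, true)
      else (⟨p ⟨s * u, h.idx u hu⟩, _, rfl⟩, false)
  have hg : ∀ u u', g u = g u' → act u w - act u' w ∈ F := by
    intro u u' he
    have hn : KFlat.Nn act E (u' * u) := by
      by_cases hu : u ∈ U₁
      · by_cases hu' : u' ∈ U₁
        · simp only [g, hu, hu', dite_true] at he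
          have h1 : p ⟨u, hu⟩ = p ⟨u', hu'⟩ := congrArg (fun x => x.1.1) he
          have h2 : p (⟨u', hu'⟩ * ⟨u, hu⟩) = 1 := by
            rw [map_mul, h1]
            ext x; exact h.p_sq _ x
          exact h.nn_of h2
        · simp only [g, hu, hu', dite_true, dite_false] at he
          exact absurd (congrArg (fun x => x.2) he) (by simp)
      · by_cases hu' : u' ∈ U₁
        · simp only [g, hu, hu', dite_true, dite_false] at he
          exact absurd (congrArg (fun x => x.2) he) (by simp)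
        · simp only [g, hu, hu', dite_false] at he
          have h1 : p ⟨s * u, h.idx u hu⟩ = p ⟨s * u', h.idx u' hu'⟩ :=
            congrArg (fun x => x.1.1) he
          have h2 : p (⟨s * u', h.idx u' hu'⟩ * ⟨s * u, h.idx u hu⟩) = 1 := by
            rw [map_mul, h1]
            ext x; exact h.p_sq _ x
          have h3 := h.nn_of h2
          have h4 : ((⟨s * u', h.idx u' hu'⟩ * ⟨s * u, h.idx u hu⟩ : U₁) : U) = u' * u := by
            change (s * u') * (s * u) = u' * u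
            rw [h.flat.comm s u', mul_assoc, ← mul_assoc s s, h.flat.sq, one_mul]
          rw [h4] at h3
          exact h3
    have h1 := (h.flat.nn_iff hw _).1 hn
    have h2 : act u w - act u' w = act (u' * u) w - w := by
      have h3 := (h.flat.fixF _).1 h1 u'
      rw [map_sub, ← Module.End.mul_apply, ← map_mul, ← mul_assoc, h.flat.sq, one_mul] at h3
      exact h3
    rw [h2]; exact h1
  choose! v hv using fun (e : E) => h.flat.reg w hw e.1 e.2
  have hv' : ∀ e : E, e.1 - (act (Function.invFun g (g (v e))) w - w) ∈ F := by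
    intro e
    have h1 : g (Function.invFun g (g (v e))) = g (v e) := Function.invFun_eq ⟨_, rfl⟩
    have h2 := F.sub_mem (hv e) (hg _ _ h1)
    have h3 : e.1 - (act (v e) w - w) - (act (Function.invFun g (g (v e))) w - act (v e) w) =
        e.1 - (act (Function.invFun g (g (v e))) w - w) := by abel
    rwa [h3] at h2
  have h1 : Nat.card E ≤ Nat.card ((Set.range p × Bool) × F) := by
    refine Nat.card_le_card_of_injective (fun e : E => (g (v e), (⟨_, hv' e⟩ : F))) ?_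
    intro e e' he
    simp only [Prod.mk.injEq, Subtype.mk.injEq] at he
    obtain ⟨h2, h3⟩ := he
    rw [h2] at h3
    exact Subtype.ext (sub_left_injective h3)
  rw [Nat.card_prod, Nat.card_prod, Nat.card_eq_fintype_card (α := Bool), Fintype.card_bool] at h1
  exact h1

/-- rank of `swap - 1` -/
theorem rank_s (h : SFlat p χ s act E F) :
    2 * finrank K P ≤ finrank K (LinearMap.range (act s - 1)) + 3 := by
  haveI := h.nt
  haveI : Finite X := Module.finite_of_finite K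
  obtain ⟨z, hz0, hz⟩ := exists_fixed h.flat.isPGroup χ
  obtain ⟨b₁, -, hb₁, b₂, -, hb₂⟩ := PFlat.exists_indep (K := K) (S := (⊤ : Submodule K P))
      (by rw [finrank_top]; exact h.d)
  have hb₁' : b₁ ∉ Submodule.span K {b₂} := by
    intro hc
    obtain ⟨k, hk⟩ := Submodule.mem_span_singleton.1 hc
    have hk0 : k ≠ 0 := by
      rintro rfl; rw [zero_smul] at hk; exact hb₁ hk.symm
    apply hb₂
    rw [Submodule.mem_span_singleton]
    exact ⟨k⁻¹, by rw [← hk, smul_smul, inv_mul_cancel₀ hk0, one_smul]⟩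
  obtain ⟨f, hf1, hf0⟩ := exists_dual_one (K := K) hb₁'
  obtain ⟨g, hg1, hg0⟩ := exists_dual_one (K := K) hb₂
  have hfb : f b₂ = 0 := hf0 b₂ (Submodule.mem_span_singleton_self _)
  have hgb : g b₁ = 0 := hg0 b₁ (Submodule.mem_span_singleton_self _)
  let Φ : P × P →ₗ[K] (P ⊗[K] P) ⊗[K] X := (act s - 1) ∘ₗ
    ((TensorProduct.mk K (P ⊗[K] P) X).flip z) ∘ₗ
    ((TensorProduct.mk K P P b₁).coprod (TensorProduct.mk K P P b₂))
  have hap : ∀ y y', Φ (y, y') =
      (y ⊗ₜ[K] b₁ + y' ⊗ₜ[K] b₂ + (b₁ ⊗ₜ[K] y + b₂ ⊗ₜ[K] y')) ⊗ₜ[K] z := by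
    intro y y'
    change act s ((b₁ ⊗ₜ y + b₂ ⊗ₜ y') ⊗ₜ z) - (b₁ ⊗ₜ y + b₂ ⊗ₜ y') ⊗ₜ z = _
    rw [h.s_tmul, hz, sub_eq_add2 K, ← add_tmul, map_add, sw_tmul, sw_tmul]
  have hker : LinearMap.ker Φ ≤
      Submodule.span K (Set.range ![((b₁ : P), (0 : P)), (b₂, b₁), (0, b₂)]) := by
    rintro ⟨y, y'⟩ h0
    rw [LinearMap.mem_ker, hap] at h0
    have h1 : y ⊗ₜ[K] b₁ + y' ⊗ₜ[K] b₂ + (b₁ ⊗ₜ[K] y + b₂ ⊗ₜ[K] y') = 0 := by
      rw [← zero_tmul (P ⊗[K] P) z] at h0
      exact PFlat.right_eq hz0 h0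
    have h2 := congrArg (cL P f) h1
    have h3 := congrArg (cL P g) h1
    simp only [map_add, cL_tmul, hf1, hfb, hg1, hgb, one_smul, zero_smul, add_zero, zero_add,
      map_zero] at h2 h3
    -- h2 : f y • b₁ + f y' • b₂ + y = 0 ; h3 : g y • b₁ + g y' • b₂ + y' = 0
    rw [← sub_eq_add2 K, sub_eq_zero] at h2 h3
    have h4 : g y = f y' := by
      have := congrArg g h2
      simp only [map_add, map_smul, hgb, hg1, smul_eq_mul, mul_zero, mul_one, zero_add] at this
      exact this.symm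
    have h5 : ((y, y') : P × P) = f y • (b₁, 0) + f y' • (b₂, b₁) + g y' • (0, b₂) := by
      ext
      · simp only [Prod.fst_add, Prod.smul_fst, smul_zero, add_zero]
        exact h2.symm
      · simp only [Prod.snd_add, Prod.smul_snd, smul_zero, zero_add]
        rw [← h4]; exact h3.symm
    rw [h5]
    refine Submodule.add_mem _ (Submodule.add_mem _ ?_ ?_) ?_
    · exact Submodule.smul_mem _ _ (Submodule.subset_span ⟨0, rfl⟩)
    · exact Submodule.smul_mem _ _ (Submodule.subset_span ⟨1, rfl⟩)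
    · exact Submodule.smul_mem _ _ (Submodule.subset_span ⟨2, rfl⟩)
  have h1 := LinearMap.finrank_range_add_finrank_ker Φ
  rw [Module.finrank_prod] at h1
  have h3 := Submodule.finrank_mono hker
  have h4 : finrank K (Submodule.span K (Set.range ![((b₁ : P), (0 : P)), (b₂, b₁), (0, b₂)]))
      ≤ 3 := by
    have h4 := finrank_range_le_card (R := K) ![((b₁ : P), (0 : P)), (b₂, b₁), (0, b₂)]
    rw [Fintype.card_fin] at h4
    exact h4
  have h5 : LinearMap.range Φ ≤ LinearMap.range (act s - 1) := LinearMap.range_comp_le_range _ _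
  have h6 := Submodule.finrank_mono h5
  omega

/-- **(4)** -/
theorem false (h : SFlat p χ s act E F) : False := by
  haveI : Finite ((P ⊗[K] P) ⊗[K] X) := finV
  have hq : 1 < Nat.card K := PFlat.one_lt_q K
  have h1 := h.card_E
  have h2 := h.card_range
  have h3 := h.rank_s
  have h4 := h.flat.rk s
  have h5 := h.flat.four
  have h6 := h.flat.pf
  have hd := h.d
  have hd3 := h.d3
  rw [Module.natCard_eq_pow_finrank (K := K) (V := E),
    Module.natCard_eq_pow_finrank (K := K) (V := F)] at h1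
  rw [Module.natCard_eq_pow_finrank (K := K) (V := E),
    Module.natCard_eq_pow_finrank (K := K) (V := F),
    Module.natCard_eq_pow_finrank (K := K) (V := LinearMap.range (act s - 1)), ← pow_add] at h4
  have h4' := (Nat.pow_le_pow_iff_right hq).1 h4
  rw [Module.natCard_eq_pow_finrank (K := K) (V := E),
    Module.natCard_eq_pow_finrank (K := K) (V := (P ⊗[K] P) ⊗[K] X)] at h5
  rw [Module.natCard_eq_pow_finrank (K := K) (V := E),
    Module.natCard_eq_pow_finrank (K := K) (V := F),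
    Module.natCard_eq_pow_finrank (K := K) (V := (P ⊗[K] P) ⊗[K] X), ← pow_mul, ← pow_mul,
    ← pow_add] at h6
  have h6' := (Nat.pow_le_pow_iff_right hq).1 h6
  set q := Nat.card K with hqd
  set δ := finrank K P with hδ
  set a := finrank K ((P ⊗[K] P) ⊗[K] X) with ha
  set b := finrank K E with hb
  set c := finrank K F with hc
  -- `q ^ b ≤ 2 q ^ (δ - 1 + c)`
  have h7 : q ^ b ≤ 2 * q ^ (δ - 1 + c) := by
    calc q ^ b ≤ Nat.card (Set.range p) * 2 * q ^ c := h1
      _ ≤ q ^ (δ - 1) * 2 * q ^ c := by gcongr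
      _ = 2 * q ^ (δ - 1 + c) := by rw [pow_add]; ring
  have hab : b < a := by
    by_contra hc
    push Not at hc
    have : q ^ a ≤ q ^ b := Nat.pow_le_pow_right (by omega) hc
    have h0 : 0 < q ^ b := pow_pos (by omega) _
    omega
  have h8 : b ≤ δ + c := by
    have : q ^ b ≤ q ^ (δ - 1 + c + 1) := by
      calc q ^ b ≤ 2 * q ^ (δ - 1 + c) := h7
        _ ≤ q * q ^ (δ - 1 + c) := by gcongr; omega
        _ = q ^ (δ - 1 + c + 1) := by rw [pow_succ]; ring
    have := (Nat.pow_le_pow_iff_right hq).1 this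
    omega
  by_cases hq2 : q = 2
  · have h9 := hd3 hq2
    have h10 : b + 2 ≤ a := by
      rw [hq2] at h5
      have : 2 ^ (b + 2) ≤ 2 ^ a := by
        calc 2 ^ (b + 2) = 4 * 2 ^ b := by rw [pow_add]; ring
          _ ≤ _ := h5
      exact (Nat.pow_le_pow_iff_right (by norm_num)).1 this
    omega
  · -- `q ≥ 3`: `b ≤ δ - 1 + c`
    have h9 : b ≤ δ - 1 + c := by
      by_contra hcon
      push Not at hcon
      have h10 : q ^ (δ - 1 + c + 1) ≤ q ^ b := Nat.pow_le_pow_right (by omega) hcon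
      rw [pow_succ] at h10
      have h0 : 0 < q ^ (δ - 1 + c) := pow_pos (by omega) _
      have h11 : q ^ (δ - 1 + c) * q ≤ 2 * q ^ (δ - 1 + c) := h10.trans h7
      have h12 : q ≤ 2 := by
        by_contra h13
        push Not at h13
        nlinarith
      omega
    omega

end SFlat

end Cfsg.Agent.Omega.NO1.Comp

end

section


/-!
# Semilinear maps between two tensor decompositions (project OMEGA, N1, THEOREM COMP #17539; helper168)

* `Dec.exists_pure2` : `g L g⁻¹ = L₂` : `g = α ⊗ β : W ⊗ W' → X ⊗ X'`.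
* `Dec.exists_swap` : `g L g⁻¹ = C` : `g (w ⊗ w') = β w' ⊗ α w`.
-/

set_option autoImplicit false
set_option linter.unusedSectionVars false

namespace Cfsg.Agent.Omega.NO1.Comp

open Module TensorProduct

universe u

variable {K V : Type u} [Field K] [AddCommGroup V] [Module K V] {L C L₂ C₂ : Set (Module.End K V)}
  {W W' X X' : Type u} [AddCommGroup W] [Module K W] [AddCommGroup W'] [Module K W']
  [AddCommGroup X] [Module K X] [AddCommGroup X'] [Module K X']

/-- a semilinear bijection with `g L g⁻¹ = L₂` -/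
theorem Dec.exists_pure2 (D : Dec L C W W') (h : Two L C) (D₂ : Dec L₂ C₂ X X') (h₂ : Two L₂ C₂)
    (σ : K ≃+* K) (g : V ≃+ V) (hg : ∀ (k : K) (v), g (k • v) = σ k • g v)
    (hn : ∀ l ∈ L, ∃ l' ∈ L₂, ∀ v, g (l v) = l' (g v))
    (hn' : ∀ l' ∈ L₂, ∃ l ∈ L, ∀ v, g (l v) = l' (g v)) :
    ∃ (α : W ≃+ X) (β : W' ≃+ X'), (∀ (k : K) (a), α (k • a) = σ k • α a) ∧
      (∀ (k : K) (b), β (k • b) = σ k • β b) ∧
      (∀ w w', g (D.φ (w ⊗ₜ w')) = D₂.φ (α w ⊗ₜ β w')) ∧
      ∀ l ∈ L, ∀ l' ∈ L₂, (∀ v, g (l v) = l' (g v)) → ∀ w, α (D.ρ l w) = D₂.ρ l' (α w) := by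
  have := D.finL
  have := D.finR
  have := D.neL
  have := D.neR
  have := D₂.finL
  have := D₂.finR
  have : Module.Finite K W' := Module.Finite.of_finite
  have : Module.Finite K X' := Module.Finite.of_finite
  let I := {p : Module.End K V × Module.End K V // p.1 ∈ L ∧ p.2 ∈ L₂ ∧ ∀ v, g (p.1 v) = p.2 (g v)}
  let s : W ⊗[K] W' ≃+ X ⊗[K] X' := (D.φ.toAddEquiv.trans g).trans D₂.φ.symm.toAddEquiv
  have hs : ∀ x, D₂.φ (s x) = g (D.φ x) := fun x => D₂.φ.apply_symm_apply _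
  obtain ⟨α, β, h1, h2, h3, h4⟩ := Pure.pure (I := I) σ s
    (fun k x => by
      apply D₂.φ.injective
      rw [hs, LinearEquiv.map_smul, hg, LinearEquiv.map_smul, hs])
    (fun i => D.ρ i.1.1) (fun i => D₂.ρ i.1.2)
    (fun i x => by
      apply D₂.φ.injective
      rw [hs, ← D.hl' i.2.1, i.2.2.2, ← D₂.hl' i.2.2.1, hs])
    (fun N hN => D.irr h N fun l hl w hw => by
      obtain ⟨l', hl', h5⟩ := hn l hl
      exact hN ⟨(l, l'), hl, hl', h5⟩ w hw)
    (fun N hN => D₂.irr h₂ N fun l' hl' w hw => by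
      obtain ⟨l, hl, h5⟩ := hn' l' hl'
      exact hN ⟨(l, l'), hl, hl', h5⟩ w hw)
    (fun f hf => D₂.sch h₂ f fun l' hl' => by
      obtain ⟨l, hl, h5⟩ := hn' l' hl'
      exact LinearMap.ext fun w => hf ⟨(l, l'), hl, hl', h5⟩ w)
  refine ⟨α, β, h1, h2, fun w w' => ?_, fun l hl l' hl' h5 w => h4 ⟨(l, l'), hl, hl', h5⟩ w⟩
  rw [← hs, h3]

/-- a semilinear bijection with `g L g⁻¹ = C` -/
theorem Dec.exists_swap (D : Dec L C W W') (h : Two L C) (σ : K ≃+* K) (g : V ≃+ V)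
    (hg : ∀ (k : K) (v), g (k • v) = σ k • g v)
    (hn : ∀ l ∈ L, ∃ l' ∈ C, ∀ v, g (l v) = l' (g v))
    (hn' : ∀ l' ∈ C, ∃ l ∈ L, ∀ v, g (l v) = l' (g v)) :
    ∃ (α : W ≃+ W') (β : W' ≃+ W), (∀ (k : K) (a), α (k • a) = σ k • α a) ∧
      (∀ (k : K) (b), β (k • b) = σ k • β b) ∧ ∀ w w', g (D.φ (w ⊗ₜ w')) = D.φ (β w' ⊗ₜ α w) := by
  obtain ⟨α, β, h1, h2, h3, -⟩ := D.exists_pure2 h D.symm h.symm σ g hg hn hn'
  exact ⟨α, β, h1, h2, fun w w' => by rw [h3, D.symm_φ]⟩

end Cfsg.Agent.Omega.NO1.Comp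

end
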