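import Cfsg.Agent.Omega.NO1.Comp.Field
import Cfsg.Agent.Schreier.Tools
import Cfsg.Agent.Mrg.Omega.EH3.Clif.Comp
import Cfsg.Agent.Mrg.Omega.NO1.Comp.Glue
import Cfsg.Agent.Omega.EH3.Clif.Rep
import Cfsg.Agent.LieClassical.SLGen

section


/-!
# THEOREM COMP (#17539): dimensions of the tensor factors (helper789)

`two_le_finrank` : a perfect group which acts non-trivially and linearly on `W` has `dim W ≥ 2`, and `dim W ≥ 3` for
`|K| = 2`.
-/

set_option autoImplicit false

namespace Cfsg.Agent.Omega.NO1.Comp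

open Module TensorProduct

section Perf

variable {N H : Type*} [Group N] [Group H]

/-- a perfect group has only the trivial homomorphism to a solvable group -/
theorem eq_one_of_perf (hN : ⁅(⊤ : Subgroup N), (⊤ : Subgroup N)⁆ = ⊤) (hH : Group.IsSolvable H) (φ : N →* H) (n : N) :
    φ n = 1 := by
  have h1 : Group.IsSolvable φ.range := inferInstance
  have h2 : ⁅(⊤ : Subgroup φ.range), (⊤ : Subgroup φ.range)⁆ = ⊤ := by
    have h3 := congrArg (Subgroup.map φ.rangeRestrict) hN
    rw [Subgroup.map_commutator] at h3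
    have h4 : (⊤ : Subgroup N).map φ.rangeRestrict = ⊤ := by
      rw [← MonoidHom.range_eq_map, MonoidHom.range_eq_top]
      exact φ.rangeRestrict_surjective
    rwa [h4] at h3
  by_contra hne
  have h5 : Nontrivial φ.range := ⟨⟨φ n, n, rfl⟩, 1, fun h => hne (congrArg Subtype.val h)⟩
  have h6 := Group.IsSolvable.commutator_lt_top_of_nontrivial φ.range
  exact h6.ne h2

end Perf

section Dim

variable {K W : Type*} [Field K] [AddCommGroup W] [Module K W] {N : Type*} [Group N]

/-- the permutation representation -/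
def permHom (f : N →* Module.End K W) : N →* Equiv.Perm W where
  toFun n :=
    { toFun := f n
      invFun := f n⁻¹
      left_inv := fun w => by rw [← Module.End.mul_apply, ← map_mul, inv_mul_cancel, map_one]; rfl
      right_inv := fun w => by rw [← Module.End.mul_apply, ← map_mul, mul_inv_cancel, map_one]; rfl }
  map_one' := by
    ext w
    show f 1 w = w
    rw [map_one]; rfl
  map_mul' a b := by
    ext w
    show f (a * b) w = f a (f b w)
    rw [map_mul]; rfl

theorem two_le_finrank [Finite K] [Module.Finite K W] (hN : ⁅(⊤ : Subgroup N), (⊤ : Subgroup N)⁆ = ⊤)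
    (f : N →* Module.End K W) (hf : ∃ n, f n ≠ 1) : 2 ≤ finrank K W ∧ (Nat.card K = 2 → 3 ≤ finrank K W) := by
  obtain ⟨n, hn⟩ := hf
  have key : (∀ m, permHom f m = 1) → False := by
    intro h
    apply hn
    ext w
    have h1 := congrArg (fun e : Equiv.Perm W => e w) (h n)
    exact h1
  constructor
  · by_contra hlt
    have h1 : finrank K W ≤ 1 := by omega
    obtain ⟨v, hv⟩ := (finrank_le_one_iff (K := K) (V := W)).1 h1
    apply key
    intro m
    have hcomm : ∀ a b : N, permHom f a * permHom f b = permHom f b * permHom f a := by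
      intro a b
      ext w
      obtain ⟨c, rfl⟩ := hv w
      obtain ⟨α, hα⟩ := hv (f a v)
      obtain ⟨β, hβ⟩ := hv (f b v)
      show f a (f b (c • v)) = f b (f a (c • v))
      rw [map_smul, map_smul, map_smul, map_smul, ← hα, ← hβ, map_smul, map_smul, ← hα, ← hβ, smul_smul,
        smul_smul, smul_smul, smul_smul]
      congr 1
      ring
    let _ : CommGroup (permHom f).range :=
      { (inferInstance : Group (permHom f).range) with
        mul_comm := by
          rintro ⟨_, a, rfl⟩ ⟨_, b, rfl⟩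
          exact Subtype.ext (hcomm a b) }
    have h2 : Group.IsSolvable (permHom f).range := inferInstance
    have h3 := eq_one_of_perf hN h2 (permHom f).rangeRestrict m
    exact congrArg Subtype.val h3
  · intro h2
    by_contra hlt
    have h1 : Nat.card W ≤ 4 := by
      rw [Module.natCard_eq_pow_finrank (K := K) (V := W), h2]
      calc 2 ^ finrank K W ≤ 2 ^ 2 := Nat.pow_le_pow_right (by norm_num) (by omega)
        _ = 4 := by norm_num
    have h3 : Finite W := Module.finite_of_finite K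
    exact key (eq_one_of_perf hN (Cfsg.Agent.Schreier.Tools.isSolvable_perm_of_card_le_four W h1) (permHom f))

end Dim

end Cfsg.Agent.Omega.NO1.Comp

end

section


/-!
# THEOREM COMP (#17539): assembly, tools (helper789)

* `linSet_conj`, `two_of3`, `dim_of` : from a group with commuting perfect subgroups to `Two`, `Dec`;
* `Inp` : the module facts for `U ≤ Y` acting on `M`; `Inp.exists_field`.
-/

set_option autoImplicit false
set_option linter.unusedSectionVars false

namespace Cfsg.Agent.Omega.NO1.Comp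

open Module TensorProduct Cfsg.Agent.Lib.ComponentSolvable

universe u

/-! ### Sets of linear maps -/

section lin

variable {Y V K : Type u} [Group Y] [AddCommGroup V] [DistribMulAction Y V] [Field K] [Module K V]

/-- the linear map of a group element -/
def linOf (y : Y) (h : ∀ (k : K) (v : V), y • k • v = k • y • v) : Module.End K V where
  toFun v := y • v
  map_add' := smul_add y
  map_smul' := h

theorem linOf_apply (y : Y) (h : ∀ (k : K) (v : V), y • k • v = k • y • v) (v : V) : linOf y h v = y • v := rfl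

theorem linOf_mem {E : Set Y} {y : Y} (hy : y ∈ E) (h : ∀ (k : K) (v : V), y • k • v = k • y • v) :
    linOf y h ∈ linSet K V E := ⟨y, hy, fun _ => rfl⟩

theorem linSet_mono {E E' : Set Y} (h : E ⊆ E') : linSet K V E ⊆ linSet K V E' := by
  rintro l ⟨y, hy, hl⟩
  exact ⟨y, h hy, hl⟩

/-- conjugation -/
theorem linSet_conj {N N' : Subgroup Y} (hlin : ∀ y ∈ N', ∀ (k : K) (v : V), y • k • v = k • y • v) {u : Y}
    (hu : ∀ n ∈ N, u * n * u⁻¹ ∈ N') {l : Module.End K V} (hl : l ∈ linSet K V (N : Set Y)) :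
    ∃ l' ∈ linSet K V (N' : Set Y), ∀ v, u • l v = l' (u • v) := by
  obtain ⟨n, hn, hl⟩ := hl
  refine ⟨linOf _ (hlin _ (hu n hn)), linOf_mem (hu n hn) _, fun v => ?_⟩
  rw [hl, linOf_apply, smul_smul, smul_smul]
  congr 1
  group

theorem linSet_comm {N N' : Subgroup Y} (h : ∀ x ∈ N, ∀ y ∈ N', x * y = y * x) :
    ∀ l ∈ linSet K V (N : Set Y), ∀ c ∈ linSet K V (N' : Set Y), l * c = c * l := by
  rintro f ⟨l, hl, hf⟩ g ⟨c, hc, hg⟩
  ext v
  rw [Module.End.mul_apply, Module.End.mul_apply, hf, hg, hg, hf, smul_smul, smul_smul, h l hl c hc]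

/-- **three commuting subgroups** -/
theorem two_of3 {N₁ N₂ N₃ : Subgroup Y} (c₁₂ : ∀ x ∈ N₁, ∀ y ∈ N₂, x * y = y * x)
    (c₁₃ : ∀ x ∈ N₁, ∀ y ∈ N₃, x * y = y * x)
    (lin : ∀ y ∈ N₁ ⊔ N₂ ⊔ N₃, ∀ (k : K) (v : V), y • (k • v) = k • (y • v))
    (irr : ∀ W : AddSubgroup V, (∀ y ∈ N₁ ⊔ N₂ ⊔ N₃, ∀ w ∈ W, y • w ∈ W) → W = ⊥ ∨ W = ⊤)
    (sch : ∀ f : V →+ V, (∀ y ∈ N₁ ⊔ N₂ ⊔ N₃, ∀ v, f (y • v) = y • f v) → ∃ k : K, ∀ v, f v = k • v) :
    Two (linSet K V (N₁ : Set Y)) (linSet K V (N₂ : Set Y) ∪ linSet K V (N₃ : Set Y)) := by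
  have h1 : N₁ ≤ N₁ ⊔ N₂ ⊔ N₃ := le_sup_left.trans le_sup_left
  have h2 : N₂ ≤ N₁ ⊔ N₂ ⊔ N₃ := le_sup_right.trans le_sup_left
  have h3 : N₃ ≤ N₁ ⊔ N₂ ⊔ N₃ := le_sup_right
  have sub : ∀ {N : Subgroup Y}, N ≤ N₁ ⊔ N₂ ⊔ N₃ → ∀ U : Submodule K V,
      (∀ l ∈ linSet K V (N : Set Y), ∀ v ∈ U, l v ∈ U) → N ≤ stabSub U.toAddSubgroup := by
    intro N hN U hU y hy
    exact ⟨fun w hw => hU _ (linOf_mem hy (lin y (hN hy))) w hw,
      fun w hw => hU _ (linOf_mem (N.inv_mem hy) (lin _ (hN (N.inv_mem hy)))) w hw⟩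
  have com : ∀ {N : Subgroup Y}, N ≤ N₁ ⊔ N₂ ⊔ N₃ → ∀ f : Module.End K V,
      (∀ l ∈ linSet K V (N : Set Y), f * l = l * f) → N ≤ commSub (f : V →+ V) := by
    intro N hN f hf y hy v
    exact LinearMap.congr_fun (hf _ (linOf_mem hy (lin y (hN hy)))) v
  refine ⟨?_, ?_, ?_⟩
  · rintro l hl c (hc | hc)
    · exact linSet_comm c₁₂ l hl c hc
    · exact linSet_comm c₁₃ l hl c hc
  · intro U hU1 hU2
    have key := sup_le (sup_le (sub h1 U hU1) (sub h2 U fun c hc => hU2 c (Or.inl hc)))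
      (sub h3 U fun c hc => hU2 c (Or.inr hc))
    rcases irr U.toAddSubgroup (fun y hy => (key hy).1) with h4 | h4
    · left
      ext w
      rw [← Submodule.mem_toAddSubgroup, h4]; rfl
    · right
      ext w
      rw [← Submodule.mem_toAddSubgroup, h4]
      exact ⟨fun _ => trivial, fun _ => trivial⟩
  · intro f h4 h5
    have key := sup_le (sup_le (com h1 f h4) (com h2 f fun c hc => h5 c (Or.inl hc)))
      (com h3 f fun c hc => h5 c (Or.inr hc))
    exact sch (f : V →+ V) fun y hy => key hy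

/-- **dimensions** -/
theorem dim_of [FaithfulSMul Y V] [Finite K] {N : Subgroup Y} (hN : ⁅N, N⁆ = N) (hN1 : N ≠ ⊥)
    (lin : ∀ y ∈ N, ∀ (k : K) (v : V), y • k • v = k • y • v) {W M' : Type u} [AddCommGroup W] [Module K W]
    [AddCommGroup M'] [Module K M'] [Finite W] [Nontrivial M'] (φ : W ⊗[K] M' ≃ₗ[K] V)
    (ρ : Module.End K V → Module.End K W)
    (h : ∀ l ∈ linSet K V (N : Set Y), ∀ w m, l (φ (w ⊗ₜ m)) = φ (ρ l w ⊗ₜ m)) :
    2 ≤ finrank K W ∧ (Nat.card K = 2 → 3 ≤ finrank K W) := by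
  obtain ⟨m₀, hm₀⟩ := exists_ne (0 : M')
  obtain ⟨p, hp⟩ := exists_dual (K := K) hm₀
  have hinj : ∀ w w' : W, φ (w ⊗ₜ m₀) = φ (w' ⊗ₜ m₀) → w = w' := by
    intro w w' h1
    have h3 := congrArg (TensorProduct.lift ((LinearMap.lsmul K W).flip.compl₂ p) : W ⊗[K] M' →ₗ[K] W)
      (φ.injective h1)
    simpa [hp] using h3
  let g : N → Module.End K W := fun n => ρ (linOf (n : Y) (lin n n.2))
  have hg : ∀ (n : N) w m, (n : Y) • φ (w ⊗ₜ m) = φ (g n w ⊗ₜ m) := fun n w m =>
    h _ (linOf_mem n.2 _) w m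
  let f : N →* Module.End K W :=
    { toFun := g
      map_one' := by
        ext w
        apply hinj
        rw [← hg]
        exact one_smul Y _
      map_mul' := fun a b => by
        ext w
        apply hinj
        rw [← hg, Module.End.mul_apply, ← hg, ← hg, smul_smul]
        rfl }
  have hperf : ⁅(⊤ : Subgroup N), (⊤ : Subgroup N)⁆ = ⊤ := by
    apply Subgroup.map_injective N.subtype_injective
    rw [Subgroup.map_commutator, ← MonoidHom.range_eq_map, N.range_subtype]
    exact hN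
  have : Module.Finite K W := Module.Finite.of_finite
  refine two_le_finrank hperf f ?_
  by_contra hcon
  push Not at hcon
  apply hN1
  rw [eq_bot_iff]
  intro n hn
  rw [Subgroup.mem_bot]
  apply FaithfulSMul.eq_of_smul_eq_smul (α := V)
  intro v
  rw [one_smul]
  have h1 : linOf n (lin n hn) = (1 : Module.End K V) := by
    have h2 : (linOf n (lin n hn) : Module.End K V) ∘ₗ (φ : W ⊗[K] M' →ₗ[K] V) = φ := by
      apply TensorProduct.ext'
      intro w m
      show n • φ (w ⊗ₜ m) = φ (w ⊗ₜ m)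
      rw [hg ⟨n, hn⟩ w m]
      have h3 : g ⟨n, hn⟩ = 1 := hcon ⟨n, hn⟩
      rw [h3]; rfl
    ext v
    obtain ⟨x, rfl⟩ := φ.surjective v
    exact LinearMap.congr_fun h2 x
  exact LinearMap.congr_fun h1 v

end lin

/-! ### The input -/

section inp

variable {Y M : Type u} [Group Y] [Finite Y] [AddCommGroup M] [Finite M] [DistribMulAction Y M] [FaithfulSMul Y M]

/-- the module facts -/
structure Inp (U : Subgroup Y) (E F : AddSubgroup M) : Prop where
  flat : FlatA U E F
  four : 4 * Nat.card E ≤ Nat.card M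
  pf : Nat.card M ^ 2 * Nat.card F ≤ Nat.card E ^ 3
  rk : ∀ u ∈ U, Nat.card {v : M | ∃ w, v = u • w - w} * Nat.card F ≤ Nat.card E
  irr : ∀ X : AddSubgroup M, (∀ x ∈ layer Y, ∀ m ∈ X, x • m ∈ X) → X = ⊥ ∨ X = ⊤

variable {U : Subgroup Y} {E F : AddSubgroup M}

theorem Inp.sq (h : Inp U E F) : ∀ u ∈ U, u * u = 1 := by
  intro u hu
  apply FaithfulSMul.eq_of_smul_eq_smul (α := M)
  intro v
  rw [mul_smul, h.flat.inv u hu, one_smul]

theorem Inp.nontrivial (h : Inp U E F) : Nontrivial M := by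
  obtain ⟨w, hw⟩ := h.flat.ne'
  exact ⟨⟨w, 0, fun h1 => hw (h1 ▸ E.zero_mem)⟩⟩

/-- the field data -/
structure Fld (U : Subgroup Y) (K M : Type u) [AddCommGroup M] [DistribMulAction Y M] [Field K] [Module K M] :
    Prop where
  lin : ∀ y ∈ layer Y, ∀ (k : K) (v : M), y • (k • v) = k • (y • v)
  sch : ∀ f : M →+ M, (∀ y ∈ layer Y, ∀ v, f (y • v) = y • f v) → ∃ k : K, ∀ v, f v = k • v
  semi : ∀ y : Y, ∃ σ : K ≃+* K, ∀ (k : K) (v : M), y • (k • v) = σ k • (y • v)
  hl : ∀ u ∈ U, ∀ (k : K) (v : M), u • k • v = k • u • v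

theorem Inp.exists_field (h : Inp U E F) :
    ∃ (K : Type u) (_ : Field K) (_ : Finite K) (_ : CharP K 2) (_ : Module K M), Fld U K M := by
  have := h.nontrivial
  obtain ⟨K, iF, ifin, iM, h1, h2, h3⟩ := exists_field_grp (V := M) (layer Y) h.irr
  have hn : (layer Y).Normal := Grp.layer_normal
  have h4 : ∀ y : Y, ∃ σ : K ≃+* K, ∀ (k : K) (v : M), y • (k • v) = σ k • (y • v) := by
    intro y
    apply h3 y
    rw [Subgroup.mem_normalizer_iff]
    intro x
    constructor
    · intro hx; exact hn.conj_mem x hx y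
    · intro hx
      have h5 := hn.conj_mem _ hx y⁻¹
      have h6 : y⁻¹ * (y * x * y⁻¹) * y⁻¹⁻¹ = x := by group
      rwa [h6] at h5
  exact ⟨K, iF, ifin, h.flat.charP (K := K), iM, h1, h2, h4,
    h.flat.lin (four_of_card h.four) fun u _ => h4 u⟩

end inp

end Cfsg.Agent.Omega.NO1.Comp

end

section


/-!
# THEOREM COMP (#17539): assembly, `U` normalises every component; at most two components (helper789)

* `Inp.norm` : (4) for the group;
* `Inp.two` : 'n = 2': every component is one of two given different components.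
-/

set_option autoImplicit false
set_option linter.unusedSectionVars false
set_option maxHeartbeats 400000

namespace Cfsg.Agent.Omega.NO1.Comp

open Module TensorProduct Cfsg.Agent.Lib.ComponentSolvable Subgroup
open Cfsg.Agent.Omega.EH3.Clif.Comp (ne_bot)

universe u

/-! ### The extension of a homomorphism from a subgroup of index 2 -/

section ext

variable {U : Type*} [Group U] {R : Type*} [Monoid R]

/-- `χ` on `U = U₁ ∪ s U₁` -/
theorem exists_ext (hsq : ∀ u : U, u * u = 1) {U₁ : Subgroup U} (hidx : U₁.index = 2) {s : U} (hs : s ∉ U₁)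
    (x : U₁ →* R) (t : R) (ht : t * t = 1) (hc : ∀ u, t * x u = x u * t) :
    ∃ χ : U →* R, (∀ u : U₁, χ u = x u) ∧ χ s = t := by
  classical
  have hcom : ∀ a b : U, a * b = b * a := by
    intro a b
    have h3 : ∀ c : U, c⁻¹ = c := fun c => inv_eq_of_mul_eq_one_left (hsq c)
    calc a * b = (a * b)⁻¹ := (h3 _).symm
      _ = b * a := by rw [mul_inv_rev, h3, h3]
  have hmem : ∀ a b : U, a * b ∈ U₁ ↔ (a ∈ U₁ ↔ b ∈ U₁) := fun a b => Subgroup.mul_mem_iff_of_index_two hidx
  have hsu : ∀ u : U, u ∉ U₁ → s * u ∈ U₁ := fun u hu => (hmem s u).2 ⟨fun h => absurd h hs, fun h => absurd h hu⟩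
  let f : U → R := fun u => if hu : u ∈ U₁ then x ⟨u, hu⟩ else x ⟨s * u, hsu u hu⟩ * t
  have f1 : ∀ u (hu : u ∈ U₁), f u = x ⟨u, hu⟩ := fun u hu => dif_pos hu
  have f2 : ∀ u (hu : u ∉ U₁), f u = x ⟨s * u, hsu u hu⟩ * t := fun u hu => dif_neg hu
  refine ⟨{ toFun := f, map_one' := ?_, map_mul' := ?_ }, ?_, ?_⟩
  · rw [f1 1 U₁.one_mem]
    exact map_one x
  · intro a b
    by_cases ha : a ∈ U₁ <;> by_cases hb : b ∈ U₁
    · rw [f1 a ha, f1 b hb, f1 _ (U₁.mul_mem ha hb), ← map_mul]
      rfl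
    · have hab : a * b ∉ U₁ := fun h => hb (((hmem a b).1 h).1 ha)
      have e : (⟨s * (a * b), hsu _ hab⟩ : U₁) = ⟨a, ha⟩ * ⟨s * b, hsu b hb⟩ := by
        apply Subtype.ext
        show s * (a * b) = a * (s * b)
        rw [← mul_assoc, hcom s a, mul_assoc]
      rw [f1 a ha, f2 b hb, f2 _ hab, e, map_mul, mul_assoc]
    · have hab : a * b ∉ U₁ := fun h => ha (((hmem a b).1 h).2 hb)
      have e : (⟨s * (a * b), hsu _ hab⟩ : U₁) = ⟨s * a, hsu a ha⟩ * ⟨b, hb⟩ := by
        apply Subtype.ext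
        show s * (a * b) = s * a * b
        rw [mul_assoc]
      rw [f2 a ha, f1 b hb, f2 _ hab, e, map_mul, mul_assoc, mul_assoc, hc]
    · have hab : a * b ∈ U₁ := (hmem a b).2 ⟨fun h => absurd h ha, fun h => absurd h hb⟩
      have e : (⟨a * b, hab⟩ : U₁) = ⟨s * a, hsu a ha⟩ * ⟨s * b, hsu b hb⟩ := by
        apply Subtype.ext
        show a * b = s * a * (s * b)
        rw [hcom s a, mul_assoc, ← mul_assoc s s b, hsq, one_mul]
      rw [f2 a ha, f2 b hb, f1 _ hab, e, map_mul, mul_assoc, ← mul_assoc t, hc, mul_assoc, ht, mul_one]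
  · intro u
    exact f1 u u.2
  · show f s = t
    rw [f2 s hs]
    have h1 : (⟨s * s, hsu s hs⟩ : U₁) = 1 := Subtype.ext (hsq s)
    rw [h1, map_one, one_mul]

end ext

section move

variable {Y M : Type u} [Group Y] [Finite Y] [AddCommGroup M] [Finite M] [DistribMulAction Y M] [FaithfulSMul Y M]
variable {U : Subgroup Y} {E F : AddSubgroup M} {K : Type u} [Field K] [Finite K] [CharP K 2] [Module K M]

/-- **(4)** : `U` normalises every component -/
theorem Inp.norm (h : Inp U E F) (hf : Fld U K M) {L : Subgroup Y} (hL : IsComponent L) :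
    U ≤ normalizer (L : Set Y) := by
  by_contra hmv
  obtain ⟨N₁, N₂, N₃, A, m⟩ := Grp.exists_mv h.sq hL hmv
  have := h.nontrivial
  have hT := two_of3 (K := K) (V := M) m.c₁₂ m.c₁₃ (by rw [m.sup]; exact hf.lin) (by rw [m.sup]; exact h.irr)
    (by rw [m.sup]; exact hf.sch)
  have l₁ : N₁ ≤ layer Y := by rw [← m.sup]; exact le_sup_left.trans le_sup_left
  have l₂ : N₂ ≤ layer Y := by rw [← m.sup]; exact le_sup_right.trans le_sup_left
  obtain ⟨U₁, hU₁⟩ : ∃ U₁, U₁ = A.subgroupOf U := ⟨_, rfl⟩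
  have hidx : U₁.index = 2 := by rw [hU₁]; exact m.idx
  obtain ⟨s, hs⟩ : ∃ s : U, s ∉ U₁ := by
    by_contra hcon
    push Not at hcon
    have h1 : U₁ = ⊤ := (Subgroup.eq_top_iff' _).2 hcon
    rw [h1, Subgroup.index_top] at hidx
    norm_num at hidx
  have hsA : (s : Y) ∉ A := fun h1 => hs (by rw [hU₁]; exact mem_subgroupOf.2 h1)
  have h2 : ∀ u : U, u * u = 1 := fun u => Subtype.ext (h.sq u u.2)
  have hUA : ∀ u ∈ U₁, (u : Y) ∈ A := fun u hu => by rw [hU₁] at hu; exact mem_subgroupOf.1 hu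
  have hconj : ∀ {N N' : Subgroup Y} {u : Y}, N.map (MulAut.conj u).toMonoidHom = N' → ∀ n ∈ N, u * n * u⁻¹ ∈ N' := by
    intro N N' u h1 n hn
    rw [← h1]
    exact ⟨n, hn, rfl⟩
  obtain ⟨Vp, X, iV1, iV2, iX1, iX2, iVf, iXf, iVn, iXn, ρ, ψ, p, x, sX, e1, e2, e3, e4, e5, -, -⟩ :=
    exists_four hT (linSet_comm m.c₂₃) (actK hf.hl) h2 U₁ s
      (fun u hu l hl => linSet_conj (fun y hy => hf.lin y (l₁ hy))
        (fun n hn => (mem_normalizer_iff.1 (m.A₁ (hUA u hu)) n).1 hn) hl)
      (fun u hu l hl => linSet_conj (fun y hy => hf.lin y (l₂ hy))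
        (fun n hn => (mem_normalizer_iff.1 (m.A₂ (hUA u hu)) n).1 hn) hl)
      (fun l hl => linSet_conj (fun y hy => hf.lin y (l₂ hy)) (hconj (m.sw s s.2 hsA)) hl)
      (fun l hl => linSet_conj (fun y hy => hf.lin y (l₁ hy)) (hconj (m.sw' s s.2 hsA)) hl)
  obtain ⟨χ, hχ1, hχ2⟩ := exists_ext h2 hidx hs x sX e3 e4
  let r := actK (V := M) hf.hl
  let act' : U →* Module.End K ((Vp ⊗[K] Vp) ⊗[K] X) :=
    { toFun := fun u => (ψ.symm : M →ₗ[K] _) ∘ₗ (r u) ∘ₗ (ψ : _ →ₗ[K] M)
      map_one' := by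
        ext y
        simp
      map_mul' := fun a b => by
        apply LinearMap.ext
        intro y
        show ψ.symm (r (a * b) (ψ y)) = ψ.symm (r a (ψ (ψ.symm (r b (ψ y)))))
        rw [LinearEquiv.apply_symm_apply, map_mul]
        rfl }
  have hact : ∀ u y, act' u y = ψ.symm (r u (ψ y)) := fun u y => rfl
  have hk := (h.flat.kflat hf.hl h.four h.pf h.rk).congr ψ.symm (act' := act') (fun u v => by
    rw [hact, LinearEquiv.apply_symm_apply])
  have hdim := dim_of (K := K) (V := M) m.p₁ (fun h1 => ne_bot hL (le_bot_iff.1 (h1 ▸ m.le)))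
    (fun y hy => hf.lin y (l₁ hy)) ((TensorProduct.assoc K Vp Vp X).symm.trans ψ) ρ (by
      intro l hl w y
      induction y using TensorProduct.induction_on with
      | zero => rw [TensorProduct.tmul_zero, TensorProduct.tmul_zero, map_zero, map_zero]
      | tmul b c =>
        show l (ψ ((w ⊗ₜ b) ⊗ₜ c)) = ψ ((ρ l w ⊗ₜ b) ⊗ₜ c)
        rw [e5 l hl]
        rfl
      | add a b ha hb => rw [TensorProduct.tmul_add, TensorProduct.tmul_add, map_add, map_add, map_add, ha, hb])
  have hS : SFlat p χ s act' _ _ :=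
    { flat := hk
      act_eq := fun u => by
        apply LinearMap.ext
        intro y
        rw [hact, hχ1, LinearEquiv.symm_apply_eq]
        exact e1 u y
      idx := fun u hu => (Subgroup.mul_mem_iff_of_index_two hidx).2 ⟨fun h1 => absurd h1 hs, fun h1 => absurd h1 hu⟩
      act_s := by
        apply LinearMap.ext
        intro y
        rw [hact, hχ2, LinearEquiv.symm_apply_eq]
        exact e2 y
      d := hdim.1
      d3 := hdim.2
      nt := iXn }
  exact hS.false

end move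

end Cfsg.Agent.Omega.NO1.Comp

end

section


/-!
# THEOREM COMP (#17539): assembly, at most two components (helper789)

* `ks_tensor` : (KS) for a tensor decomposition;
* `Inp.two` : 'n = 2'.
-/

set_option autoImplicit false
set_option linter.unusedSectionVars false
set_option maxHeartbeats 400000

namespace Cfsg.Agent.Omega.NO1.Comp

open Module TensorProduct Cfsg.Agent.Lib.ComponentSolvable Subgroup
open Cfsg.Agent.Omega.EH3.Clif.Comp (ne_bot perf_sSup comm_sSup commutator_self)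

universe u

variable {Y M : Type u} [Group Y] [AddCommGroup M] [DistribMulAction Y M]
variable {U : Subgroup Y} {E F : AddSubgroup M} {K : Type u} [Field K] [Module K M]

/-- **(KS)** for a tensor decomposition: `U` acts non-trivially on the first factor -/
theorem ks_tensor (h : FlatA U E F) {W W' : Type u} [AddCommGroup W] [Module K W]
    [AddCommGroup W'] [Module K W'] (φ : W ⊗[K] W' ≃ₗ[K] M) (ρ : U → Module.End K W) (ρ' : U → Module.End K W')
    (hφ : ∀ (u : U) w w', (u : Y) • φ (w ⊗ₜ w') = φ (ρ u w ⊗ₜ ρ' u w')) (hd : 2 ≤ finrank K W) :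
    ∃ u, ρ u ≠ 1 := by
  by_contra hcon
  push Not at hcon
  have : FiniteDimensional K W := FiniteDimensional.of_finrank_pos (by omega)
  have hW : Nontrivial W := Module.nontrivial_of_finrank_pos (R := K) (by omega)
  obtain ⟨a, ha⟩ := exists_ne (0 : W)
  obtain ⟨f, hf⟩ := exists_dual (K := K) ha
  obtain ⟨b, hb, hb0⟩ : ∃ b : W, f b = 0 ∧ b ≠ 0 := by
    have h1 := f.finrank_range_add_finrank_ker
    have h2 : finrank K (LinearMap.range f) ≤ 1 := by
      have h3 := Submodule.finrank_le (LinearMap.range f)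
      rwa [Module.finrank_self] at h3
    have h3 : 0 < finrank K (LinearMap.ker f) := by omega
    obtain ⟨⟨b, hb⟩, hb0⟩ := @exists_ne _ (Module.nontrivial_of_finrank_pos (R := K) h3) 0
    exact ⟨b, hb, fun h4 => hb0 (Subtype.ext h4)⟩
  let π : Module.End K W := (LinearMap.toSpanSingleton K W a) ∘ₗ f
  have hπ : ∀ w, π w = f w • a := fun w => rfl
  let P : Module.End K M := (φ : W ⊗[K] W' →ₗ[K] M) ∘ₗ (TensorProduct.map π LinearMap.id) ∘ₗ
    (φ.symm : M →ₗ[K] W ⊗[K] W')
  have hP : ∀ w w', P (φ (w ⊗ₜ w')) = φ ((f w • a) ⊗ₜ w') := by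
    intro w w'
    simp [P, hπ]
  have hPP : ∀ m, P (P m) = P m := by
    intro m
    obtain ⟨x, rfl⟩ := φ.surjective m
    induction x using TensorProduct.induction_on with
    | zero => simp
    | tmul w w' => rw [hP, hP, map_smul, hf, smul_eq_mul, mul_one]
    | add x y hx hy => rw [map_add, map_add, map_add, hx, hy]
  have hPu : ∀ (u : U) m, P ((u : Y) • m) = (u : Y) • P m := by
    intro u m
    obtain ⟨x, rfl⟩ := φ.surjective m
    induction x using TensorProduct.induction_on with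
    | zero => simp
    | tmul w w' => rw [hφ, hP, hP, hφ, hcon u]; rfl
    | add x y hx hy => rw [map_add, smul_add, map_add, map_add, smul_add, hx, hy]
  have hks := h.ks (A := (LinearMap.range P).toAddSubgroup) (B := (LinearMap.ker P).toAddSubgroup) (by
      rintro u hu _ ⟨m, rfl⟩
      exact ⟨u • m, hPu ⟨u, hu⟩ m⟩) (by
      intro u hu m hm
      have hm' : P m = 0 := hm
      show P (u • m) = 0
      rw [hPu ⟨u, hu⟩ m, hm']
      exact smul_zero u) (by
      rw [eq_bot_iff]
      rintro _ ⟨⟨m, rfl⟩, hm⟩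
      have hm' : P (P m) = 0 := hm
      rw [hPP] at hm'
      exact hm') (by
      rw [eq_top_iff]
      intro m _
      have h1 : m = P m + (m - P m) := by abel
      rw [h1]
      refine AddSubgroup.add_mem_sup ⟨m, rfl⟩ ?_
      show P (m - P m) = 0
      rw [map_sub, hPP, sub_self])
  have key : ∀ c : W, c ≠ 0 → (∀ w' : W', φ (c ⊗ₜ w') ∈ F) → False := by
    intro c hc hcF
    apply h.ne
    intro e he
    rw [h.F_iff]
    intro u hu
    have h1 : ∀ w', ρ' ⟨u, hu⟩ w' = w' := by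
      intro w'
      obtain ⟨g, hg⟩ := exists_dual (K := K) hc
      have h2 := h.fix (hcF w') hu
      rw [show u • φ (c ⊗ₜ w') = φ (ρ ⟨u, hu⟩ c ⊗ₜ ρ' ⟨u, hu⟩ w') from hφ ⟨u, hu⟩ c w', hcon] at h2
      have h3 := congrArg (TensorProduct.lift ((LinearMap.lsmul K W') ∘ₗ g) : W ⊗[K] W' →ₗ[K] W') (φ.injective h2)
      simpa [hg] using h3
    obtain ⟨x, rfl⟩ := φ.surjective e
    clear he
    induction x using TensorProduct.induction_on with
    | zero => rw [map_zero]; exact smul_zero u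
    | tmul w w' =>
      rw [show u • φ (w ⊗ₜ w') = φ (ρ ⟨u, hu⟩ w ⊗ₜ ρ' ⟨u, hu⟩ w') from hφ ⟨u, hu⟩ w w', hcon, h1]
      rfl
    | add x y hx hy => rw [map_add, smul_add, hx, hy]
  rcases hks with h1 | h1
  · refine key a ha fun w' => h1 ⟨φ (a ⊗ₜ w'), ?_⟩
    rw [hP, hf, one_smul]
  · refine key b hb0 fun w' => h1 ?_
    show P (φ (b ⊗ₜ w')) = 0
    rw [hP, hb, zero_smul, TensorProduct.zero_tmul, map_zero]

variable [Finite Y] [Finite M] [FaithfulSMul Y M] [Finite K] [CharP K 2]

/-- the transported action -/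
noncomputable def trAct {N : Type u} [AddCommGroup N] [Module K N] (hl : ∀ u ∈ U, ∀ (k : K) (v : M), u • k • v = k • u • v)
    (φ : N ≃ₗ[K] M) : U →* Module.End K N where
  toFun u := (φ.symm : M →ₗ[K] N) ∘ₗ (actK hl u) ∘ₗ (φ : N →ₗ[K] M)
  map_one' := by
    ext y
    simp
  map_mul' a b := by
    apply LinearMap.ext
    intro y
    show φ.symm (actK hl (a * b) (φ y)) = φ.symm (actK hl a (φ (φ.symm (actK hl b (φ y)))))
    rw [LinearEquiv.apply_symm_apply, map_mul]
    rfl

theorem trAct_apply {N : Type u} [AddCommGroup N] [Module K N]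
    (hl : ∀ u ∈ U, ∀ (k : K) (v : M), u • k • v = k • u • v) (φ : N ≃ₗ[K] M) (u : U) (y : N) :
    trAct hl φ u y = φ.symm ((u : Y) • φ y) := rfl

/-- the flat structure on `N` -/
theorem Inp.kflat (h : Inp U E F) (hf : Fld U K M) {N : Type u} [AddCommGroup N] [Module K N] (φ : N ≃ₗ[K] M) :
    KFlat (trAct hf.hl φ) ((h.flat.EK hf.hl).map φ.symm.toLinearMap) ((h.flat.FK hf.hl).map φ.symm.toLinearMap) :=
  (h.flat.kflat hf.hl h.four h.pf h.rk).congr φ.symm (fun u v => by
    rw [trAct_apply, LinearEquiv.apply_symm_apply]; rfl)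

/-- **'n = 2'** -/
theorem Inp.two (h : Inp U E F) (hf : Fld U K M) {K₁ K₂ L : Subgroup Y} (h1 : IsComponent K₁) (h2 : IsComponent K₂)
    (hL : IsComponent L) (h12 : K₁ ≠ K₂) : L = K₁ ∨ L = K₂ := by
  by_contra hcon
  push Not at hcon
  have := h.nontrivial
  obtain ⟨R, hR⟩ : ∃ R, R = sSup {J : Subgroup Y | IsComponent J ∧ J ≠ K₁ ∧ J ≠ K₂} := ⟨_, rfl⟩
  have hLR : L ≤ R := by rw [hR]; exact le_sSup ⟨hL, hcon.1, hcon.2⟩
  have hR1 : R ≠ ⊥ := fun h3 => ne_bot hL (le_bot_iff.1 (h3 ▸ hLR))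
  have hRp : ⁅R, R⁆ = R := by rw [hR]; exact perf_sSup fun J hJ => hJ.1
  have cR : ∀ J, IsComponent J → (J = K₁ ∨ J = K₂) → ∀ x ∈ J, ∀ y ∈ R, x * y = y * x := by
    intro J hJ hJ2
    have h3 := comm_sSup (s := {J}) (t := {J : Subgroup Y | IsComponent J ∧ J ≠ K₁ ∧ J ≠ K₂}) (by
      intro M hM
      rw [Set.mem_singleton_iff.mp hM]
      exact hJ) (fun L hL => hL.1) (by
      intro M hM hM'
      rw [Set.mem_singleton_iff.mp hM] at hM'
      rcases hJ2 with h4 | h4
      · exact hM'.2.1 h4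
      · exact hM'.2.2 h4)
    rw [sSup_singleton] at h3
    rw [hR]
    exact h3
  have c₁₂ : ∀ x ∈ K₁, ∀ y ∈ K₂, x * y = y * x := by
    have h3 := comm_sSup (s := {K₁}) (t := {K₂}) (by
      intro M hM
      rw [Set.mem_singleton_iff.mp hM]
      exact h1) (by
      intro M hM
      rw [Set.mem_singleton_iff.mp hM]
      exact h2) (by
      intro M hM hM'
      exact h12 ((Set.mem_singleton_iff.mp hM).symm.trans (Set.mem_singleton_iff.mp hM')))
    rwa [sSup_singleton, sSup_singleton] at h3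
  have hsup : K₁ ⊔ K₂ ⊔ R = layer Y := by
    apply le_antisymm
    · refine sup_le (sup_le (le_sSup h1) (le_sSup h2)) ?_
      rw [hR]
      exact sSup_le fun J hJ => le_sSup hJ.1
    · refine sSup_le fun J hJ => ?_
      by_cases h3 : J = K₁
      · rw [h3]; exact le_sup_left.trans le_sup_left
      by_cases h4 : J = K₂
      · rw [h4]; exact le_sup_right.trans le_sup_left
      · refine le_trans ?_ le_sup_right
        rw [hR]
        exact le_sSup ⟨hJ, h3, h4⟩
  have l₁ : K₁ ≤ layer Y := le_sSup h1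
  have l₂ : K₂ ≤ layer Y := le_sSup h2
  have lR : R ≤ layer Y := by rw [← hsup]; exact le_sup_right
  have hT := two_of3 (K := K) (V := M) c₁₂ (cR K₁ h1 (Or.inl rfl)) (by rw [hsup]; exact hf.lin)
    (by rw [hsup]; exact h.irr) (by rw [hsup]; exact hf.sch)
  obtain ⟨A, B, X, _, _, _, _, _, _, ⟨D⟩⟩ := exists_dec3 hT (linSet_comm (cR K₂ h2 (Or.inr rfl)))
  have := D.finA
  have := D.finB
  have := D.finX
  have := D.neA
  have := D.neB
  have := D.neX
  have hsq : ∀ u : U, u * u = 1 := fun u => Subtype.ext (h.sq u u.2)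
  have hrr : ∀ (u : U) v, actK (V := M) hf.hl u (actK hf.hl u v) = v := fun u v => by
    rw [← Module.End.mul_apply, ← map_mul, hsq, map_one, Module.End.one_apply]
  have hn : ∀ {J : Subgroup Y}, IsComponent J → J ≤ layer Y → ∀ u : U, ∀ l ∈ linSet K M (J : Set Y),
      ∃ l' ∈ linSet K M (J : Set Y), ∀ v, actK hf.hl u (l v) = l' (actK hf.hl u v) := by
    intro J hJ hJl u l hl
    exact linSet_conj (fun y hy => hf.lin y (hJl hy))
      (fun n hn => (mem_normalizer_iff.1 (h.norm hf hJ u.2) n).1 hn) hl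
  obtain ⟨rA, rB, rX, hr⟩ := Swap.exists_hom3 D.φ (actK hf.hl) hsq (fun u => by
    obtain ⟨α', β', γ', h3', h4', h5', h6'⟩ := D.exists_pure (RingEquiv.refl K) (inv2 (actK hf.hl u) (hrr u))
      (fun k v => map_smul (actK hf.hl u) k v) (hn h1 l₁ u) (flip_of hrr (hn h1 l₁ u)) (hn h2 l₂ u)
      (flip_of hrr (hn h2 l₂ u))
    exact ⟨(lin α' h3').toLinearMap, (lin β' h4').toLinearMap, (lin γ' h5').toLinearMap, h6'⟩)
  -- dimensions
  have dA := dim_of (K := K) (V := M) (commutator_self h1) (ne_bot h1) (fun y hy => hf.lin y (l₁ hy)) D.φ D.ρ₁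
    (fun l hl w m => D.h₁ l hl (w ⊗ₜ m))
  have dB := dim_of (K := K) (V := M) (commutator_self h2) (ne_bot h2) (fun y hy => hf.lin y (l₂ hy))
    ((TensorProduct.leftComm K B A X).trans D.φ) D.ρ₂
    (fun l hl b m => by
      induction m using TensorProduct.induction_on with
      | zero => rw [TensorProduct.tmul_zero, TensorProduct.tmul_zero, map_zero, map_zero]
      | tmul a x =>
        show l (D.φ (a ⊗ₜ (b ⊗ₜ x))) = D.φ (a ⊗ₜ (D.ρ₂ l b ⊗ₜ x))
        rw [D.h₂ l hl]
        rfl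
      | add a b ha hb => rw [TensorProduct.tmul_add, TensorProduct.tmul_add, map_add, map_add, map_add, ha, hb])
  have dX := dim_of (K := K) (V := M) hRp hR1 (fun y hy => hf.lin y (lR hy))
    ((TensorProduct.comm K X (A ⊗[K] B)).trans ((TensorProduct.assoc K A B X).trans D.φ)) D.ρ₃
    (fun l hl x m => by
      induction m using TensorProduct.induction_on with
      | zero => rw [TensorProduct.tmul_zero, TensorProduct.tmul_zero, map_zero, map_zero]
      | tmul a b =>
        show l (D.φ (a ⊗ₜ (b ⊗ₜ x))) = D.φ (a ⊗ₜ (b ⊗ₜ D.ρ₃ l x))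
        rw [D.h₃ l hl]
        rfl
      | add a b ha hb => rw [TensorProduct.tmul_add, TensorProduct.tmul_add, map_add, map_add, map_add, ha, hb])
  have dBX : 4 ≤ finrank K (B ⊗[K] X) := by
    rw [Module.finrank_tensorProduct]
    nlinarith [dB.1, dX.1]
  let ρ' : U →* Module.End K (B ⊗[K] X) :=
    { toFun := fun u => TensorProduct.map (rB u) (rX u)
      map_one' := by rw [map_one, map_one]; exact TensorProduct.map_one
      map_mul' := fun a b => by rw [map_mul, map_mul]; exact TensorProduct.map_mul _ _ _ _ }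
  have hφ : ∀ (u : U) a m, (u : Y) • D.φ (a ⊗ₜ m) = D.φ (rA u a ⊗ₜ ρ' u m) := by
    intro u a m
    induction m using TensorProduct.induction_on with
    | zero => simp
    | tmul b x => exact hr u a b x
    | add x y hx hy => rw [TensorProduct.tmul_add, map_add, smul_add, hx, hy, map_add, TensorProduct.tmul_add, map_add]
  have P : PFlat rA ρ' (trAct hf.hl D.φ) _ _ :=
    { flat := h.kflat hf D.φ
      act_eq := fun u => by
        apply TensorProduct.ext'
        intro a m
        rw [trAct_apply, LinearEquiv.symm_apply_eq]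
        exact hφ u a m
      n := ks_tensor h.flat D.φ (fun u => rA u) (fun u => ρ' u) hφ dA.1
      n' := ks_tensor h.flat ((TensorProduct.comm K (B ⊗[K] X) A).trans D.φ) (fun u => ρ' u) (fun u => rA u)
        (fun u m a => hφ u a m) (by omega)
      d := dA.1
      d' := by omega }
  have hfA : Module.Finite K A := Module.Finite.of_finite
  have hfB : Module.Finite K B := Module.Finite.of_finite
  have hfX : Module.Finite K X := Module.Finite.of_finite
  obtain ⟨r, hr1, hr2⟩ := P.exists_cuW (fun _ => by omega)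
  have h3 := P.trans hr1 hr2
  have h4 : 2 ≤ finrank K (LinearMap.range (TensorProduct.map (rB r) (rX r) - 1)) := by
    apply two_le_rank
    · intro b
      rw [← Module.End.mul_apply, ← map_mul, hsq, map_one, Module.End.one_apply]
    · intro b
      rw [← Module.End.mul_apply, ← map_mul, hsq, map_one, Module.End.one_apply]
    · exact dB.1
    · exact dX.1
    · exact fun h5 => hr1 (P.eq_one hr2 h5)
  have h5 : finrank K (LinearMap.range (ρ' r - 1)) = 1 := h3
  have h6 : (ρ' r - 1 : Module.End K (B ⊗[K] X)) = TensorProduct.map (rB r) (rX r) - 1 := rfl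
  rw [h6] at h5
  omega

end Cfsg.Agent.Omega.NO1.Comp

end

section


/-!
# N1, THEOREM COMP: `V` is irreducible for `E(Y)` (project OMEGA)

Text: helper390 (bb OMEGA #17539, (1)), part (III) of the split #18039. Typed by helper570.

`M` a finite elementary abelian 2-group on which `Y` acts irreducibly and preserves no decomposition (`Prim`).

* `irr_normal` : `N` normal, `T` a 2-subgroup, `N ⊔ T = ⊤` ⟹ `M` is irreducible for `N`.
* `Grp.Sit.irr_layer` : `M` is irreducible for `E(Y)`.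
-/

set_option autoImplicit false
set_option linter.unusedSectionVars false

namespace Cfsg.Agent.Omega.NO1.Comp.Irr

open Subgroup Cfsg Cfsg.Agent.Omega.EH3.Clif Module

variable {Y M : Type*} [Group Y] [AddCommGroup M] [DistribMulAction Y M]

/-- the image of a subgroup -/
def ya (y : Y) (A : AddSubgroup M) : AddSubgroup M := A.map (DistribSMul.toAddMonoidHom M y)

theorem mem_ya {y : Y} {A : AddSubgroup M} {m : M} : m ∈ ya y A ↔ y⁻¹ • m ∈ A := by
  constructor
  · rintro ⟨a, ha, rfl⟩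
    show y⁻¹ • (y • a) ∈ A
    rwa [inv_smul_smul]
  · intro h
    exact ⟨_, h, by show y • (y⁻¹ • m) = m; rw [smul_inv_smul]⟩

theorem ya_ya (x y : Y) (A : AddSubgroup M) : ya x (ya y A) = ya (x * y) A := by
  ext m
  rw [mem_ya, mem_ya, mem_ya, mul_inv_rev, mul_smul]

theorem ya_one (A : AddSubgroup M) : ya (1 : Y) A = A := by
  ext m
  rw [mem_ya, inv_one, one_smul]

variable (Y M) in
/-- `Y` permutes transitively the members of no decomposition of `M` -/
def Prim : Prop := ∀ 𝒮 : Set (AddSubgroup M), (∀ A ∈ 𝒮, A ≠ ⊥) → (∀ y : Y, ∀ A ∈ 𝒮, ya y A ∈ 𝒮) →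
  (∀ A ∈ 𝒮, ∀ B ∈ 𝒮, ∃ y : Y, ya y A = B) → sSupIndep 𝒮 → sSup 𝒮 = ⊤ → ∀ A ∈ 𝒮, A = ⊤

variable (Y M) in
/-- no proper invariant subgroups -/
def Irred : Prop := ∀ W : AddSubgroup M, (∀ y : Y, ∀ m ∈ W, y • m ∈ W) → W = ⊥ ∨ W = ⊤

section

variable [Module (ZMod 2) M]

variable (Y M) in
/-- the action, linear -/
def rho : Y →* (M ≃ₗ[ZMod 2] M) where
  toFun y :=
    { DistribMulAction.toAddEquiv M y with
      map_smul' := by
        intro c m
        rcases EH3.zmod_two c with rfl | rfl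
        · show y • ((0 : ZMod 2) • m) = (0 : ZMod 2) • (y • m)
          rw [zero_smul, zero_smul, smul_zero]
        · show y • ((1 : ZMod 2) • m) = (1 : ZMod 2) • (y • m)
          rw [one_smul, one_smul] }
  map_one' := by
    ext m
    exact one_smul Y m
  map_mul' := by
    intro x y
    ext m
    exact mul_smul x y m

@[simp] theorem rho_apply (y : Y) (m : M) : rho Y M y m = y • m := rfl

theorem two' (m : M) : m + m = 0 := by
  rw [← two_smul (ZMod 2) m]
  have : (2 : ZMod 2) = 0 := rfl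
  rw [this, zero_smul]

theorem irred_sub (h : Irred Y M) (W : Submodule (ZMod 2) M) (hW : ∀ y, ∀ v ∈ W, rho Y M y v ∈ W) :
    W = ⊥ ∨ W = ⊤ := by
  rcases h W.toAddSubgroup hW with h1 | h1
  · left
    rw [eq_bot_iff]
    intro v hv
    have : v ∈ W.toAddSubgroup := hv
    rw [h1] at this
    exact this
  · right
    rw [eq_top_iff]
    intro v _
    have : v ∈ W.toAddSubgroup := by rw [h1]; exact AddSubgroup.mem_top v
    exact this

theorem irr_aux [Finite M] (hirr : Irred Y M) (prim : Prim Y M) {N T : Subgroup Y} (hN : N.Normal)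
    (hT : IsPGroup 2 T) (hNT : N ⊔ T = ⊤) (W : AddSubgroup M) (hW : ∀ x ∈ N, ∀ m ∈ W, x • m ∈ W) :
    W = ⊥ ∨ W = ⊤ := by
  classical
  rcases subsingleton_or_nontrivial M with hM | hM
  · left
    rw [eq_bot_iff]
    intro v _
    rw [Subsingleton.elim v 0]
    exact (⊥ : AddSubgroup M).zero_mem
  set ρ := rho Y M with hρ
  have hss : IsSemisimpleModule (S ρ N) M := semisimple_normal (irred_sub hirr) hN
  have hNor : ∀ x : (⊤ : Subgroup Y), Nor (S ρ N) (rep ρ ⊤ x) := fun x =>
    nor_rep x (fun n hn => by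
      have := hN.conj_mem n hn (x : Y)⁻¹
      rwa [inv_inv] at this) fun n hn => hN.conj_mem n hn x
  have hNorT : ∀ x : T, Nor (S ρ N) (rep ρ T x) := fun x =>
    nor_rep x (fun n hn => by
      have := hN.conj_mem n hn (x : Y)⁻¹
      rwa [inv_inv] at this) fun n hn => hN.conj_mem n hn x
  obtain ⟨S₀, hS₀⟩ := IsAtomic.exists_atom (Submodule (S ρ N) M)
  rw [← isSimpleModule_iff_isAtom] at hS₀
  let c : Submodule (S ρ N) M := isotypicComponent (S ρ N) M S₀
  have hc : c ∈ isotypicComponents (S ρ N) M := ⟨S₀, hS₀, rfl⟩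
  -- one isotypic component
  have hcy : ∀ y : Y, ∃ d ∈ isotypicComponents (S ρ N) M, ya y c.toAddSubgroup = d.toAddSubgroup := by
    intro y
    refine ⟨cs (rep ρ ⊤ ⟨y, mem_top y⟩) (hNor _) c, cs_mem _ _ hc, ?_⟩
    ext v
    rw [mem_ya]
    show _ ↔ (rep ρ ⊤ ⟨y, mem_top y⟩).symm v ∈ c
    rw [rep_symm]
    rfl
  have hc0 : c.toAddSubgroup ≠ ⊥ := by
    intro h2
    apply (bot_lt_isotypicComponents hc).ne'
    rw [eq_bot_iff]
    intro v hv
    have : v ∈ c.toAddSubgroup := hv
    rw [h2] at this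
    exact this
  have htop : c = ⊤ := by
    have h1 := prim (Set.range fun y : Y => ya y c.toAddSubgroup) ?_ ?_ ?_ ?_ ?_ c.toAddSubgroup ⟨1, ya_one _⟩
    · rw [eq_top_iff]
      intro v _
      have : v ∈ c.toAddSubgroup := by rw [h1]; exact AddSubgroup.mem_top v
      exact this
    · rintro _ ⟨y, rfl⟩ h2
      apply hc0
      change ya y c.toAddSubgroup = ⊥ at h2
      have h3 := congrArg (ya y⁻¹) h2
      rw [ya_ya, inv_mul_cancel, ya_one] at h3
      rw [h3]
      exact AddSubgroup.map_bot _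
    · rintro y _ ⟨x, rfl⟩
      exact ⟨y * x, (ya_ya _ _ _).symm⟩
    · rintro _ ⟨x, rfl⟩ _ ⟨y, rfl⟩
      refine ⟨y * x⁻¹, ?_⟩
      show ya (y * x⁻¹) (ya x c.toAddSubgroup) = ya y c.toAddSubgroup
      rw [ya_ya, inv_mul_cancel_right]
    · have h2 := sSupIndep_isotypicComponents (S ρ N) M
      rintro _ ⟨y, rfl⟩
      obtain ⟨d, hd, e⟩ := hcy y
      change Disjoint (ya y c.toAddSubgroup) (sSup ((Set.range fun y : Y => ya y c.toAddSubgroup) \ {ya y c.toAddSubgroup}))
      rw [e, disjoint_iff, eq_bot_iff]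
      rintro v ⟨hv1, hv2⟩
      have h3 := h2 hd
      rw [disjoint_iff, eq_bot_iff] at h3
      have h4 : sSup ((Set.range fun y : Y => ya y c.toAddSubgroup) \ {d.toAddSubgroup}) ≤
          (sSup (isotypicComponents (S ρ N) M \ {d})).toAddSubgroup := by
        apply sSup_le
        rintro _ ⟨⟨x, rfl⟩, hne⟩
        obtain ⟨f, hf, e'⟩ := hcy x
        change ya x c.toAddSubgroup ≤ _
        rw [e']
        have h5 : f ≤ sSup (isotypicComponents (S ρ N) M \ {d}) := by
          apply le_sSup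
          refine ⟨hf, fun h => hne ?_⟩
          rw [← Set.mem_singleton_iff.mp h]
          exact e'
        exact h5
      exact h3 ⟨hv1, h4 hv2⟩
    · refine (hirr _ ?_).resolve_left ?_
      · intro y v hv
        have h6 : ya y (sSup (Set.range fun y : Y => ya y c.toAddSubgroup)) ≤
            sSup (Set.range fun y : Y => ya y c.toAddSubgroup) := by
          unfold ya
          rw [AddSubgroup.map_le_iff_le_comap]
          apply sSup_le
          rintro _ ⟨x, rfl⟩
          rw [← AddSubgroup.map_le_iff_le_comap]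
          refine le_trans ?_ (le_sSup ⟨y * x, rfl⟩)
          exact (ya_ya _ _ _).le
        exact h6 ⟨v, hv, rfl⟩
      · intro h2
        apply hc0
        rw [eq_bot_iff, ← h2]
        exact le_sSup ⟨1, ya_one _⟩
  have hiso : IsIsotypicOfType (S ρ N) M S₀ := IsIsotypicOfType.of_isotypicComponent_eq_top htop
  obtain ⟨U, hU, -, hUinv⟩ := exists_inv_simple two' hT (rep ρ T) hNorT (V₁ := (⊤ : Submodule (S ρ N) M))
    (M₀ := S₀) (fun _ _ _ => Submodule.mem_top) hS₀ le_top (by
      intro M'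
      have := M'.2.1
      obtain ⟨φ⟩ := hiso M'.1
      exact ⟨φ.symm⟩)
  have hUtop : U = ⊤ := by
    have h1 : ∀ y : Y, ∀ m ∈ U.toAddSubgroup, y • m ∈ U.toAddSubgroup := by
      intro y m hm
      have h2 : y ∈ T ⊔ N := by rw [sup_comm, hNT]; exact mem_top y
      obtain ⟨t, ht, x, hx, rfl⟩ := mem_sup_of_normal_right.mp h2
      rw [mul_smul]
      exact hUinv ⟨t, ht⟩ _ (inv_of_sub U hx hm)
    rcases hirr _ h1 with h2 | h2
    · exfalso
      have : Nontrivial U := IsSimpleModule.nontrivial (S ρ N) U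
      obtain ⟨m, hm⟩ := exists_ne (0 : U)
      apply hm
      apply Subtype.ext
      have : (m : M) ∈ U.toAddSubgroup := m.2
      rw [h2] at this
      exact this
    · rw [eq_top_iff]
      intro v _
      have : v ∈ U.toAddSubgroup := by rw [h2]; exact AddSubgroup.mem_top v
      exact this
  rw [isSimpleModule_iff_isAtom, hUtop] at hU
  by_cases h1 : toSub (ρ := ρ) W hW = ⊤
  · right
    rw [eq_top_iff]
    intro v _
    have : v ∈ toSub (ρ := ρ) W hW := by rw [h1]; exact Submodule.mem_top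
    exact this
  · left
    have h2 := hU.2 _ (lt_top_iff_ne_top.mpr h1)
    rw [eq_bot_iff]
    intro v hv
    have : v ∈ toSub (ρ := ρ) W hW := hv
    rw [h2, Submodule.mem_bot] at this
    rw [this]
    exact AddSubgroup.zero_mem _

end

/-- `M` is irreducible for a normal subgroup `N` with `Y = NT`, `T` a 2-group -/
theorem irr_normal [Finite M] (two : ∀ m : M, m + m = 0) (hirr : Irred Y M) (prim : Prim Y M) {N T : Subgroup Y}
    (hN : N.Normal) (hT : IsPGroup 2 T) (hNT : N ⊔ T = ⊤) (W : AddSubgroup M)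
    (hW : ∀ x ∈ N, ∀ m ∈ W, x • m ∈ W) : W = ⊥ ∨ W = ⊤ := by
  let _ : Module (ZMod 2) M := AddCommGroup.zmodModule (n := 2) (fun x => by rw [two_nsmul]; exact two x)
  exact irr_aux hirr prim hN hT hNT W hW

/-- `M` is irreducible for `E(Y)` -/
theorem _root_.Cfsg.Agent.Omega.NO1.Comp.Grp.Sit.irr_layer [Finite Y] [Finite M] {T : Sylow 2 Y} {Mx K : Subgroup Y}
    (h : Grp.Sit T Mx K) (two : ∀ m : M, m + m = 0) (hirr : Irred Y M) (prim : Prim Y M) (W : AddSubgroup M)
    (hW : ∀ x ∈ layer Y, ∀ m ∈ W, x • m ∈ W) : W = ⊥ ∨ W = ⊤ :=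
  irr_normal two hirr prim Grp.layer_normal T.2 h.layer_sup W hW

end Cfsg.Agent.Omega.NO1.Comp.Irr

end

section


/-!
# N1, THEOREM COMP, (6): `dim W = 2` and `SL(W)` is induced (project OMEGA)

Text: helper390 (bb OMEGA #17539). Typed by helper570.

`Y` acts on `M = W ⊗ W'`, every element is a pure tensor or a swap.

* `Ind φ f h y` : `y` induces the transvection `w ↦ w + f w • h` on `W` (trivially on `W'`).
* `all_transv` : if the full group of transvections with one axis is induced and `W` is irreducible, all transvections of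
  `W` are induced.
* `all_transv'` : the same for `W'`.
* `finrank_eq_two` : a Sylow 2-subgroup of `Y` is contained in a unique maximal subgroup ⟹ `dim W = 2`.
* `sl_two` : `dim W = 2` ⟹ every `A` with `det A = 1` is induced.
-/

set_option autoImplicit false
set_option linter.unusedSectionVars false

namespace Cfsg.Agent.Omega.NO1.Comp.Six

open TensorProduct Module
open Cfsg.Agent.Omega.NO1.Comp.Irr (ya ya_ya ya_one mem_ya Irred)

section basic

variable {K W W' M Y : Type*} [Field K] [AddCommGroup W] [Module K W] [AddCommGroup W'] [Module K W']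
  [AddCommGroup M] [Module K M] [Group Y] [DistribMulAction Y M] (φ : W ⊗[K] W' ≃ₗ[K] M)

/-- `y` is the pure tensor `α ⊗ β` -/
def Pur (y : Y) (σ : K ≃+* K) (α : W ≃+ W) (β : W' ≃+ W') : Prop :=
  (∀ (k : K) (w : W), α (k • w) = σ k • α w) ∧ (∀ (k : K) (w : W'), β (k • w) = σ k • β w) ∧
    ∀ w w', y • φ (w ⊗ₜ w') = φ (α w ⊗ₜ β w')

/-- `y` is a swap -/
def Swp (y : Y) (σ : K ≃+* K) (α : W ≃+ W') (β : W' ≃+ W) : Prop :=
  (∀ (k : K) (w : W), α (k • w) = σ k • α w) ∧ (∀ (k : K) (w : W'), β (k • w) = σ k • β w) ∧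
    ∀ w w', y • φ (w ⊗ₜ w') = φ (β w' ⊗ₜ α w)

/-- `y` is a pure tensor -/
def IsPure (y : Y) : Prop := ∃ σ α β, Pur φ y σ α β

/-- `y` is a swap -/
def IsSwap (y : Y) : Prop := ∃ σ α β, Swp φ y σ α β

variable {φ}

theorem symm_smul {X X' : Type*} [AddCommGroup X] [Module K X] [AddCommGroup X'] [Module K X'] {σ : K ≃+* K}
    {α : X ≃+ X'} (h : ∀ (k : K) (x : X), α (k • x) = σ k • α x) (k : K) (x : X') :
    α.symm (k • x) = σ.symm k • α.symm x := by
  rw [α.symm_apply_eq, h, σ.apply_symm_apply, α.apply_symm_apply]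

theorem pur_one : Pur φ (1 : Y) (RingEquiv.refl K) (AddEquiv.refl W) (AddEquiv.refl W') :=
  ⟨fun _ _ => rfl, fun _ _ => rfl, fun _ _ => one_smul _ _⟩

theorem Pur.mul {x y : Y} {σ τ : K ≃+* K} {α α' : W ≃+ W} {β β' : W' ≃+ W'} (h : Pur φ x σ α β)
    (h' : Pur φ y τ α' β') : Pur φ (x * y) (τ.trans σ) (α'.trans α) (β'.trans β) :=
  ⟨fun k w => by
      show α (α' (k • w)) = σ (τ k) • α (α' w)
      rw [h'.1, h.1], fun k w => by
      show β (β' (k • w)) = σ (τ k) • β (β' w)
      rw [h'.2.1, h.2.1], fun w w' => by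
      rw [mul_smul, h'.2.2, h.2.2]
      rfl⟩

theorem Pur.inv {x : Y} {σ : K ≃+* K} {α : W ≃+ W} {β : W' ≃+ W'} (h : Pur φ x σ α β) :
    Pur φ x⁻¹ σ.symm α.symm β.symm :=
  ⟨symm_smul h.1, symm_smul h.2.1, fun w w' => by
    rw [inv_smul_eq_iff, h.2.2, α.apply_symm_apply, β.apply_symm_apply]⟩

theorem Swp.mul {x y : Y} {σ τ : K ≃+* K} {α α' : W ≃+ W'} {β β' : W' ≃+ W} (h : Swp φ x σ α β)
    (h' : Swp φ y τ α' β') : Pur φ (x * y) (τ.trans σ) (α'.trans β) (β'.trans α) :=
  ⟨fun k w => by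
      show β (α' (k • w)) = σ (τ k) • β (α' w)
      rw [h'.1, h.2.1], fun k w => by
      show α (β' (k • w)) = σ (τ k) • α (β' w)
      rw [h'.2.1, h.1], fun w w' => by
      rw [mul_smul, h'.2.2, h.2.2]
      rfl⟩

theorem Swp.inv {x : Y} {σ : K ≃+* K} {α : W ≃+ W'} {β : W' ≃+ W} (h : Swp φ x σ α β) :
    Swp φ x⁻¹ σ.symm β.symm α.symm :=
  ⟨symm_smul h.2.1, symm_smul h.1, fun w w' => by
    rw [inv_smul_eq_iff, h.2.2, α.apply_symm_apply, β.apply_symm_apply]⟩

theorem IsPure.mul {x y : Y} (hx : IsPure φ x) (hy : IsPure φ y) : IsPure φ (x * y) := by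
  obtain ⟨_, _, _, hx⟩ := hx
  obtain ⟨_, _, _, hy⟩ := hy
  exact ⟨_, _, _, hx.mul hy⟩

theorem IsPure.inv {x : Y} (hx : IsPure φ x) : IsPure φ x⁻¹ := by
  obtain ⟨_, _, _, hx⟩ := hx
  exact ⟨_, _, _, hx.inv⟩

theorem IsSwap.mul {x y : Y} (hx : IsSwap φ x) (hy : IsSwap φ y) : IsPure φ (x * y) := by
  obtain ⟨_, _, _, hx⟩ := hx
  obtain ⟨_, _, _, hy⟩ := hy
  exact ⟨_, _, _, hx.mul hy⟩

theorem IsSwap.inv {x : Y} (hx : IsSwap φ x) : IsSwap φ x⁻¹ := by
  obtain ⟨_, _, _, hx⟩ := hx
  exact ⟨_, _, _, hx.inv⟩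

theorem IsPure.mul_swap {x y : Y} (hx : IsPure φ x) (hy : IsSwap φ y) : IsSwap φ (x * y) := by
  obtain ⟨σ, α, β, hx⟩ := hx
  obtain ⟨τ, α', β', hy⟩ := hy
  refine ⟨τ.trans σ, α'.trans β, β'.trans α, fun k w => ?_, fun k w => ?_, fun w w' => ?_⟩
  · show β (α' (k • w)) = σ (τ k) • β (α' w)
    rw [hy.1, hx.2.1]
  · show α (β' (k • w)) = σ (τ k) • α (β' w)
    rw [hy.2.1, hx.1]
  · rw [mul_smul, hy.2.2, hx.2.2]
    rfl

variable (φ) in
/-- the subgroup of pure tensors -/
def pureSub : Subgroup Y where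
  carrier := {y | IsPure φ y}
  one_mem' := ⟨_, _, _, pur_one⟩
  mul_mem' := by
    rintro x y ⟨_, _, _, hx⟩ ⟨_, _, _, hy⟩
    exact ⟨_, _, _, hx.mul hy⟩
  inv_mem' := by
    rintro x ⟨_, _, _, hx⟩
    exact ⟨_, _, _, hx.inv⟩

theorem mem_pureSub {y : Y} : y ∈ pureSub φ ↔ IsPure φ y := Iff.rfl

/-! ### transvections -/

variable (φ) in
/-- `y` induces the transvection `w ↦ w + f w • h` on `W` -/
def Ind (f : Dual K W) (h : W) (y : Y) : Prop := ∀ w w', y • φ (w ⊗ₜ w') = φ ((w + f w • h) ⊗ₜ w')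

variable (φ) in
/-- `y` induces the transvection `w ↦ w + f w • h` on `W'` -/
def Ind' (f : Dual K W') (h : W') (y : Y) : Prop := ∀ w w', y • φ (w ⊗ₜ w') = φ (w ⊗ₜ (w' + f w' • h))

variable [CharP K 2]

theorem add_self_eq {X : Type*} [AddCommGroup X] [Module K X] (x : X) : x + x = 0 := by
  rw [← two_smul K x, CharTwo.two_eq_zero, zero_smul]

/-- a transvection -/
def tv (f : Dual K W) (h : W) (hf : f h = 0) : W ≃+ W where
  toFun w := w + f w • h
  invFun w := w + f w • h
  left_inv w := by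
    show w + f w • h + f (w + f w • h) • h = w
    rw [map_add, map_smul, hf, smul_zero, add_zero, add_assoc, add_self_eq (K := K), add_zero]
  right_inv w := by
    show w + f w • h + f (w + f w • h) • h = w
    rw [map_add, map_smul, hf, smul_zero, add_zero, add_assoc, add_self_eq (K := K), add_zero]
  map_add' u v := by
    rw [map_add, add_smul]
    abel

theorem tv_apply (f : Dual K W) (h : W) (hf : f h = 0) (w : W) : tv f h hf w = w + f w • h := rfl

theorem tv_symm_apply (f : Dual K W) (h : W) (hf : f h = 0) (w : W) : (tv f h hf).symm w = w + f w • h := rfl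

theorem Ind.pur {f : Dual K W} {h : W} (hf : f h = 0) {y : Y} (hy : Ind φ f h y) :
    Pur φ y (RingEquiv.refl K) (tv f h hf) (AddEquiv.refl W') :=
  ⟨fun k w => by
    show k • w + f (k • w) • h = k • (w + f w • h)
    rw [map_smul, smul_add, smul_eq_mul, mul_smul], fun _ _ => rfl, hy⟩

/-- the conjugate functional -/
def tw {X X' : Type*} [AddCommGroup X] [Module K X] [AddCommGroup X'] [Module K X'] (σ : K ≃+* K)
    (α : X ≃+ X') (h : ∀ (k : K) (x : X), α (k • x) = σ k • α x) (f : Dual K X) : Dual K X' where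
  toFun x := σ (f (α.symm x))
  map_add' u v := by rw [map_add, map_add, map_add]
  map_smul' k x := by
    rw [symm_smul h, map_smul, smul_eq_mul, map_mul, σ.apply_symm_apply]
    rfl

omit [CharP K 2] in
theorem tw_apply {X X' : Type*} [AddCommGroup X] [Module K X] [AddCommGroup X'] [Module K X'] (σ : K ≃+* K)
    (α : X ≃+ X') (h : ∀ (k : K) (x : X), α (k • x) = σ k • α x) (f : Dual K X) (x : X') :
    tw σ α h f x = σ (f (α.symm x)) := rfl

theorem Ind.conj {f : Dual K W} {h : W} {y : Y} (hy : Ind φ f h y) {g : Y} {σ : K ≃+* K} {α : W ≃+ W}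
    {β : W' ≃+ W'} (hg : Pur φ g σ α β) : Ind φ (tw σ α hg.1 f) (α h) (g * y * g⁻¹) := by
  intro w w'
  rw [mul_smul, mul_smul, hg.inv.2.2, hy, hg.2.2, β.apply_symm_apply, map_add, α.apply_symm_apply, hg.1, tw_apply]

/-- a swap carries transvections of `W` to transvections of `W'` -/
theorem Ind.conj_swp {f : Dual K W} {h : W} {y : Y} (hy : Ind φ f h y) {g : Y} {σ : K ≃+* K} {α : W ≃+ W'}
    {β : W' ≃+ W} (hg : Swp φ g σ α β) : Ind' φ (tw σ α hg.1 f) (α h) (g * y * g⁻¹) := by
  intro w w'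
  rw [mul_smul, mul_smul, hg.inv.2.2, hy, hg.2.2, β.apply_symm_apply, map_add, α.apply_symm_apply, hg.1, tw_apply]

variable (φ) in
/-- the functionals with a full transvection group -/
def full : Set (Dual K W) := {f | ∀ h, f h = 0 → ∃ y : Y, Ind φ f h y}

theorem full_smul {f : Dual K W} (hf : f ∈ full (Y := Y) φ) (k : K) : k • f ∈ full (Y := Y) φ := by
  intro h hh
  by_cases hk : k = 0
  · subst hk
    refine ⟨1, fun w w' => ?_⟩
    rw [one_smul, zero_smul, LinearMap.zero_apply, zero_smul, add_zero]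
  · have h1 : f (k • h) = 0 := by
      rw [LinearMap.smul_apply, smul_eq_mul] at hh
      rw [map_smul, smul_eq_mul, hh]
    obtain ⟨y, hy⟩ := hf (k • h) h1
    refine ⟨y, fun w w' => ?_⟩
    rw [hy, LinearMap.smul_apply, smul_smul, smul_eq_mul, mul_comm]

theorem full_add {f₁ f₂ : Dual K W} (h₁ : f₁ ∈ full (Y := Y) φ) (h₂ : f₂ ∈ full (Y := Y) φ) :
    f₁ + f₂ ∈ full (Y := Y) φ := by
  by_cases hc : ∃ k, f₁ k = 0 ∧ f₂ k ≠ 0
  · obtain ⟨k₀, hk₀, hk₀'⟩ := hc
    obtain ⟨k, hk, hk'⟩ : ∃ k, f₁ k = 0 ∧ f₂ k = 1 := by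
      refine ⟨(f₂ k₀)⁻¹ • k₀, ?_, ?_⟩
      · rw [map_smul, hk₀, smul_zero]
      · rw [map_smul, smul_eq_mul, inv_mul_cancel₀ hk₀']
    intro h hh
    obtain ⟨g, hg⟩ := h₁ k hk
    have hp := hg.pur hk
    have h3 : f₂ ((tv f₁ k hk).symm h) = 0 := by
      rw [tv_symm_apply, map_add, map_smul, hk', smul_eq_mul, mul_one, add_comm]
      exact hh
    obtain ⟨y, hy⟩ := h₂ _ h3
    refine ⟨g * y * g⁻¹, ?_⟩
    have h4 := hy.conj hp
    rw [AddEquiv.apply_symm_apply] at h4
    have h5 : tw (RingEquiv.refl K) (tv f₁ k hk) hp.1 f₂ = f₁ + f₂ := by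
      ext w
      rw [tw_apply, tv_symm_apply, RingEquiv.refl_apply, map_add, map_smul, hk', smul_eq_mul, mul_one, add_comm]
      rfl
    rwa [h5] at h4
  · push Not at hc
    have h3 : ∃ c : K, f₂ = c • f₁ := by
      by_cases h0 : f₁ = 0
      · refine ⟨0, ?_⟩
        rw [zero_smul]
        ext w
        exact hc w (by rw [h0]; rfl)
      · obtain ⟨v, hv⟩ : ∃ v, f₁ v ≠ 0 := by
          by_contra hcon
          push Not at hcon
          exact h0 (LinearMap.ext hcon)
        refine ⟨f₂ v * (f₁ v)⁻¹, ?_⟩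
        ext w
        have h4 := hc (w - (f₁ w * (f₁ v)⁻¹) • v) (by
          rw [map_sub, map_smul, smul_eq_mul, mul_assoc, inv_mul_cancel₀ hv, mul_one, sub_self])
        rw [map_sub, map_smul, smul_eq_mul, sub_eq_zero] at h4
        rw [h4, LinearMap.smul_apply, smul_eq_mul]
        ring
    obtain ⟨c, rfl⟩ := h3
    have h4 : f₁ + c • f₁ = (1 + c) • f₁ := by rw [add_smul, one_smul]
    rw [h4]
    exact full_smul h₁ _

variable (φ) in
/-- the functionals with a full transvection group -/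
def fullSub : Submodule K (Dual K W) where
  carrier := full (Y := Y) φ
  zero_mem' := by
    intro h _
    refine ⟨1, fun w w' => ?_⟩
    rw [one_smul, LinearMap.zero_apply, zero_smul, add_zero]
  add_mem' := full_add
  smul_mem' := fun k _ hf => full_smul hf k

/-- **(6a)** all transvections of `W` are induced -/
theorem all_transv [Finite W] {f₀ : Dual K W} (h0 : f₀ ≠ 0) (hf : ∀ h, f₀ h = 0 → ∃ y : Y, Ind φ f₀ h y)
    (irr : ∀ N : Submodule K W, (∀ (y : Y) σ α β, Pur φ y σ α β → ∀ w ∈ N, α w ∈ N) → N = ⊥ ∨ N = ⊤)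
    (f : Dual K W) (h : W) (hh : f h = 0) : ∃ y : Y, Ind φ f h y := by
  have : Module.Finite K W := Module.Finite.of_finite
  have hf₀ : f₀ ∈ fullSub (Y := Y) φ := hf
  have h1 : (fullSub (Y := Y) φ).dualCoannihilator = ⊥ := by
    refine (irr _ ?_).resolve_right ?_
    · intro y σ α β hy w hw
      rw [Submodule.mem_dualCoannihilator] at hw ⊢
      intro g hg
      have h2 : tw σ.symm α.symm hy.inv.1 g ∈ fullSub (Y := Y) φ := by
        intro k hk
        rw [tw_apply] at hk
        have h3 : g (α k) = 0 := by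
          have := σ.symm.injective (hk.trans (map_zero _).symm)
          exact this
        obtain ⟨x, hx⟩ := hg _ h3
        refine ⟨y⁻¹ * x * y⁻¹⁻¹, ?_⟩
        have h4 := hx.conj hy.inv
        rwa [AddEquiv.symm_apply_apply] at h4
      have h3 := hw _ h2
      rw [tw_apply] at h3
      exact σ.symm.injective (h3.trans (map_zero _).symm)
    · intro htop
      apply h0
      ext w
      have h2 : w ∈ (fullSub (Y := Y) φ).dualCoannihilator := by rw [htop]; exact Submodule.mem_top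
      rw [Submodule.mem_dualCoannihilator] at h2
      exact h2 _ hf₀
  have h2 : fullSub (Y := Y) φ = ⊤ := by
    have h3 := Subspace.dualCoannihilator_dualAnnihilator_eq (W := fullSub (Y := Y) φ)
    rw [h1, Submodule.dualAnnihilator_bot] at h3
    exact h3.symm
  have h3 : f ∈ fullSub (Y := Y) φ := by rw [h2]; exact Submodule.mem_top
  exact h3 h hh

/-- all transvections of `W'` are induced -/
theorem all_transv' {s : Y} (hs : IsSwap φ s)
    (hall : ∀ (f : Dual K W) (h : W), f h = 0 → ∃ y : Y, Ind φ f h y) (f : Dual K W') (h : W') (hh : f h = 0) :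
    ∃ y : Y, Ind' φ f h y := by
  obtain ⟨σ, α, β, hs⟩ := hs
  obtain ⟨y, hy⟩ := hall (tw σ.symm α.symm (symm_smul hs.1) f) (α.symm h) (by
    rw [tw_apply]
    show σ.symm (f (α (α.symm h))) = 0
    rw [α.apply_symm_apply, hh, map_zero])
  refine ⟨s * y * s⁻¹, ?_⟩
  have h1 := hy.conj_swp hs
  rw [α.apply_symm_apply] at h1
  have h2 : tw σ α hs.1 (tw σ.symm α.symm (symm_smul hs.1) f) = f := by
    ext w
    rw [tw_apply, tw_apply]
    show σ (σ.symm (f (α (α.symm w)))) = f w
    rw [σ.apply_symm_apply, α.apply_symm_apply]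
  rwa [h2] at h1

/-! ### `W ⊗ N'` and `N ⊗ W'` -/

variable (φ) in
/-- `φ(N ⊗ W')` -/
def emb (N : Submodule K W) : AddSubgroup M := AddSubgroup.closure {x | ∃ n ∈ N, ∃ w' : W', φ (n ⊗ₜ w') = x}

variable (φ) in
/-- `φ(W ⊗ N')` -/
def emb' (N : Submodule K W') : AddSubgroup M := AddSubgroup.closure {x | ∃ n ∈ N, ∃ w : W, φ (w ⊗ₜ n) = x}

/-- the image of a subspace -/
def img {X X' : Type*} [AddCommGroup X] [Module K X] [AddCommGroup X'] [Module K X'] (σ : K ≃+* K)
    (α : X ≃+ X') (h : ∀ (k : K) (x : X), α (k • x) = σ k • α x) (N : Submodule K X) : Submodule K X' where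
  carrier := {x | α.symm x ∈ N}
  add_mem' := by
    intro a b ha hb
    show α.symm (a + b) ∈ N
    rw [map_add]
    exact N.add_mem ha hb
  zero_mem' := by
    show α.symm 0 ∈ N
    rw [map_zero]
    exact N.zero_mem
  smul_mem' := by
    intro k x hx
    show α.symm (k • x) ∈ N
    rw [symm_smul h]
    exact N.smul_mem _ hx

omit [CharP K 2] in
theorem mem_img {X X' : Type*} [AddCommGroup X] [Module K X] [AddCommGroup X'] [Module K X'] {σ : K ≃+* K}
    {α : X ≃+ X'} {h : ∀ (k : K) (x : X), α (k • x) = σ k • α x} {N : Submodule K X} {x : X'} :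
    x ∈ img σ α h N ↔ α.symm x ∈ N := Iff.rfl

omit [CharP K 2] in
theorem ya_emb {y : Y} {σ : K ≃+* K} {α : W ≃+ W} {β : W' ≃+ W'} (h : Pur φ y σ α β) (N : Submodule K W) :
    ya y (emb φ N) = emb φ (img σ α h.1 N) := by
  unfold ya emb
  rw [AddMonoidHom.map_closure]
  congr 1
  ext x
  constructor
  · rintro ⟨_, ⟨n, hn, w', rfl⟩, rfl⟩
    refine ⟨α n, ?_, β w', ?_⟩
    · rw [mem_img, α.symm_apply_apply]
      exact hn
    · exact (h.2.2 n w').symm
  · rintro ⟨n, hn, w', rfl⟩
    refine ⟨_, ⟨α.symm n, hn, β.symm w', rfl⟩, ?_⟩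
    show y • φ _ = _
    rw [h.2.2, α.apply_symm_apply, β.apply_symm_apply]

omit [CharP K 2] in
theorem ya_emb' {y : Y} {σ : K ≃+* K} {α : W ≃+ W} {β : W' ≃+ W'} (h : Pur φ y σ α β) (N : Submodule K W') :
    ya y (emb' φ N) = emb' φ (img σ β h.2.1 N) := by
  unfold ya emb'
  rw [AddMonoidHom.map_closure]
  congr 1
  ext x
  constructor
  · rintro ⟨_, ⟨n, hn, w, rfl⟩, rfl⟩
    refine ⟨β n, ?_, α w, ?_⟩
    · rw [mem_img, β.symm_apply_apply]
      exact hn
    · exact (h.2.2 w n).symm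
  · rintro ⟨n, hn, w, rfl⟩
    refine ⟨_, ⟨β.symm n, hn, α.symm w, rfl⟩, ?_⟩
    show y • φ _ = _
    rw [h.2.2, α.apply_symm_apply, β.apply_symm_apply]

omit [CharP K 2] in
theorem ya_emb_swp {y : Y} {σ : K ≃+* K} {α : W ≃+ W'} {β : W' ≃+ W} (h : Swp φ y σ α β) (N : Submodule K W) :
    ya y (emb φ N) = emb' φ (img σ α h.1 N) := by
  unfold ya emb emb'
  rw [AddMonoidHom.map_closure]
  congr 1
  ext x
  constructor
  · rintro ⟨_, ⟨n, hn, w', rfl⟩, rfl⟩
    refine ⟨α n, ?_, β w', ?_⟩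
    · rw [mem_img, α.symm_apply_apply]
      exact hn
    · exact (h.2.2 n w').symm
  · rintro ⟨n, hn, w', rfl⟩
    refine ⟨_, ⟨α.symm n, hn, β.symm w', rfl⟩, ?_⟩
    show y • φ _ = _
    rw [h.2.2, α.apply_symm_apply, β.apply_symm_apply]

omit [CharP K 2] in
theorem mem_emb {N : Submodule K W} {w : W} {w' : W'} (hw' : w' ≠ 0) : φ (w ⊗ₜ w') ∈ emb φ N ↔ w ∈ N := by
  constructor
  · intro h
    by_contra hw
    obtain ⟨f, hf, hfN⟩ := Submodule.exists_dual_map_eq_bot_of_notMem hw inferInstance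
    let Φ : M →+ W' := (Pure.con' f).toAddMonoidHom.comp φ.symm.toAddEquiv.toAddMonoidHom
    have hΦ : ∀ x, Φ (φ x) = Pure.con' f x := fun x => by
      show Pure.con' f (φ.symm (φ x)) = _
      rw [φ.symm_apply_apply]
    have h1 : emb φ N ≤ Φ.ker := by
      unfold emb
      rw [AddSubgroup.closure_le]
      rintro _ ⟨n, hn, w₁, rfl⟩
      show Φ _ = 0
      rw [hΦ, Pure.con'_tmul]
      have h2 : f n ∈ N.map f := ⟨n, hn, rfl⟩
      rw [hfN, Submodule.mem_bot] at h2
      rw [h2, zero_smul]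
    have h2 : Φ (φ (w ⊗ₜ w')) = 0 := h1 h
    rw [hΦ, Pure.con'_tmul, smul_eq_zero] at h2
    exact h2.elim hf hw'
  · intro h
    exact AddSubgroup.subset_closure ⟨w, h, w', rfl⟩

omit [CharP K 2] in
theorem emb_inj [Nontrivial W'] {N N₁ : Submodule K W} (h : emb φ N = emb φ N₁) : N = N₁ := by
  obtain ⟨w', hw'⟩ := exists_ne (0 : W')
  ext w
  rw [← mem_emb (φ := φ) hw', h, mem_emb hw']

omit [CharP K 2] in
theorem sup_ne_top {N : Submodule K W} {N' : Submodule K W'} (hN : N ≠ ⊤) (hN' : N' ≠ ⊤) :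
    emb φ N ⊔ emb' φ N' ≠ ⊤ := by
  obtain ⟨w, -, hw⟩ := SetLike.exists_of_lt (lt_top_iff_ne_top.mpr hN)
  obtain ⟨w', -, hw'⟩ := SetLike.exists_of_lt (lt_top_iff_ne_top.mpr hN')
  obtain ⟨f, hf, hfN⟩ := Submodule.exists_dual_map_eq_bot_of_notMem hw inferInstance
  obtain ⟨f', hf', hfN'⟩ := Submodule.exists_dual_map_eq_bot_of_notMem hw' inferInstance
  intro htop
  let Φ : M →+ K := (f' ∘ₗ Pure.con' f).toAddMonoidHom.comp φ.symm.toAddEquiv.toAddMonoidHom
  have hΦ : ∀ a b, Φ (φ (a ⊗ₜ b)) = f a * f' b := fun a b => by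
    show f' (Pure.con' f (φ.symm (φ _))) = _
    rw [φ.symm_apply_apply, Pure.con'_tmul, map_smul, smul_eq_mul]
  have h1 : emb φ N ⊔ emb' φ N' ≤ Φ.ker := by
    apply sup_le
    · unfold emb
      rw [AddSubgroup.closure_le]
      rintro _ ⟨n, hn, w₁, rfl⟩
      show Φ _ = 0
      have h2 : f n ∈ N.map f := ⟨n, hn, rfl⟩
      rw [hfN, Submodule.mem_bot] at h2
      rw [hΦ, h2, zero_mul]
    · unfold emb'
      rw [AddSubgroup.closure_le]
      rintro _ ⟨n, hn, w₁, rfl⟩
      show Φ _ = 0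
      have h2 : f' n ∈ N'.map f' := ⟨n, hn, rfl⟩
      rw [hfN', Submodule.mem_bot] at h2
      rw [hΦ, h2, mul_zero]
  rw [htop] at h1
  have h2 : Φ (φ (w ⊗ₜ w')) = 0 := h1 (AddSubgroup.mem_top _)
  rw [hΦ, mul_eq_zero] at h2
  exact h2.elim hf hf'

omit [CharP K 2] in
theorem img_ne_top {X X' : Type*} [AddCommGroup X] [Module K X] [AddCommGroup X'] [Module K X'] {σ : K ≃+* K}
    {α : X ≃+ X'} {h : ∀ (k : K) (x : X), α (k • x) = σ k • α x} {N : Submodule K X} (hN : N ≠ ⊤) :
    img σ α h N ≠ ⊤ := by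
  intro htop
  apply hN
  rw [eq_top_iff]
  intro x _
  have h1 : α x ∈ img σ α h N := by rw [htop]; exact Submodule.mem_top
  rwa [mem_img, α.symm_apply_apply] at h1

end basic

/-! ### fixed points -/

/-- a 2-group permuting the values of an injective family of odd cardinality fixes one -/
theorem exists_fix {Y M : Type*} [Group Y] [AddCommGroup M] [DistribMulAction Y M] {T₀ : Subgroup Y}
    (hT : IsPGroup 2 T₀) {Ω : Type*} [Finite Ω] (hodd : Odd (Nat.card Ω)) {F : Ω → AddSubgroup M}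
    (hF : Function.Injective F) (hst : ∀ t ∈ T₀, ∀ x, ∃ x', ya t (F x) = F x') :
    ∃ x, ∀ t ∈ T₀, ya t (F x) = F x := by
  classical
  let _ : MulAction T₀ (Set.range F) :=
    { smul := fun t A => ⟨ya (t : Y) A.1, by
        obtain ⟨x, hx⟩ := A.2
        obtain ⟨x', h⟩ := hst t t.2 x
        exact ⟨x', by rw [← hx, h]⟩⟩
      one_smul := fun A => Subtype.ext (ya_one _)
      mul_smul := fun s t A => Subtype.ext (ya_ya _ _ _).symm }
  have : Fact (Nat.Prime 2) := ⟨Nat.prime_two⟩
  have hc : Nat.card (Set.range F) = Nat.card Ω := Nat.card_range_of_injective hF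
  obtain ⟨A, hA⟩ := hT.nonempty_fixed_point_of_prime_not_dvd_card (Set.range F) (by
    rw [hc, ← even_iff_two_dvd, Nat.not_even_iff_odd]
    exact hodd)
  obtain ⟨x, hx⟩ := A.2
  refine ⟨x, fun t ht => ?_⟩
  have h1 := congrArg Subtype.val (hA ⟨t, ht⟩)
  change ya t A.1 = A.1 at h1
  rwa [← hx] at h1

/-- the number of points is odd -/
theorem odd_points {K X : Type*} [Field K] [CharP K 2] [AddCommGroup X] [Module K X] [Finite X] [Nontrivial X] :
    Odd (Nat.card (Projectivization K X)) := by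
  have h1 := Projectivization.card K X
  have h2 : Even (Nat.card X) := EH3.Clif.even_card_of_add_self (fun a => add_self_eq (K := K) a) (exists_ne 0)
  have h3 : 0 < Nat.card X := Nat.card_pos
  have h4 : Odd (Nat.card X - 1) := by
    obtain ⟨k, hk⟩ := h2
    exact ⟨k - 1, by omega⟩
  rw [h1] at h4
  exact (Nat.odd_mul.mp h4).1

section two

variable {K W W' M Y : Type*} [Field K] [AddCommGroup W] [Module K W] [AddCommGroup W'] [Module K W']
  [AddCommGroup M] [Module K M] [Group Y] [DistribMulAction Y M] {φ : W ⊗[K] W' ≃ₗ[K] M} {T : Sylow 2 Y}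
  {Mx : Subgroup Y}

theorem ya_sup (y : Y) (A B : AddSubgroup M) : ya y (A ⊔ B) = ya y A ⊔ ya y B := AddSubgroup.map_sup _ _ _

theorem ya_bot (y : Y) : ya y (⊥ : AddSubgroup M) = ⊥ := AddSubgroup.map_bot _

theorem ya_top (y : Y) : ya y (⊤ : AddSubgroup M) = ⊤ := by
  rw [eq_top_iff]
  intro m _
  rw [mem_ya]
  exact AddSubgroup.mem_top _

/-- the stabiliser of `N ⊗ W' + W ⊗ N'` -/
theorem stab_le (h : Grp.MinP T Mx) (hirr : Irred Y M) (hps : ∀ y : Y, IsPure φ y ∨ IsSwap φ y) {s : Y}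
    (hsT : s ∈ T) (hs : IsSwap φ s) [Nontrivial W'] {N : Submodule K W} (hN0 : N ≠ ⊥) (hN1 : N ≠ ⊤)
    (hT : ∀ t ∈ T, IsPure φ t → ya t (emb φ N) = emb φ N) {y : Y} {σ : K ≃+* K} {α : W ≃+ W}
    (hy : Pur φ y σ α (AddEquiv.refl W')) (hyN : ya y (emb φ N) = emb φ N) : y ∈ Mx := by
  set A := emb φ N with hA
  set B := A ⊔ ya s A with hB
  obtain ⟨τ, γ, δ, hs⟩ := hs
  have hsA : ya s A = emb' φ (img τ γ hs.1 N) := ya_emb_swp hs N
  have hBt : B ≠ ⊤ := by
    rw [hB, hsA]
    exact sup_ne_top hN1 (img_ne_top hN1)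
  have hBb : B ≠ ⊥ := by
    intro h0
    obtain ⟨w', hw'⟩ := exists_ne (0 : W')
    obtain ⟨n, hn, hn0⟩ := Submodule.exists_mem_ne_zero_of_ne_bot hN0
    have h1 : φ (n ⊗ₜ w') ∈ B := (le_sup_left : A ≤ B) ((mem_emb hw').mpr hn)
    rw [h0, AddSubgroup.mem_bot, LinearEquiv.map_eq_zero_iff] at h1
    exact Pure.tmul_ne_zero hn0 hw' h1
  let St : Subgroup Y :=
    { carrier := {y | ya y B = B}
      one_mem' := ya_one B
      mul_mem' := by
        intro x y hx hy
        show ya (x * y) B = B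
        rw [← ya_ya, hy, hx]
      inv_mem' := by
        intro x hx
        show ya x⁻¹ B = B
        have h1 : ya x⁻¹ (ya x B) = B := by rw [ya_ya, inv_mul_cancel, ya_one]
        rwa [show ya x B = B from hx] at h1 }
  have hSt : St ≤ Mx := by
    apply h.max
    · intro t ht
      show ya t B = B
      have hs' : IsSwap φ s := ⟨_, _, _, hs⟩
      rcases hps t with hp | hp
      · rw [hB, ya_sup, hT t ht hp, ya_ya]
        congr 1
        have h1 : s⁻¹ * (t * s) ∈ T := T.mul_mem (T.inv_mem hsT) (T.mul_mem ht hsT)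
        have h2 : IsPure φ (s⁻¹ * (t * s)) := hs'.inv.mul (hp.mul_swap hs')
        have h4 := hT _ h1 h2
        have h5 := congrArg (ya s) h4
        rw [ya_ya] at h5
        have e : s * (s⁻¹ * (t * s)) = t * s := by group
        rw [e] at h5
        exact h5
      · have h1 : ya t A = ya s A := by
          have h2 := hT (s⁻¹ * t) (T.mul_mem (T.inv_mem hsT) ht) (hs'.inv.mul hp)
          have h3 := congrArg (ya s) h2
          rwa [ya_ya, mul_inv_cancel_left] at h3
        have h2 : ya t (ya s A) = A := by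
          rw [ya_ya]
          exact hT _ (T.mul_mem ht hsT) (hp.mul hs')
        rw [hB, ya_sup, h1, h2, sup_comm]
    · intro htop
      rcases hirr B (fun y m hm => by
        have h1 : y ∈ St := by rw [htop]; exact Subgroup.mem_top y
        have h2 : ya y B = B := h1
        rw [← h2]
        exact ⟨m, hm, rfl⟩) with h1 | h1
      · exact hBb h1
      · exact hBt h1
  apply hSt
  show ya y B = B
  rw [hB, ya_sup, hyN, hsA, ya_emb' hy]
  rfl

theorem img_span {σ : K ≃+* K} {α : W ≃+ W} (h : ∀ (k : K) (x : W), α (k • x) = σ k • α x) (v : W) :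
    img σ α h (Submodule.span K {v}) = Submodule.span K {α v} := by
  ext x
  rw [mem_img, Submodule.mem_span_singleton, Submodule.mem_span_singleton]
  constructor
  · rintro ⟨a, ha⟩
    refine ⟨σ a, ?_⟩
    rw [← h, ha, α.apply_symm_apply]
  · rintro ⟨b, rfl⟩
    refine ⟨σ.symm b, ?_⟩
    rw [symm_smul h, α.symm_apply_apply]

/-- the kernel of a functional, as a function of the line -/
def hk (f : Dual K W) : Submodule K W := LinearMap.ker f

theorem hk_inj {f g : Dual K W} (hf : f ≠ 0) (h : hk f = hk g) : ∃ a : K, a • f = g := by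
  obtain ⟨v, hv⟩ : ∃ v, f v ≠ 0 := by
    by_contra hcon
    push Not at hcon
    exact hf (LinearMap.ext hcon)
  refine ⟨g v * (f v)⁻¹, ?_⟩
  ext w
  have h4 : w - (f w * (f v)⁻¹) • v ∈ hk f := by
    show f _ = 0
    rw [map_sub, map_smul, smul_eq_mul, mul_assoc, inv_mul_cancel₀ hv, mul_one, sub_self]
  rw [h] at h4
  have h5 : g (w - (f w * (f v)⁻¹) • v) = 0 := h4
  rw [map_sub, map_smul, smul_eq_mul, sub_eq_zero] at h5
  rw [h5, LinearMap.smul_apply, smul_eq_mul]
  ring

theorem img_hk {σ : K ≃+* K} {α : W ≃+ W} (h : ∀ (k : K) (x : W), α (k • x) = σ k • α x) (f : Dual K W) :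
    img σ α h (hk f) = hk (tw σ α h f) := by
  ext x
  show f (α.symm x) = 0 ↔ σ (f (α.symm x)) = 0
  rw [map_eq_zero_iff σ σ.injective]

theorem tw_ne_zero {σ : K ≃+* K} {α : W ≃+ W} (h : ∀ (k : K) (x : W), α (k • x) = σ k • α x) {f : Dual K W}
    (hf : f ≠ 0) : tw σ α h f ≠ 0 := by
  intro h0
  apply hf
  ext w
  have h1 : tw σ α h f (α w) = 0 := by rw [h0]; rfl
  rw [tw_apply, α.symm_apply_apply] at h1
  exact (map_eq_zero_iff σ σ.injective).mp h1

variable [CharP K 2] [Finite K]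

/-- **(6b)** `dim W = 2` -/
theorem finrank_eq_two [Finite Y] [Finite W] [Finite W'] (h : Grp.MinP T Mx)
    (faith : ∀ y : Y, (∀ m : M, y • m = m) → y = 1) (hirr : Irred Y M)
    (hps : ∀ y : Y, IsPure φ y ∨ IsSwap φ y) {s : Y} (hsT : s ∈ T) (hs : IsSwap φ s)
    (hall : ∀ (f : Dual K W) (h : W), f h = 0 → ∃ y : Y, Ind φ f h y) (hd : 2 ≤ finrank K W) :
    finrank K W = 2 := by
  classical
  have : Module.Finite K W := Module.Finite.of_finite
  by_contra hne
  have hd3 : 3 ≤ finrank K W := by omega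
  have hWnt : Nontrivial W := Module.nontrivial_of_finrank_pos (R := K) (by omega)
  have hW'nt : Nontrivial W' := by
    obtain ⟨_, α, _, _⟩ := hs
    exact α.symm.toEquiv.nontrivial
  have hDf : Finite (Dual K W) := Module.finite_of_finite K
  have hDnt : Nontrivial (Dual K W) := by
    obtain ⟨v, hv⟩ := exists_ne (0 : W)
    obtain ⟨f, hf⟩ := Pure.exists_dual (K := K) hv
    exact ⟨f, 0, fun h0 => by rw [h0] at hf; exact zero_ne_one hf⟩
  -- the pure part of `T`
  let T₀ : Subgroup Y := (T : Subgroup Y) ⊓ pureSub φ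
  have hT₀ : IsPGroup 2 T₀ := T.2.to_le inf_le_left
  -- a fixed point
  obtain ⟨x, hx⟩ := exists_fix (M := M) hT₀ (Ω := Projectivization K W) odd_points
    (F := fun x => emb φ x.submodule) (fun a b hab => Projectivization.submodule_injective (emb_inj hab)) (by
      rintro t ⟨-, σ, α, β, ht⟩ x
      refine ⟨Projectivization.mk K (α x.rep) (by
        rw [Ne, AddEquiv.map_eq_zero_iff]; exact x.rep_nonzero), ?_⟩
      show ya t (emb φ x.submodule) = emb φ (Projectivization.mk K (α x.rep) _).submodule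
      rw [ya_emb ht, Projectivization.submodule_mk, Projectivization.submodule_eq, img_span])
  -- a fixed hyperplane
  obtain ⟨z, hz⟩ := exists_fix (M := M) hT₀ (Ω := Projectivization K (Dual K W)) odd_points
    (F := fun x => emb φ (hk x.rep)) (fun a b hab => by
      obtain ⟨c, hc⟩ := hk_inj b.rep_nonzero (emb_inj hab).symm
      rw [← a.mk_rep, ← b.mk_rep, Projectivization.mk_eq_mk_iff']
      exact ⟨c, hc⟩) (by
      rintro t ⟨-, σ, α, β, ht⟩ x
      refine ⟨Projectivization.mk K (tw σ α ht.1 x.rep) (tw_ne_zero _ x.rep_nonzero), ?_⟩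
      show ya t (emb φ (hk x.rep)) = emb φ (hk (Projectivization.mk K (tw σ α ht.1 x.rep) _).rep)
      rw [ya_emb ht, img_hk]
      obtain ⟨a, ha⟩ := Projectivization.exists_smul_eq_mk_rep K (tw σ α ht.1 x.rep) (tw_ne_zero _ x.rep_nonzero)
      rw [← ha]
      congr 1
      ext w
      show _ = 0 ↔ (a : K) • (tw σ α ht.1 x.rep w) = 0
      rw [smul_eq_zero, or_iff_right a.ne_zero])
  set p₀ := x.rep with hp₀
  have hp0 : p₀ ≠ 0 := x.rep_nonzero
  set g₀ := z.rep with hg₀
  have hg0 : g₀ ≠ 0 := z.rep_nonzero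
  have hfr1 : finrank K (Submodule.span K {p₀}) = 1 := finrank_span_singleton hp0
  have hfr2 : finrank K (hk g₀) + 1 = finrank K W := Module.Dual.finrank_ker_add_one_of_ne_zero hg0
  -- transvections fixing the point
  have hP : ∀ (f : Dual K W) (u : W) (y : Y), f u = 0 → Ind φ f u y → f p₀ = 0 → y ∈ Mx := by
    intro f u y hu hy hf
    refine stab_le h hirr hps hsT hs (N := Submodule.span K {p₀}) ?_ ?_ ?_ (hy.pur hu) ?_
    · intro h0
      rw [h0, finrank_bot] at hfr1
      omega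
    · intro h0
      rw [h0, finrank_top] at hfr1
      omega
    · intro t ht hpt
      have h1 := hx t ⟨ht, hpt⟩
      change ya t (emb φ x.submodule) = emb φ x.submodule at h1
      rwa [Projectivization.submodule_eq] at h1
    · rw [ya_emb (hy.pur hu), img_span]
      congr 2
      rw [tv_apply, hf, zero_smul, add_zero]
  -- transvections fixing the hyperplane
  have hH : ∀ (f : Dual K W) (u : W) (y : Y), f u = 0 → Ind φ f u y → g₀ u = 0 → y ∈ Mx := by
    intro f u y hu hy hf
    refine stab_le h hirr hps hsT hs (N := hk g₀) ?_ ?_ ?_ (hy.pur hu) ?_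
    · intro h0
      rw [h0, finrank_bot] at hfr2
      omega
    · intro h0
      rw [h0, finrank_top] at hfr2
      omega
    · intro t ht hpt
      exact hz t ⟨ht, hpt⟩
    · rw [ya_emb (hy.pur hu), img_hk]
      congr 1
      ext w
      show g₀ ((tv f u hu).symm w) = 0 ↔ g₀ w = 0
      rw [tv_symm_apply, map_add, map_smul, hf, smul_zero, add_zero]
  -- all transvections
  have hA : ∀ (f : Dual K W) (u : W) (y : Y), f u = 0 → Ind φ f u y → y ∈ Mx := by
    intro f u y hu hy
    by_cases hfp : f p₀ = 0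
    · exact hP f u y hu hy hfp
    by_cases hgu : g₀ u = 0
    · exact hH f u y hu hy hgu
    -- `k ∈ ker g₀`, not in `⟨u, p₀⟩`
    obtain ⟨k, hk1, hk2⟩ : ∃ k ∈ hk g₀, k ∉ Submodule.span K {u, p₀} := by
      by_contra hcon
      push Not at hcon
      have h1 : hk g₀ ≤ Submodule.span K {u, p₀} := hcon
      have h2 : finrank K (Submodule.span K ({u, p₀} : Set W)) ≤ 2 := by
        have h3 := finrank_span_finset_le_card (R := K) ({u, p₀} : Finset W)
        rw [Finset.coe_pair] at h3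
        exact h3.trans Finset.card_le_two
      have h3 : hk g₀ = Submodule.span K {u, p₀} := Submodule.eq_of_le_of_finrank_le h1 (by omega)
      apply hgu
      have h4 : u ∈ hk g₀ := by
        rw [h3]
        exact Submodule.subset_span (Set.mem_insert _ _)
      exact h4
    -- the functional
    have hn : u ∉ Submodule.span K {p₀, k - u} := by
      intro h1
      rw [Submodule.mem_span_pair] at h1
      obtain ⟨a, b, hab⟩ := h1
      by_cases hb : b = 0
      · rw [hb, zero_smul, add_zero] at hab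
        have h2 := congrArg f hab
        rw [map_smul, hu, smul_eq_mul, mul_eq_zero] at h2
        have h3 := h2.resolve_right hfp
        rw [h3, zero_smul] at hab
        rw [← hab, map_zero] at hgu
        exact hgu rfl
      · apply hk2
        rw [Submodule.mem_span_pair]
        refine ⟨b⁻¹ * (1 + b), - (b⁻¹ * a), ?_⟩
        have h2 : b • k = (1 + b) • u - a • p₀ := by
          have h3 : a • p₀ + (b • k - b • u) = u := by rw [← smul_sub]; exact hab
          have h4 : b • k = u - a • p₀ + b • u := by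
            rw [← sub_eq_iff_eq_add, eq_sub_iff_add_eq']
            exact h3
          rw [h4, add_smul, one_smul]
          abel
        have h5 : k = b⁻¹ • (b • k) := by rw [smul_smul, inv_mul_cancel₀ hb, one_smul]
        rw [h5, h2, smul_sub, smul_smul, smul_smul, neg_smul, sub_eq_add_neg]
    obtain ⟨g₁, hg₁, hg₁'⟩ := Submodule.exists_dual_map_eq_bot_of_notMem hn inferInstance
    have hz1 : ∀ v ∈ Submodule.span K {p₀, k - u}, g₁ v = 0 := by
      intro v hv
      have h2 : g₁ v ∈ (Submodule.span K {p₀, k - u}).map g₁ := ⟨v, hv, rfl⟩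
      rwa [hg₁', Submodule.mem_bot] at h2
    let f' : Dual K W := (g₁ u)⁻¹ • g₁
    have hf'u : f' u = 1 := by
      show (g₁ u)⁻¹ • g₁ u = 1
      rw [smul_eq_mul, inv_mul_cancel₀ hg₁]
    have hf'p : f' p₀ = 0 := by
      show (g₁ u)⁻¹ • g₁ p₀ = 0
      rw [hz1 _ (Submodule.subset_span (Set.mem_insert _ _)), smul_zero]
    have hf'k : f' (k - u) = 0 := by
      show (g₁ u)⁻¹ • g₁ (k - u) = 0
      rw [hz1 _ (Submodule.subset_span (Set.mem_insert_of_mem _ rfl)), smul_zero]
    obtain ⟨g, hg⟩ := hall f' (k - u) hf'k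
    have hgM : g ∈ Mx := hP f' _ g hf'k hg hf'p
    have hpg := hg.pur hf'k
    have h1 := hy.conj hpg
    have h2 : tv f' (k - u) hf'k u = k := by
      rw [tv_apply, hf'u, one_smul]
      abel
    rw [h2] at h1
    have h3 : g * y * g⁻¹ ∈ Mx := by
      refine hH _ k _ ?_ h1 hk1
      have h5 : (tv f' (k - u) hf'k).symm k = u := by
        rw [AddEquiv.symm_apply_eq]
        exact h2.symm
      rw [tw_apply, h5, hu, map_zero]
    have h4 := Mx.mul_mem (Mx.mul_mem (Mx.inv_mem hgM) h3) hgM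
    have e : g⁻¹ * (g * y * g⁻¹) * g = y := by group
    rwa [e] at h4
  -- the normal closure
  let 𝒯 : Set Y := {y | ∃ (f : Dual K W) (u : W), f u = 0 ∧ Ind φ f u y}
  have h𝒯 : ∀ y ∈ 𝒯, y ∈ Mx := by
    rintro y ⟨f, u, hu, hy⟩
    exact hA f u y hu hy
  have h𝒯c : ∀ y ∈ 𝒯, ∀ g : Y, IsPure φ g → g * y * g⁻¹ ∈ 𝒯 := by
    rintro y ⟨f, u, hu, hy⟩ g ⟨σ, α, β, hg⟩
    refine ⟨_, _, ?_, hy.conj hg⟩
    rw [tw_apply, AddEquiv.symm_apply_apply, hu, map_zero]
  have hsM : s ∈ Mx := h.TM hsT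
  let X : Subgroup Y := Subgroup.normalClosure 𝒯
  have hX : X ≤ Mx := by
    show Subgroup.closure (Group.conjugatesOfSet 𝒯) ≤ Mx
    rw [Subgroup.closure_le]
    intro x hx
    rw [Group.mem_conjugatesOfSet_iff] at hx
    obtain ⟨y, hy, hc⟩ := hx
    rw [isConj_iff] at hc
    obtain ⟨c, rfl⟩ := hc
    rcases hps c with hp | hp
    · exact h𝒯 _ (h𝒯c y hy c hp)
    · have h1 := h𝒯 _ (h𝒯c y hy _ (hs.inv.mul hp))
      have h2 := Mx.mul_mem (Mx.mul_mem hsM h1) (Mx.inv_mem hsM)
      have e : s * (s⁻¹ * c * y * (s⁻¹ * c)⁻¹) * s⁻¹ = c * y * c⁻¹ := by group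
      rwa [e] at h2
  -- even order
  obtain ⟨f, v, hfv⟩ : ∃ (f : Dual K W) (v : W), f v = 1 := by
    obtain ⟨v, hv⟩ := exists_ne (0 : W)
    obtain ⟨f, hf⟩ := Pure.exists_dual (K := K) hv
    exact ⟨f, v, hf⟩
  have hf0 : f ≠ 0 := by
    rintro rfl
    exact zero_ne_one hfv
  obtain ⟨u, hu, hu0⟩ : ∃ u, f u = 0 ∧ u ≠ 0 := by
    have h1 : finrank K (LinearMap.ker f) + 1 = finrank K W := Module.Dual.finrank_ker_add_one_of_ne_zero hf0
    have h2 : Nontrivial (LinearMap.ker f) := Module.nontrivial_of_finrank_pos (R := K) (by omega)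
    obtain ⟨u, hu⟩ := exists_ne (0 : LinearMap.ker f)
    exact ⟨u, u.2, fun h0 => hu (Subtype.ext h0)⟩
  obtain ⟨y, hy⟩ := hall f u hu
  have hext : ∀ y : Y, (∀ w w', y • φ (w ⊗ₜ w') = φ (w ⊗ₜ w')) → y = 1 := by
    intro y hy
    apply faith
    intro m
    obtain ⟨m, rfl⟩ := φ.surjective m
    induction m with
    | zero => rw [map_zero, smul_zero]
    | tmul a b => exact hy a b
    | add a b ha hb => rw [map_add, smul_add, ha, hb]
  have hy2 : y * y = 1 := by
    apply hext
    intro w w'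
    rw [mul_smul, hy, hy, map_add, map_smul, hu, smul_zero, add_zero, add_assoc, add_self_eq (K := K), add_zero]
  have hy1 : y ≠ 1 := by
    rintro rfl
    obtain ⟨w', hw'⟩ := exists_ne (0 : W')
    have h1 := hy v w'
    rw [one_smul, hfv, one_smul] at h1
    have h2 := φ.injective h1
    rw [TensorProduct.add_tmul, left_eq_add] at h2
    exact Pure.tmul_ne_zero hu0 hw' h2
  have hyX : y ∈ X := Subgroup.subset_normalClosure ⟨f, u, hu, hy⟩
  have h2 : 2 ∣ Nat.card X := by
    have h3 : orderOf y = 2 := by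
      have : Fact (Nat.Prime 2) := ⟨Nat.prime_two⟩
      exact orderOf_eq_prime (by rw [pow_two, hy2]) hy1
    rw [← h3]
    exact Subgroup.orderOf_dvd_natCard X hyX
  have h3 := h.fr (X := X) Subgroup.normalClosure_normal h2
  apply h.Mne
  rw [eq_top_iff, ← h3]
  exact sup_le hX h.TM

omit [CharP K 2] in
theorem finrank_swap [Finite W] [Finite W'] {s : Y} (hs : IsSwap φ s) : finrank K W' = finrank K W := by
  have : Module.Finite K W := Module.Finite.of_finite
  have : Module.Finite K W' := Module.Finite.of_finite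
  obtain ⟨σ, α, β, hs⟩ := hs
  have h1 : Nat.card W = Nat.card W' := Nat.card_congr α.toEquiv
  rw [Module.natCard_eq_pow_finrank (K := K), Module.natCard_eq_pow_finrank (K := K) (V := W')] at h1
  exact (Nat.pow_right_injective (Finite.one_lt_card (α := K)) h1).symm

end two

end Cfsg.Agent.Omega.NO1.Comp.Six

end

section


/-!
# THEOREM COMP (#17539): assembly, two components (helper789)

`Inp.pair` : two components: `M = W ⊗ W'`, every `y` is a pure tensor or a swap, the full transvection group with one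
axis is induced on `W`, `|K| = |M : E|`.
-/

set_option autoImplicit false
set_option linter.unusedSectionVars false
set_option maxHeartbeats 400000

namespace Cfsg.Agent.Omega.NO1.Comp

open Module TensorProduct Cfsg.Agent.Lib.ComponentSolvable Subgroup
open Cfsg.Agent.Omega.EH3.Clif.Comp (ne_bot perf_sSup comm_sSup commutator_self)
open Cfsg.Agent.Omega.NO1.Comp.Six (Pur Swp IsPure IsSwap Ind finrank_swap)
open Cfsg.Agent.S1270 (component_conj)

universe u

variable {Y M : Type u} [Group Y] [AddCommGroup M] [DistribMulAction Y M]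
variable {U : Subgroup Y} {E F : AddSubgroup M} {K : Type u} [Field K] [Module K M]
variable [Finite Y] [Finite M] [FaithfulSMul Y M] [Finite K] [CharP K 2]

/-- the output of (3) - (5) for two components -/
structure POut (T : Sylow 2 Y) (E : AddSubgroup M) {W W' : Type u} [AddCommGroup W] [Module K W] [AddCommGroup W']
    [Module K W'] (φ : W ⊗[K] W' ≃ₗ[K] M) : Prop where
  fin : Finite W
  fin' : Finite W'
  d : 2 ≤ finrank K W
  ps : ∀ y : Y, IsPure φ y ∨ IsSwap φ y
  sw : ∃ s ∈ T, IsSwap φ s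
  tv : ∃ f₀ : Dual K W, f₀ ≠ 0 ∧ ∀ h, f₀ h = 0 → ∃ y : Y, Ind φ f₀ h y
  irr : ∀ N : Submodule K W, (∀ (y : Y) σ α β, Pur φ y σ α β → ∀ w ∈ N, α w ∈ N) → N = ⊥ ∨ N = ⊤
  card : Nat.card M = Nat.card K * Nat.card E

/-- **two components** -/
theorem Inp.pair (h : Inp U E F) (hf : Fld U K M) {T : Sylow 2 Y} {Mx K₁ K₂ : Subgroup Y} (S : Grp.Sit T Mx K₁)
    (h2 : IsComponent K₂) (h12 : K₁ ≠ K₂) :
    ∃ (W W' : Type u) (_ : AddCommGroup W) (_ : Module K W) (_ : AddCommGroup W') (_ : Module K W')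
      (φ : W ⊗[K] W' ≃ₗ[K] M), POut (Y := Y) T E φ := by
  have h1 : IsComponent K₁ := S.comp
  have := h.nontrivial
  have c₁₂ : ∀ x ∈ K₁, ∀ y ∈ K₂, x * y = y * x := by
    have h3 := comm_sSup (s := {K₁}) (t := {K₂}) (by
      intro M hM
      rw [Set.mem_singleton_iff.mp hM]
      exact h1) (by
      intro M hM
      rw [Set.mem_singleton_iff.mp hM]
      exact h2) (by
      intro M hM hM'
      exact h12 ((Set.mem_singleton_iff.mp hM).symm.trans (Set.mem_singleton_iff.mp hM')))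
    rwa [sSup_singleton, sSup_singleton] at h3
  have l₁ : K₁ ≤ layer Y := le_sSup h1
  have l₂ : K₂ ≤ layer Y := le_sSup h2
  have hsup : K₁ ⊔ K₂ = layer Y := by
    apply le_antisymm (sup_le l₁ l₂)
    refine sSup_le fun J hJ => ?_
    rcases h.two hf h1 h2 hJ h12 with h3 | h3
    · rw [h3]; exact le_sup_left
    · rw [h3]; exact le_sup_right
  have hT : Two (linSet K M (K₁ : Set Y)) (linSet K M (K₂ : Set Y)) := two_of c₁₂ (by rw [hsup]; exact hf.lin)
    (by rw [hsup]; exact h.irr) (by rw [hsup]; exact hf.sch)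
  obtain ⟨W, W', _, _, _, _, ⟨D⟩⟩ := exists_dec hT
  have := D.finL
  have := D.finR
  have := D.neL
  have := D.neR
  have hfW : Module.Finite K W := Module.Finite.of_finite
  have hfW' : Module.Finite K W' := Module.Finite.of_finite
  have hsq : ∀ u : U, u * u = 1 := fun u => Subtype.ext (h.sq u u.2)
  obtain ⟨rA, rB, hr⟩ := D.exists_homs hT (actK hf.hl) hsq (fun u l hl =>
    linSet_conj (fun y hy => hf.lin y (l₁ hy)) (fun n hn => (mem_normalizer_iff.1 (h.norm hf h1 u.2) n).1 hn) hl)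
  have dW := (dim_of (K := K) (V := M) (commutator_self h1) (ne_bot h1) (fun y hy => hf.lin y (l₁ hy)) D.φ D.ρ
    (fun l hl w m => D.hl l hl w m)).1
  have dW' := (dim_of (K := K) (V := M) (commutator_self h2) (ne_bot h2) (fun y hy => hf.lin y (l₂ hy)) D.symm.φ D.ρ'
    (fun l hl w m => D.symm.hl l hl w m)).1
  have hφ : ∀ (u : U) w m, (u : Y) • D.φ (w ⊗ₜ m) = D.φ (rA u w ⊗ₜ rB u m) := fun u w m => hr u (w ⊗ₜ m)
  have P : PFlat rA rB (trAct hf.hl D.φ) _ _ :=
    { flat := h.kflat hf D.φ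
      act_eq := fun u => by
        apply TensorProduct.ext'
        intro a m
        rw [trAct_apply, LinearEquiv.symm_apply_eq]
        exact hφ u a m
      n := ks_tensor h.flat D.φ (fun u => rA u) (fun u => rB u) hφ dW
      n' := ks_tensor h.flat ((TensorProduct.comm K W' W).trans D.φ) (fun u => rB u) (fun u => rA u)
        (fun u m a => hφ u a m) dW'
      d := dW
      d' := dW' }
  -- conjugation
  have hconj : ∀ {N N' : Subgroup Y} {u : Y}, N.map (MulAut.conj u).toMonoidHom = N' → ∀ n ∈ N, u * n * u⁻¹ ∈ N' := by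
    intro N N' u h3 n hn
    rw [← h3]
    exact ⟨n, hn, rfl⟩
  have hconj' : ∀ {N N' : Subgroup Y} {u : Y}, N.map (MulAut.conj u).toMonoidHom = N' →
      ∀ n ∈ N', u⁻¹ * n * u ∈ N := by
    intro N N' u h3 n hn
    rw [← h3] at hn
    obtain ⟨m, hm, rfl⟩ := hn
    have h4 : u⁻¹ * (MulAut.conj u).toMonoidHom m * u = m := by
      show u⁻¹ * (u * m * u⁻¹) * u = m
      group
    rw [h4]
    exact hm
  have hback : ∀ {N N' : Subgroup Y} (hN : N ≤ layer Y) {u : Y}, N.map (MulAut.conj u).toMonoidHom = N' →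
      ∀ l' ∈ linSet K M (N' : Set Y), ∃ l ∈ linSet K M (N : Set Y), ∀ v, u • l v = l' (u • v) := by
    rintro N N' hN u h3 l' ⟨n, hn, hl'⟩
    refine ⟨linOf _ (hf.lin _ (hN (hconj' h3 n hn))), linOf_mem (hconj' h3 n hn) _, fun v => ?_⟩
    rw [hl', linOf_apply, smul_smul, smul_smul]
    congr 1
    group
  have hpure : ∀ y : Y, K₁.map (MulAut.conj y).toMonoidHom = K₁ → IsPure D.φ y := by
    intro y hy
    obtain ⟨σ, hσ⟩ := hf.semi y
    obtain ⟨α, β, h3, h4, h5, -⟩ := D.exists_pure hT σ (DistribMulAction.toAddEquiv M y) hσ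
      (fun l hl => linSet_conj (fun y hy => hf.lin y (l₁ hy)) (hconj hy) hl) (hback l₁ hy)
    exact ⟨σ, α, β, h3, h4, h5⟩
  have hswap : ∀ y : Y, K₁.map (MulAut.conj y).toMonoidHom = K₂ → IsSwap D.φ y := by
    intro y hy
    obtain ⟨σ, hσ⟩ := hf.semi y
    obtain ⟨α, β, h3, h4, h5⟩ := D.exists_swap hT σ (DistribMulAction.toAddEquiv M y) hσ
      (fun l hl => linSet_conj (fun y hy => hf.lin y (l₂ hy)) (hconj hy) hl) (hback l₁ hy)
    exact ⟨σ, α, β, h3, h4, h5⟩
  obtain ⟨s, hsT, hs⟩ := S.trans h2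
  have hswp := hswap s hs
  have hdim : finrank K W' = finrank K W := finrank_swap hswp
  obtain ⟨r, hr1, hr2⟩ := P.exists_cuW (fun h3 => by omega)
  obtain ⟨r', hr1', hr2'⟩ := P.symm.exists_cuW (fun h3 => by omega)
  have hCW := P.CW_eq hr1 hr2
  obtain ⟨x, hx⟩ : ∃ x : W, x ∉ CW rA := by
    by_contra hcon
    push Not at hcon
    exact P.CW_ne_top ((Submodule.eq_top_iff').2 hcon)
  obtain ⟨f₀, hf1, hf2⟩ := exists_dual_one hx
  have hker : LinearMap.ker f₀ = CW rA := by
    symm
    apply Submodule.eq_of_le_of_finrank_le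
    · intro y hy
      exact hf2 y hy
    · have h3 := f₀.finrank_range_add_finrank_ker
      have h4 : 0 < finrank K (LinearMap.range f₀) := by
        have h5 : Nontrivial (LinearMap.range f₀) := ⟨⟨⟨f₀ x, x, rfl⟩, 0, fun h6 => by
          have h7 : f₀ x = 0 := congrArg Subtype.val h6
          rw [hf1] at h7
          exact one_ne_zero h7⟩⟩
        exact Module.finrank_pos
      have h5 := P.balance.1
      rw [← hCW] at h5
      omega
  refine ⟨W, W', inferInstance, inferInstance, inferInstance, inferInstance, D.φ, ?_⟩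
  refine { fin := D.finL, fin' := D.finR, d := dW, ps := ?_, sw := ⟨s, hsT, hswp⟩, tv := ⟨f₀, ?_, ?_⟩, irr := ?_, card := ?_ }
  · intro y
    rcases h.two hf h1 h2 (component_conj h1 y) h12 with h3 | h3
    · exact Or.inl (hpure y h3)
    · exact Or.inr (hswap y h3)
  · rintro rfl
    exact zero_ne_one hf1
  · intro a ha
    have ha' : a ∈ CW rA := by rw [← hker]; exact ha
    obtain ⟨u, hu1, hu2⟩ := P.full hr1 hr2 hr1' hr2' hx ha'
    refine ⟨u, fun w w' => ?_⟩
    rw [hφ, hu1]
    congr 2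
    have h3 : w - f₀ w • x ∈ CW rA := by
      rw [← hker, LinearMap.mem_ker, map_sub, map_smul, hf1, smul_eq_mul, mul_one, sub_self]
    have h4 : w = f₀ w • x + (w - f₀ w • x) := by abel
    conv_lhs => rw [h4]
    rw [map_add, map_smul, hu2, h3 u, smul_add]
    abel
  · intro N hN
    refine D.irr hT N ?_
    rintro l ⟨y, hy, hl⟩ w hw
    have e1 : l = linOf y (hf.lin y (l₁ hy)) := by
      ext v
      exact hl v
    obtain ⟨m₀, hm₀⟩ := exists_ne (0 : W')
    have hy' : y⁻¹ ∈ K₁ := K₁.inv_mem hy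
    have a1 : ∀ w m, y • D.φ (w ⊗ₜ m) = D.φ (D.ρ (linOf y (hf.lin y (l₁ hy))) w ⊗ₜ m) := fun w m =>
      D.hl _ (linOf_mem hy _) w m
    have a2 : ∀ w m, y⁻¹ • D.φ (w ⊗ₜ m) = D.φ (D.ρ (linOf y⁻¹ (hf.lin _ (l₁ hy'))) w ⊗ₜ m) := fun w m =>
      D.hl _ (linOf_mem hy' _) w m
    rw [e1]
    refine hN y (RingEquiv.refl K)
      { toFun := D.ρ (linOf y (hf.lin y (l₁ hy)))
        invFun := D.ρ (linOf y⁻¹ (hf.lin _ (l₁ hy')))
        left_inv := fun w => D.inj_left hm₀ (by rw [← a2, ← a1, inv_smul_smul])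
        right_inv := fun w => D.inj_left hm₀ (by rw [← a1, ← a2, smul_inv_smul])
        map_add' := map_add _ } (AddEquiv.refl W') ⟨fun k w => map_smul (D.ρ (linOf y (hf.lin y (l₁ hy)))) k w,
        fun k w => rfl, fun w m => a1 w m⟩ w hw
  · have h3 := P.card_V hr1 hr2
    rw [Nat.card_congr D.φ.toEquiv] at h3
    rw [h3]
    congr 1
    have h4 : Nat.card ((h.flat.EK hf.hl).map D.φ.symm.toLinearMap) = Nat.card (h.flat.EK hf.hl) :=
      (Nat.card_congr (D.φ.symm.submoduleMap (h.flat.EK hf.hl)).toEquiv).symm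
    exact h4

end Cfsg.Agent.Omega.NO1.Comp

end

section


/-!
# N1, THEOREM COMP, (6c): `dim W = 2` ⟹ `SL(W)` is induced (project OMEGA; typed by helper570)
-/

set_option autoImplicit false
set_option linter.unusedSectionVars false

namespace Cfsg.Agent.Omega.NO1.Comp.Six

open TensorProduct Module

section mats

variable {K W : Type*} [Field K] [AddCommGroup W] [Module K W]

theorem toLin_transvection (b : Basis (Fin 2) K W) {i j : Fin 2} (hij : i ≠ j) (c : K) (a : W) :
    Matrix.toLin b b (Matrix.transvection i j c) a = a + (c • b.coord j) a • b i := by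
  have h4 : Matrix.toLin b b (Matrix.transvection i j c) =
      LinearMap.id + (c • b.coord j).smulRight (b i) := by
    apply b.ext
    intro l
    rw [Matrix.toLin_self, LinearMap.add_apply, LinearMap.id_apply, LinearMap.smulRight_apply,
      LinearMap.smul_apply, Basis.coord_apply, Basis.repr_self]
    fin_cases i <;> fin_cases j <;> fin_cases l <;>
      simp_all [Matrix.transvection, Matrix.single_apply, Fin.sum_univ_two, Matrix.one_apply, add_comm]
  rw [h4]
  rfl

end mats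

section two

variable {K W W' M Y : Type*} [Field K] [AddCommGroup W] [Module K W] [AddCommGroup W'] [Module K W']
  [AddCommGroup M] [Module K M] [Group Y] [DistribMulAction Y M] {φ : W ⊗[K] W' ≃ₗ[K] M}

/-- the matrix `g` is induced on `W` -/
def IndM (φ : W ⊗[K] W' ≃ₗ[K] M) (b : Basis (Fin 2) K W) (g : Matrix (Fin 2) (Fin 2) K) : Prop :=
  ∃ y : Y, ∀ x, y • φ x = φ (TensorProduct.map (Matrix.toLin b b g) LinearMap.id x)

theorem indM_mul {b : Basis (Fin 2) K W} {g₁ g₂ : Matrix (Fin 2) (Fin 2) K} (h₁ : IndM (Y := Y) φ b g₁)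
    (h₂ : IndM (Y := Y) φ b g₂) : IndM (Y := Y) φ b (g₁ * g₂) := by
  obtain ⟨y₁, h₁⟩ := h₁
  obtain ⟨y₂, h₂⟩ := h₂
  refine ⟨y₁ * y₂, fun x => ?_⟩
  rw [mul_smul, h₂, h₁, Matrix.toLin_mul b b b]
  congr 1
  induction x with
  | zero => rw [map_zero, map_zero, map_zero]
  | tmul a d => rfl
  | add u v hu hv => rw [map_add, map_add, map_add, hu, hv]

theorem indM_tv (hall : ∀ (f : Dual K W) (h : W), f h = 0 → ∃ y : Y, Ind φ f h y) (b : Basis (Fin 2) K W)
    {i j : Fin 2} (hij : i ≠ j) (c : K) : IndM (Y := Y) φ b (Matrix.transvection i j c) := by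
  obtain ⟨y, hy⟩ := hall (c • b.coord j) (b i) (by
    rw [LinearMap.smul_apply, Basis.coord_apply, Basis.repr_self, Finsupp.single_apply, if_neg hij, smul_zero])
  refine ⟨y, fun x => ?_⟩
  induction x with
  | zero => rw [map_zero, smul_zero, map_zero, map_zero]
  | tmul a d =>
    rw [hy, TensorProduct.map_tmul, toLin_transvection b hij c a]
    rfl
  | add u v hu hv => rw [map_add, smul_add, hu, hv, map_add, map_add]

theorem indM_sl (hall : ∀ (f : Dual K W) (h : W), f h = 0 → ∃ y : Y, Ind φ f h y) (b : Basis (Fin 2) K W)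
    (g : Matrix.SpecialLinearGroup (Fin 2) K) : IndM (Y := Y) φ b g.1 :=
  LieClassical.SLGen.transvection_induction (fun g => IndM (Y := Y) φ b g.1)
    (fun _ _ hij c => indM_tv hall b hij c) (fun _ _ h₁ h₂ => indM_mul h₁ h₂) g

/-- **(6c)** `dim W = 2`: every linear map of determinant 1 of `W` is induced -/
theorem sl_two (hall : ∀ (f : Dual K W) (h : W), f h = 0 → ∃ y : Y, Ind φ f h y) (hd : finrank K W = 2)
    (A : W →ₗ[K] W) (hA : LinearMap.det A = 1) :
    ∃ y : Y, ∀ x, y • φ x = φ (TensorProduct.map A LinearMap.id x) := by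
  have : Module.Finite K W := Module.finite_of_finrank_pos (by omega)
  let b : Basis (Fin 2) K W := Module.finBasisOfFinrankEq K W hd
  obtain ⟨y, hy⟩ := indM_sl hall b ⟨LinearMap.toMatrix b b A, by rw [LinearMap.det_toMatrix]; exact hA⟩
  refine ⟨y, fun x => ?_⟩
  have h1 : Matrix.toLin b b (LinearMap.toMatrix b b A) = A := Matrix.toLin_toMatrix b b A
  have h2 := hy x
  change y • φ x = φ (TensorProduct.map (Matrix.toLin b b (LinearMap.toMatrix b b A)) LinearMap.id x) at h2
  rw [h1] at h2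
  exact h2

/-- the same for `W'` -/
theorem sl_two' (hall : ∀ (f : Dual K W') (h : W'), f h = 0 → ∃ y : Y, Ind' φ f h y) (hd : finrank K W' = 2)
    (A : W' →ₗ[K] W') (hA : LinearMap.det A = 1) :
    ∃ y : Y, ∀ x, y • φ x = φ (TensorProduct.map LinearMap.id A x) := by
  obtain ⟨y, hy⟩ := sl_two (φ := (TensorProduct.comm K W' W).trans φ) (Y := Y) (fun f h hf => by
    obtain ⟨y, hy⟩ := hall f h hf
    exact ⟨y, fun w w' => hy w' w⟩) hd A hA
  refine ⟨y, fun x => ?_⟩
  have h1 := hy (TensorProduct.comm K W W' x)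
  have h2 : ((TensorProduct.comm K W' W).trans φ) (TensorProduct.comm K W W' x) = φ x := by
    show φ ((TensorProduct.comm K W' W) (TensorProduct.comm K W W' x)) = φ x
    congr 1
    exact (TensorProduct.comm K W W').symm_apply_apply x
  rw [h2] at h1
  rw [h1]
  show φ ((TensorProduct.comm K W' W) _) = _
  congr 1
  clear h1 h2 hy
  induction x with
  | zero => simp only [map_zero]
  | tmul a d => rfl
  | add u v hu hv => simp only [map_add]; rw [hu, hv]

end two

end Cfsg.Agent.Omega.NO1.Comp.Six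

end
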